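import Groth.Agent.Lib.FCat7.Vanish

/-!
# Acyclicity of affine opens for quasi-coherent modules and extensions
-/

set_option autoImplicit false
set_option linter.style.haveILetI false
set_option linter.unusedSectionVars false
universe u

open CategoryTheory CategoryTheory.Limits AlgebraicGeometry TopologicalSpace Opposite Abelian

noncomputable section

namespace GrothLib.FCat7

open GrothLib.FMod7

section MV

variable {T : Type u} [TopologicalSpace T]

/-- Sections on an intersection are differences when the first cohomology of the union vanishes. -/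
theorem exists_sub_of_subsingleton (F : Cohom.AbSheaf T) {U V W : Opens T} (hU : V ⊔ W = U)
    (hF : Subsingleton (Ext.{u} (Cohom.freeFun.obj U) F 1)) (y : F.obj.obj (op (V ⊓ W))) :
    ∃ a b, F.obj.map (homOfLE (inf_le_left : V ⊓ W ≤ V)).op a -
      F.obj.map (homOfLE (inf_le_right : V ⊓ W ≤ W)).op b = y := by
  subst hU
  let hS := (Opens.mayerVietorisSquare V W).shortComplex_shortExact
  let S := (Opens.mayerVietorisSquare V W).shortComplex
  let x₁ : Ext.{u} S.X₁ F 0 := (Cohom.H0Equiv F (V ⊓ W)).symm y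
  obtain ⟨x₂, hx₂⟩ := Ext.contravariant_sequence_exact₁ hS F x₁ (by omega : 1 + 0 = 1)
    (@Subsingleton.elim _ hF _ _)
  have key : ∀ (a : Ext.{u} (Cohom.freeFun.obj V) F 0) (b : Ext.{u} (Cohom.freeFun.obj W) F 0),
      (Ext.mk₀ (biprod.lift (Cohom.freeFun.map (homOfLE (inf_le_left : V ⊓ W ≤ V)))
        (-Cohom.freeFun.map (homOfLE (inf_le_right : V ⊓ W ≤ W))))).comp (Ext.biprodAddEquiv.symm (a, b)) (zero_add 0) =
        Cohom.res F 0 inf_le_left a - Cohom.res F 0 inf_le_right b := fun a b => by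
    rw [Cohom.res_eq_comp, Cohom.res_eq_comp]
    simp [Ext.biprodAddEquiv_symm_apply, sub_eq_add_neg, Ext.mk₀_neg]
  obtain ⟨⟨a, b⟩, rfl⟩ := Ext.biprodAddEquiv.symm.surjective x₂
  refine ⟨Cohom.H0Equiv F V a, Cohom.H0Equiv F W b, ?_⟩
  refine (congrArg₂ (· - ·) (Cohom.H0Equiv_res F _ a).symm (Cohom.H0Equiv_res F _ b).symm).trans ?_
  exact (map_sub (Cohom.H0Equiv F (V ⊓ W)) _ _).symm.trans
    ((congrArg (Cohom.H0Equiv F (V ⊓ W)) ((key a b).symm.trans hx₂)).trans ((Cohom.H0Equiv F (V ⊓ W)).apply_symm_apply y))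

/-- Sections lift along an epimorphism with acyclic kernel. -/
theorem surjective_of_subsingleton {S : ShortComplex (Cohom.AbSheaf T)} (hS : S.ShortExact) (U : Opens T)
    (hF : Subsingleton (Ext.{u} (Cohom.freeFun.obj U) S.X₁ 1)) :
    Function.Surjective (S.g.hom.app (op U)) := by
  intro y
  obtain ⟨x₂, hx₂⟩ := Ext.covariant_sequence_exact₃ _ hS ((Cohom.H0Equiv S.X₃ U).symm y) (zero_add 1)
    (@Subsingleton.elim _ hF _ _)
  obtain ⟨φ, rfl⟩ := (Ext.mk₀_bijective _ _).2 x₂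
  refine ⟨Cohom.sectionsEquiv U S.X₂ φ, ?_⟩
  rw [← Cohom.sectionsEquiv_comp]
  rw [Ext.mk₀_comp_mk₀, AddEquiv.eq_symm_apply, Cohom.H0Equiv_mk₀] at hx₂
  exact hx₂

end MV

variable {𝔛 : FSch.Sys.{u}} {h : 𝔛.IsFormal}

/-- Restriction of a finite combination. -/
theorem sres_fsum {M : FSch.ModF 𝔛 h} {U V : (𝔛.X 0).Opens} (hVU : V ≤ U) {κ : Type*} (t : Finset κ)
    (c : κ → Sec 𝔛 h U) (g : κ → ModSite.sect M U) :
    sres M hVU (∑ k ∈ t, c k • g k) = ∑ k ∈ t, rRes hVU (c k) • sres M hVU (g k) :=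
  (map_sum (M.val.map (homOfLE hVU).op).hom _ _).trans
    (Finset.sum_congr rfl fun k _ => M.val.map_smul (homOfLE hVU).op (c k) (g k))

variable (hN : 𝔛.IsLocNoethFormal)
include hN

/-- Functions on an intersection of two opens covering an affine are differences. -/
theorem exists_sub_unit {U V₁ V₂ : (𝔛.X 0).Opens} (hU : IsAffineOpen U) (hV : V₁ ⊔ V₂ = U)
    (c : Sec 𝔛 h (V₁ ⊓ V₂)) : ∃ a b, rRes (inf_le_left : V₁ ⊓ V₂ ≤ V₁) a - rRes (inf_le_right : V₁ ⊓ V₂ ≤ V₂) b = c := by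
  haveI := isCohF_unit (𝔛 := 𝔛) (h := h)
  exact exists_sub_of_subsingleton (T := (𝔛.X 0).toTopCat) (ModSite.toAb (FSch.unitF 𝔛 h)) hV
    (subsingleton_H'_of_isCohF hN hU 0) c

/-- Modules presented by sections on an affine open have no higher cohomology on it. -/
theorem IsQC.subsingleton_H' {M : FSch.ModF 𝔛 h} {W : (𝔛.X 0).Opens} (hW : IsAffineOpen W) (hQ : IsQC M W) (n : ℕ) :
    Subsingleton (Sheaf.H' (ModSite.toAb M) (n + 1) W) := by
  classical
  have key := Cohom.subsingleton_of_basis_surjective (T := (𝔛.X 0).toTopCat) (fun g : Γ(𝔛.X 0, W) => (𝔛.X 0).basicOpen g)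
    (ModSite.toAb M) ((𝔛.X 0).basicOpen_zero W) (fun f g => (𝔛.X 0).basicOpen_mul f g) Cohom.basicOpen_add_le ?_
    (Cohom.exists_pow_succ_mem_of_basicOpen hW) ?_ n 1
  · rwa [(𝔛.X 0).basicOpen_of_isUnit isUnit_one] at key
  · intro f p hp V hpV
    obtain ⟨g, hgV, hpg⟩ := hW.exists_basicOpen_le ⟨p, hpV⟩ ((𝔛.X 0).basicOpen_le f hp)
    exact ⟨g, hpg, hgV⟩
  · intro f a b hf y
    let U₁ := (𝔛.X 0).basicOpen a
    let U₂ := (𝔛.X 0).basicOpen b
    have hV : IsAffineOpen (U₁ ⊓ U₂) := (𝔛.X 0).basicOpen_mul a b ▸ hW.basicOpen (a * b)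
    have h1 : U₁ ⊓ U₂ ≤ U₁ := inf_le_left
    have h2 : U₁ ⊓ U₂ ≤ U₂ := inf_le_right
    have hVW : U₁ ⊓ U₂ ≤ W := h1.trans ((𝔛.X 0).basicOpen_le a)
    have hgen : ∀ (V : (𝔛.X 0).Opens) (hV' : V ≤ U₁ ⊓ U₂) (m : ModSite.sect M V), ∀ p ∈ V,
        ∃ (W' : (𝔛.X 0).Opens) (hW' : W' ≤ V), p ∈ W' ∧ sres M hW' m ∈ Submodule.span (Sec 𝔛 h W')
          (Set.range fun s : ModSite.sect M W => sres M (hW'.trans hV') (sres M hVW s)) := fun V hV' m p hp => by
      obtain ⟨W', hW', hpW', hm⟩ := hQ.gen V (hV'.trans hVW) m p hp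
      exact ⟨W', hW', hpW', by simpa only [sres_sres] using hm⟩
    obtain ⟨x, hx⟩ := Finsupp.mem_span_range_iff_exists_finsupp.1
      ((hQ.res hN hV hVW).exists_finset hN hV (fun s : ModSite.sect M W => sres M hVW s) hgen y)
    choose u v huv using fun c : Sec 𝔛 h (U₁ ⊓ U₂) => exists_sub_unit hN (hW.basicOpen f) hf.symm c
    refine ⟨∑ s ∈ x.support, u (x s) • sres M ((𝔛.X 0).basicOpen_le a) s,
      ∑ s ∈ x.support, v (x s) • sres M ((𝔛.X 0).basicOpen_le b) s, ?_⟩
    show sres M h1 _ - sres M h2 _ = y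
    refine (congrArg₂ (· - ·) (sres_fsum h1 x.support (fun s => u (x s)) fun s => sres M ((𝔛.X 0).basicOpen_le a) s)
      (sres_fsum h2 x.support (fun s => v (x s)) fun s => sres M ((𝔛.X 0).basicOpen_le b) s)).trans ?_
    refine (Finset.sum_sub_distrib _ _).symm.trans (Eq.trans (Finset.sum_congr rfl fun s _ => ?_) hx)
    rw [sres_sres, sres_sres, ← sub_smul]
    exact congrArg (· • sres M hVW s) (huv (x s))

/-- Sections lift along epimorphisms with quasi-coherent kernel. -/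
theorem IsQC.surjective {S : ShortComplex (FSch.ModF 𝔛 h)} (hS : S.ShortExact) {W : (𝔛.X 0).Opens}
    (hW : IsAffineOpen W) (hQ : IsQC S.X₁ W) : Function.Surjective (sHom S.g W) := by
  haveI := SiteDer.preservesFiniteColimits_toSheaf (ModSite.ringSh (𝔛.Osh h))
  exact surjective_of_subsingleton (T := (𝔛.X 0).toTopCat)
    (hS.map_of_exact (SheafOfModules.toSheaf (ModSite.ringSh (𝔛.Osh h)))) W (hQ.subsingleton_H' hN hW 0)

set_option maxHeartbeats 1000000 in
/-- Extensions. -/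
theorem IsQC.extension {S : ShortComplex (FSch.ModF 𝔛 h)} (hS : S.ShortExact) {W : (𝔛.X 0).Opens}
    (hW : IsAffineOpen W) (hA : IsQC S.X₁ W) (hC : IsQC S.X₃ W) : IsQC S.X₂ W where
  gen V hV b p hp := by
    classical
    obtain ⟨W₁, hW₁, hpW₁, hm⟩ := hC.gen V hV (sHom S.g V b) p hp
    obtain ⟨x, hx⟩ := Finsupp.mem_span_range_iff_exists_finsupp.1 hm
    choose t ht using hA.surjective hN hS hW
    have hW₁W : W₁ ≤ W := hW₁.trans hV
    let d := sres S.X₂ hW₁ b - ∑ s ∈ x.support, x s • sres S.X₂ hW₁W (t s)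
    have hd : sHom S.g W₁ d = 0 := by
      simp only [d, map_sub, map_sum, map_smul, sub_eq_zero]
      refine (sHom_res S.g hW₁ b).trans (hx.symm.trans ?_)
      exact Finset.sum_congr rfl fun s _ => congrArg (x s • ·) (by rw [sHom_res, ht])
    obtain ⟨W₂, hW₂, hpW₂, a, ha⟩ := exists_local_preimage_of_exact S hS.exact d hd hpW₁
    obtain ⟨W', hW', hpW', hm'⟩ := hA.gen W₂ (hW₂.trans hW₁W) a p hpW₂
    refine ⟨W', hW'.trans (hW₂.trans hW₁), hpW', ?_⟩
    have hW'1 : W' ≤ W₁ := hW'.trans hW₂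
    have e : sres S.X₂ (hW'.trans (hW₂.trans hW₁)) b =
        sHom S.f W' (sres S.X₁ hW' a) + ∑ s ∈ x.support, rRes hW'1 (x s) • sres S.X₂ (hW'1.trans hW₁W) (t s) := by
      rw [sHom_res, ha, sres_sres]
      have e1 : sres S.X₂ hW'1 d = sres S.X₂ (hW'1.trans hW₁) b -
          sres S.X₂ hW'1 (∑ s ∈ x.support, x s • sres S.X₂ hW₁W (t s)) :=
        (map_sub (S.X₂.val.map (homOfLE hW'1).op).hom _ _).trans (congrArg (· - _) (sres_sres hW₁ hW'1 b))
      rw [e1, sres_fsum hW'1]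
      simp only [sres_sres]
      exact (sub_add_cancel _ _).symm
    rw [e]
    refine add_mem ?_ (Submodule.sum_mem _ fun s _ => Submodule.smul_mem _ _ (Submodule.subset_span ⟨t s, rfl⟩))
    refine Submodule.span_le.2 ?_ (Submodule.map_span (sHom S.f W') _ ▸ Submodule.mem_map_of_mem (f := sHom S.f W') hm')
    rintro _ ⟨_, ⟨s, rfl⟩, rfl⟩
    exact Submodule.subset_span ⟨sHom S.f W s, (sHom_res _ _ s).symm⟩
  rel α _ s V hV y hy p hp := by
    classical
    haveI := hS.mono_f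
    haveI := isNoetherianRing_Sec (h := h) hN hW
    have h0 : ∑ a, y a • sres S.X₃ hV (sHom S.g W (s a)) = 0 := by
      refine Eq.trans (Finset.sum_congr rfl fun a _ => ?_) ((congrArg (sHom S.g V) hy).trans (map_zero _) |>.symm.trans
        (map_sum (sHom S.g V) _ _)).symm
      exact Eq.trans (congrArg (y a • ·) (sHom_res _ hV _).symm) ((sHom S.g V).map_smul _ _).symm
    obtain ⟨W₁, hW₁, hpW₁, hm⟩ := hC.rel α (fun a => sHom S.g W (s a)) V hV y h0 p hp
    obtain ⟨l, r, hr⟩ := Submodule.fg_iff_exists_fin_generating_family.1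
      (IsNoetherian.noetherian (LinearMap.ker (Fintype.linearCombination (Sec 𝔛 h W) fun a => sHom S.g W (s a))))
    have hr0 : ∀ k : ULift.{u} (Fin l), sHom S.g W (∑ a, r k.down a • s a) = 0 := fun k => by
      have hk : r k.down ∈ LinearMap.ker (Fintype.linearCombination (Sec 𝔛 h W) fun a => sHom S.g W (s a)) :=
        hr ▸ Submodule.subset_span ⟨k.down, rfl⟩
      rw [LinearMap.mem_ker, Fintype.linearCombination_apply] at hk
      rw [map_sum]
      exact (Finset.sum_congr rfl fun a _ => (sHom S.g W).map_smul _ _).trans hk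
    have hα : ∀ k : ULift.{u} (Fin l), ∃ w : ModSite.sect S.X₁ W, sHom S.f W w = ∑ a, r k.down a • s a := fun k => by
      obtain ⟨q, hq⟩ := exists_kernel_sect S.g W _ (hr0 k)
      let i := hS.fIsKernel.conePointUniqueUpToIso (kernelIsKernel S.g)
      refine ⟨sHom i.inv W q, Eq.trans ?_ hq⟩
      have e : i.inv ≫ S.f = kernel.ι S.g :=
        hS.fIsKernel.conePointUniqueUpToIso_inv_comp (kernelIsKernel S.g) WalkingParallelPair.zero
      exact (sHom_comp i.inv S.f W q).symm.trans (by rw [e])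
    choose w hw using hα
    have hW₁W : W₁ ≤ W := hW₁.trans hV
    have hm' := span_res_relations hW₁W (fun k : ULift.{u} (Fin l) => r k.down)
      (S := {b | ∑ a, b a • sHom S.g W (s a) = 0}) (fun b hb => by
      refine Submodule.span_mono (s := Set.range r) ?_ ?_
      · rintro _ ⟨k, rfl⟩; exact ⟨⟨k⟩, rfl⟩
      · rw [hr, LinearMap.mem_ker, Fintype.linearCombination_apply]
        exact hb) hm
    obtain ⟨c, hc⟩ := (Submodule.mem_span_range_iff_exists_fun _).1 hm'
    have h1 : ∑ k, c k • sres S.X₁ hW₁W (w k) = 0 := by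
      refine sHom_injective S.f W₁ ?_
      refine (map_sum (sHom S.f W₁) _ _).trans (Eq.trans ?_ ((congrArg (sres S.X₂ hW₁) hy).trans
        ((map_zero (S.X₂.val.map (homOfLE hW₁).op).hom).trans (map_zero (sHom S.f W₁)).symm)))
      rw [sres_comb]
      refine Eq.trans (b := ∑ k, c k • ∑ a, rRes hW₁W (r k.down a) • sres S.X₂ hW₁W (s a))
        (Finset.sum_congr rfl fun k _ => ?_) (Eq.trans ?_ (Finset.sum_congr rfl fun a _ =>
        congrArg (· • sres S.X₂ hW₁ (sres S.X₂ hV (s a))) (congrFun hc a)))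
      · exact ((sHom S.f W₁).map_smul _ _).trans (congrArg (c k • ·) ((sHom_res S.f hW₁W (w k)).trans
          ((congrArg (sres S.X₂ hW₁W) (hw k)).trans (sres_comb hW₁W (r k.down) s))))
      · simp only [Finset.smul_sum, Finset.sum_smul, Finset.sum_apply, Pi.smul_apply, smul_eq_mul, mul_smul, sres_sres]
        exact Finset.sum_comm
    obtain ⟨W', hW', hpW', hz⟩ := hA.rel (ULift.{u} (Fin l)) w W₁ hW₁W c h1 p hpW₁
    refine ⟨W', hW'.trans hW₁, hpW', ?_⟩
    have hW'W : W' ≤ W := hW'.trans hW₁W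
    let L : (ULift.{u} (Fin l) → Sec 𝔛 h W') →ₗ[Sec 𝔛 h W'] α → Sec 𝔛 h W' :=
      Fintype.linearCombination (Sec 𝔛 h W') fun k => wRes hW'W (r k.down)
    have e : wRes (hW'.trans hW₁) y = L (wRes hW' c) := by
      rw [← wRes_wRes hW₁ hW', ← hc, Fintype.linearCombination_apply]
      funext a
      simp only [Finset.sum_apply, Pi.smul_apply, smul_eq_mul, wRes, map_sum, map_mul]
      exact Finset.sum_congr rfl fun k _ => congrArg (_ * ·) (ores_ores hW₁W hW' (r k.down a))
    rw [e]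
    refine Submodule.span_le.2 ?_ (Submodule.map_span L _ ▸ Submodule.mem_map_of_mem (f := L) hz)
    rintro _ ⟨_, ⟨z, hz', rfl⟩, rfl⟩
    refine Submodule.subset_span ⟨∑ k, z k • r k.down, ?_, ?_⟩
    · show ∑ a, (∑ k, z k • r k.down) a • s a = 0
      simp only [Finset.sum_apply, Pi.smul_apply, smul_eq_mul, Finset.sum_smul, mul_smul]
      rw [Finset.sum_comm]
      simp only [← Finset.smul_sum, ← hw]
      exact (Finset.sum_congr rfl fun k _ => ((sHom S.f W).map_smul _ _).symm).trans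
        ((map_sum (sHom S.f W) _ _).symm.trans ((congrArg (sHom S.f W) hz').trans (map_zero _)))
    · funext a
      simp only [L, Fintype.linearCombination_apply, Finset.sum_apply, Pi.smul_apply, smul_eq_mul, wRes, map_sum,
        map_mul]

end GrothLib.FCat7
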