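import Groth.Agent.Lib.FMod7.Ideals
import Mathlib.RingTheory.Localization.Away.Basic

/-!
# Basic opens of functions on affine opens of a formal scheme
-/

set_option autoImplicit false
set_option linter.style.haveILetI false
set_option linter.unusedSectionVars false
universe u

open CategoryTheory CategoryTheory.Limits AlgebraicGeometry TopologicalSpace Opposite

noncomputable section

namespace GrothLib.FCat7

open GrothLib.FMod7

variable {𝔛 : FSch.Sys.{u}} {h : 𝔛.IsFormal} {U : (𝔛.X 0).Opens}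

theorem lvU_zero (V : (𝔛.X 0).Opens) : 𝔛.lvU h 0 V = V := by
  have e := FFormal7.toX_preimage_lvU 𝔛 h 0 V
  rwa [show 𝔛.toX 0 = 𝟙 (𝔛.X 0) from rfl, Scheme.Hom.id_preimage] at e

/-- The locus where a function is invertible. -/
def sBasic (f : Sec 𝔛 h U) : (𝔛.X 0).Opens := (𝔛.X 0).basicOpen (proj 𝔛 h U 0 f)

theorem sBasic_le (f : Sec 𝔛 h U) : sBasic f ≤ U := ((𝔛.X 0).basicOpen_le _).trans (lvU_zero U).le

theorem sBasic_mul (f g : Sec 𝔛 h U) : sBasic (f * g) = sBasic f ⊓ sBasic g := by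
  rw [sBasic, map_mul, Scheme.basicOpen_mul]
  rfl

theorem isAffineOpen_sBasic (hU : IsAffineOpen U) (f : Sec 𝔛 h U) : IsAffineOpen (sBasic f) :=
  (FFormal7.isAffineOpen_lvU 𝔛 h hU 0).basicOpen _

theorem sBasic_rRes {V : (𝔛.X 0).Opens} (hVU : V ≤ U) (f : Sec 𝔛 h U) :
    sBasic (rRes hVU f) = V ⊓ sBasic f := by
  have e : proj 𝔛 h V 0 (rRes hVU f) =
      (𝔛.X 0).presheaf.map (homOfLE (lvU_mono (h := h) hVU 0)).op (proj 𝔛 h U 0 f) := proj_res h U hVU 0 f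
  rw [sBasic, e]
  exact ((𝔛.X 0).basicOpen_res _ _).trans (congrArg (· ⊓ sBasic f) (lvU_zero V))

variable (hN : 𝔛.IsLocNoethFormal) (hU : IsAffineOpen U)
include hN hU

theorem exists_sBasic_le {p : 𝔛.X 0} (hp : p ∈ U) {V : (𝔛.X 0).Opens} (hpV : p ∈ V) :
    ∃ f : Sec 𝔛 h U, p ∈ sBasic f ∧ sBasic f ≤ V := by
  obtain ⟨g, hgV, hpg⟩ := (FFormal7.isAffineOpen_lvU 𝔛 h hU 0).exists_basicOpen_le ⟨p, hpV⟩
    ((lvU_zero (h := h) U).ge hp)
  obtain ⟨f, rfl⟩ := proj_surjective (h := h) hN hU 0 g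
  exact ⟨f, hpg, hgV⟩

theorem lvU_sBasic (n : ℕ) (f : Sec 𝔛 h U) :
    𝔛.lvU h n (sBasic f) = (𝔛.X n).basicOpen (proj 𝔛 h U n f) := by
  have hz : ∀ n, toZero 𝔛 h U n (proj 𝔛 h U n f) = proj 𝔛 h U 0 f := by
    intro n
    induction n with
    | zero => rfl
    | succ n ih =>
      show toZero 𝔛 h U n (trans 𝔛 h U n (proj 𝔛 h U (n + 1) f)) = _
      rw [trans_proj, ih]
  have e : 𝔛.toX n ⁻¹ᵁ (𝔛.X n).basicOpen (proj 𝔛 h U n f) = sBasic f := by
    rw [sBasic, ← hz n, toZero_eq]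
    refine Eq.trans ?_ (Scheme.basicOpen_appLE (𝔛.toX n) _ _ (le_preimage_toX 𝔛 h U n) _).symm
    refine (inf_eq_right.2 ?_).symm
    exact ((Opens.map (𝔛.toX n).base).map (homOfLE ((𝔛.X n).basicOpen_le _))).le.trans
      ((FFormal7.toX_preimage_lvU 𝔛 h n U).trans (lvU_zero U).symm).le
  rw [← e]
  show (Opens.map (𝔛.gInv h n)).obj ((Opens.map (𝔛.toX n).base).obj _) = _
  rw [← Opens.map_comp_obj, FSch.Sys.gInv_toX_base]
  rfl

/-- Denominators over a basic open are cleared at each level. -/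
theorem exists_pow_mul_sub_mem (n : ℕ) (f : Sec 𝔛 h U) (c : Sec 𝔛 h (sBasic f)) :
    ∃ (k : ℕ) (b : Sec 𝔛 h U),
      rRes (sBasic_le f) f ^ k * c - rRes (sBasic_le f) b ∈ secIdeal 𝔛 h (sBasic f) ^ (n + 1) := by
  haveI := (FFormal7.isAffineOpen_lvU 𝔛 h hU n).isLocalization_basicOpen (proj 𝔛 h U n f)
  let c' : Γ(𝔛.X n, (𝔛.X n).basicOpen (proj 𝔛 h U n f)) :=
    (𝔛.X n).presheaf.map (eqToHom (lvU_sBasic hN hU n f).symm).op (proj 𝔛 h (sBasic f) n c)
  obtain ⟨⟨b', ⟨_, k, rfl⟩⟩, hb⟩ := IsLocalization.surj (Submonoid.powers (proj 𝔛 h U n f)) c'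
  obtain ⟨b, rfl⟩ := proj_surjective (h := h) hN hU n b'
  refine ⟨k, b, (ker_proj hN (isAffineOpen_sBasic hU f) n).le (RingHom.mem_ker.2 ?_)⟩
  rw [map_sub, map_mul, map_pow, sub_eq_zero]
  have e1 : ∀ x, proj 𝔛 h (sBasic f) n (rRes (sBasic_le f) x) =
      (𝔛.X n).presheaf.map (homOfLE (lvU_mono (h := h) (sBasic_le f) n)).op (proj 𝔛 h U n x) := fun x =>
    proj_res h U (sBasic_le f) n x
  rw [e1, e1]
  have hb' := congrArg ((𝔛.X n).presheaf.map (eqToHom (lvU_sBasic hN hU n f)).op) hb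
  rw [map_mul] at hb'
  simp only [c', RingHom.algebraMap_toAlgebra, ← ConcreteCategory.comp_apply, ← Functor.map_comp, ← op_comp,
    eqToHom_trans, eqToHom_refl, op_id, CategoryTheory.Functor.map_id, CategoryTheory.id_apply] at hb'
  rw [mul_comm, ← map_pow]
  exact hb'

/-- A function vanishing at a level on a basic open is killed by a power. -/
theorem exists_pow_mul_mem (n : ℕ) (f b : Sec 𝔛 h U)
    (hb : rRes (sBasic_le f) b ∈ secIdeal 𝔛 h (sBasic f) ^ (n + 1)) :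
    ∃ k : ℕ, f ^ k * b ∈ secIdeal 𝔛 h U ^ (n + 1) := by
  haveI := (FFormal7.isAffineOpen_lvU 𝔛 h hU n).isLocalization_basicOpen (proj 𝔛 h U n f)
  have h0 := (ker_proj hN (isAffineOpen_sBasic hU f) n).ge hb
  rw [RingHom.mem_ker] at h0
  have e1 : proj 𝔛 h (sBasic f) n (rRes (sBasic_le f) b) =
      (𝔛.X n).presheaf.map (homOfLE (lvU_mono (h := h) (sBasic_le f) n)).op (proj 𝔛 h U n b) :=
    proj_res h U (sBasic_le f) n b
  rw [e1] at h0
  have h1 : algebraMap Γ(𝔛.X n, 𝔛.lvU h n U) Γ(𝔛.X n, (𝔛.X n).basicOpen (proj 𝔛 h U n f)) (proj 𝔛 h U n b) = 0 := by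
    have := congrArg ((𝔛.X n).presheaf.map (eqToHom (lvU_sBasic hN hU n f).symm).op) h0
    rw [map_zero] at this
    simp only [RingHom.algebraMap_toAlgebra, ← ConcreteCategory.comp_apply, ← Functor.map_comp, ← op_comp] at this ⊢
    exact this
  obtain ⟨⟨_, k, rfl⟩, hk⟩ := (IsLocalization.map_eq_zero_iff (Submonoid.powers (proj 𝔛 h U n f)) _ _).1 h1
  refine ⟨k, (ker_proj hN hU n).le (RingHom.mem_ker.2 ?_)⟩
  rw [map_mul, map_pow]
  exact hk

end GrothLib.FCat7
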