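import Groth.Agent.Lib.FMod7.Gen
import Groth.Agent.Lib.FMod7.Nak
import Groth.Agent.Lib.QCoh.Extension
import Groth.Agent.Lib.QCoh.Abelian

/-!
# Sections of coherent modules on a locally Noetherian formal scheme over affine opens
-/

set_option autoImplicit false
set_option linter.style.haveILetI false
set_option linter.unusedSectionVars false
universe u

open CategoryTheory CategoryTheory.Limits AlgebraicGeometry TopologicalSpace Opposite

noncomputable section

namespace GrothLib.FCat7

open GrothLib.FMod7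

variable {𝔛 : FSch.Sys.{u}} {h : 𝔛.IsFormal} {F G : FSch.ModF 𝔛 h}

/-- Sections of a morphism. -/
abbrev appHom (φ : F ⟶ G) (U : (𝔛.X 0).Opens) : ModSite.sect F U →ₗ[Sec 𝔛 h U] ModSite.sect G U where
  toFun := (φ.val.app (op U)).hom
  map_add' := map_add _
  map_smul' := (φ.val.app (op U)).hom.map_smul

theorem appHom_res (φ : F ⟶ G) {U V : (𝔛.X 0).Opens} (hVU : V ≤ U) (x : ModSite.sect F U) :
    appHom φ V (sres F hVU x) = sres G hVU (appHom φ U x) :=
  PresheafOfModules.naturality_apply φ.val (homOfLE hVU).op x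

theorem appHom_comp {H : FSch.ModF 𝔛 h} (φ : F ⟶ G) (ψ : G ⟶ H) (U : (𝔛.X 0).Opens) (x : ModSite.sect F U) :
    appHom (φ ≫ ψ) U x = appHom ψ U (appHom φ U x) := rfl

variable (F) in
/-- The comparison with the module of the inverse images, on sections. -/
def ηLin (U : (𝔛.X 0).Opens) : ModSite.sect F U →ₗ[Sec 𝔛 h U] Mods h U (pullSys h F) where
  toFun := ηSec F U
  map_add' := map_add ((toReal h F).val.app (op U)).hom
  map_smul' := ((toReal h F).val.app (op U)).hom.map_smul

section Coh

variable (hN : 𝔛.IsLocNoethFormal) {U V : (𝔛.X 0).Opens}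
include hN

theorem ηSec_bijective [FSch.IsCohF 𝔛 h F] (W : (𝔛.X 0).Opens) : Function.Bijective (ηSec F W) := by
  haveI := isIso_toReal (F := F) hN
  exact ConcreteCategory.bijective_of_isIso ((SheafOfModules.evaluation _ (op W)).map (toReal h F))

variable (F) in
/-- Sections of a coherent module are those of the module of its inverse images. -/
def secEquiv [FSch.IsCohF 𝔛 h F] (W : (𝔛.X 0).Opens) : ModSite.sect F W ≃ₗ[Sec 𝔛 h W] Mods h W (pullSys h F) :=
  LinearEquiv.ofBijective (ηLin F W) (ηSec_bijective hN W)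

theorem moduleFinite_sect [FSch.IsCohF 𝔛 h F] (hU : IsAffineOpen U) :
    Module.Finite (Sec 𝔛 h U) (ModSite.sect F U) := by
  haveI := moduleFinite_mods (h := h) hN hU (isCoh_pullSys (F := F))
  exact Module.Finite.equiv (secEquiv F hN U).symm

theorem ηSec_sres (hVU : V ≤ U) (x : ModSite.sect F U) : ηSec F V (sres F hVU x) = mRes hVU (ηSec F U x) :=
  PresheafOfModules.naturality_apply (toReal h F).val (homOfLE hVU).op x

variable [FSch.IsCohF 𝔛 h F] {ι : Type} [Fintype ι] {m : ι → ModSite.sect F U}

theorem span_η_eq_top (hm : Submodule.span (Sec 𝔛 h U) (Set.range m) = ⊤) :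
    Submodule.span (Sec 𝔛 h U) (Set.range fun i => ηSec F U (m i)) = ⊤ := by
  have h1 := congrArg (Submodule.map (secEquiv F hN U).toLinearMap) hm
  rw [Submodule.map_span, Submodule.map_top, LinearEquiv.range, ← Set.range_comp] at h1
  exact h1

/-- Generators over an affine open generate over a smaller one. -/
theorem span_sres_eq_top (hU : IsAffineOpen U) (hV : IsAffineOpen V) (hVU : V ≤ U)
    (hm : Submodule.span (Sec 𝔛 h U) (Set.range m) = ⊤) :
    Submodule.span (Sec 𝔛 h V) (Set.range fun i => sres F hVU (m i)) = ⊤ := by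
  have h1 := span_mRes_eq_top (h := h) (m := fun i => ηSec F U (m i)) hN hU hV hVU isCoh_pullSys
    (span_η_eq_top hN hm)
  refine Submodule.map_injective_of_injective (f := (secEquiv F hN V).toLinearMap)
    (secEquiv F hN V).injective ?_
  rw [Submodule.map_span, Submodule.map_top, LinearEquiv.range, ← Set.range_comp, ← h1]
  exact congrArg _ (congrArg Set.range (funext fun i => ηSec_sres hN hVU (m i)))

/-- Relations over a smaller affine open are generated by relations over the larger one. -/
theorem relations_sres (hU : IsAffineOpen U) (hV : IsAffineOpen V) (hVU : V ≤ U)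
    (hm : Submodule.span (Sec 𝔛 h U) (Set.range m) = ⊤) (y : ι → Sec 𝔛 h V)
    (hy : ∑ i, y i • sres F hVU (m i) = 0) :
    y ∈ Submodule.span (Sec 𝔛 h V) ((fun b : ι → Sec 𝔛 h U => fun i => rRes hVU (b i)) ''
      {b | ∑ i, b i • m i = 0}) := by
  have h1 : ∑ i, y i • mRes hVU (ηSec F U (m i)) = 0 := by
    have e := congrArg (secEquiv F hN V) hy
    rw [map_sum, map_zero] at e
    refine Eq.trans (Finset.sum_congr rfl fun i _ => ?_) e
    rw [map_smul]
    exact congrArg (y i • ·) (ηSec_sres hN hVU (m i)).symm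
  refine Submodule.span_mono (Set.image_mono fun b hb => ?_)
    (relations_mRes (h := h) hN hU hV hVU isCoh_pullSys (span_η_eq_top hN hm) y h1)
  refine (secEquiv F hN U).injective ?_
  rw [map_sum, map_zero]
  exact Eq.trans (Finset.sum_congr rfl fun i _ => map_smul _ _ _) hb

omit [Fintype ι] in
/-- An epimorphism of coherent modules is surjective over affine opens. -/
theorem surjective_of_epi [FSch.IsCohF 𝔛 h G] (θ : F ⟶ G) [Epi θ] (hU : IsAffineOpen U) :
    Function.Surjective (appHom θ U) := by
  have hF : (pullSys h F).IsCoh := isCoh_pullSys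
  have hG : (pullSys h G).IsCoh := isCoh_pullSys
  haveI := (hF 0).1
  haveI := (hG 0).1
  let L := FSch.levelMor 𝔛 h 0
  haveI : L.pull.IsLeftAdjoint := L.adj.isLeftAdjoint
  let φ : (pullSys h F).F 0 ⟶ (pullSys h G).F 0 := L.pull.map θ
  haveI : Epi φ := L.pull.map_epi θ
  have hφ : Function.Surjective (φ.app (𝔛.lvU h 0 U)) := by
    haveI := QCoh.isQuasicoherent_kernel φ
    have hS : (ShortComplex.mk (kernel.ι φ) φ (kernel.condition φ)).ShortExact :=
      { exact := ShortComplex.exact_kernel φ }
    exact @QCoh.app_surjective_of_isAffineOpen _ _ hS (QCoh.isQuasicoherent_kernel φ) _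
      (FFormal7.isAffineOpen_lvU 𝔛 h hU 0)
  have htop := span_eq_top_of_proj_zero (h := h) hN hU hG (fun x => ηSec G U (appHom θ U x)) fun z => by
    obtain ⟨v, rfl⟩ := hφ z
    obtain ⟨w, rfl⟩ := mProj_surjective (h := h) hN hU hF 0 v
    obtain ⟨x, rfl⟩ := (ηSec_bijective hN U).2 w
    refine Submodule.subset_span ⟨x, ?_⟩
    refine (mProj_ηSec U _ 0).trans (Eq.trans ?_ (congrArg (φ.app _) (mProj_ηSec U x 0)).symm)
    exact congrArg (fun ψ : F ⟶ L.push.obj (L.pull.obj G) => (ψ.val.app (op U)).hom x) (L.adj.unit.naturality θ)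
  have hr : LinearMap.range ((secEquiv G hN U).toLinearMap ∘ₗ appHom θ U) = ⊤ := by
    rw [eq_top_iff, ← htop, Submodule.span_le]
    rintro _ ⟨x, rfl⟩
    exact ⟨x, rfl⟩
  intro g
  obtain ⟨x, hx⟩ := (LinearMap.range_eq_top.1 hr) (secEquiv G hN U g)
  exact ⟨x, (secEquiv G hN U).injective hx⟩

end Coh

end GrothLib.FCat7
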