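import Groth.Agent.Lib.FMod7.Pres
import Groth.Agent.Lib.FMod7.Push
import Mathlib.CategoryTheory.Sites.EpiMono

/-!
# Kernels and epimorphisms of sheaves of modules on sections
-/

set_option autoImplicit false
set_option linter.style.haveILetI false
set_option linter.unusedSectionVars false
universe u

open CategoryTheory CategoryTheory.Limits Opposite TopologicalSpace

noncomputable section

namespace GrothLib.FCat7

open GrothLib.FMod7

variable {T : TopCat.{u}} {O : Sheaf (Opens.grothendieckTopology T) CommRingCat.{u}} {M N : ModSite.Mod O}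

/-- A morphism on sections, linearly. -/
abbrev sHom (φ : M ⟶ N) (U : Opens T) : ModSite.sect M U →ₗ[O.obj.obj (op U)] ModSite.sect N U where
  toFun := (φ.val.app (op U)).hom
  map_add' := map_add _
  map_smul' := (φ.val.app (op U)).hom.map_smul

theorem sHom_res (φ : M ⟶ N) {U V : Opens T} (hVU : V ≤ U) (x : ModSite.sect M U) :
    sHom φ V (sres M hVU x) = sres N hVU (sHom φ U x) :=
  PresheafOfModules.naturality_apply φ.val (homOfLE hVU).op x

theorem sHom_comp {P : ModSite.Mod O} (φ : M ⟶ N) (ψ : N ⟶ P) (U : Opens T) (x : ModSite.sect M U) :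
    sHom (φ ≫ ψ) U x = sHom ψ U (sHom φ U x) := rfl

theorem sHom_eq_zero {P : ModSite.Mod O} {φ : M ⟶ N} {ψ : N ⟶ P} (hφψ : φ ≫ ψ = 0) (U : Opens T)
    (x : ModSite.sect M U) : sHom ψ U (sHom φ U x) = 0 :=
  (sHom_comp φ ψ U x).symm.trans (congrArg (fun f : M ⟶ P => (f.val.app (op U)).hom x) hφψ)

theorem exists_kernel_sect (φ : M ⟶ N) (U : Opens T) (x : ModSite.sect M U) (hx : sHom φ U x = 0) :
    ∃ k : ModSite.sect (kernel φ) U, sHom (kernel.ι φ) U k = x := by
  have h := (((ShortComplex.exact_kernel φ).map_of_mono_of_preservesKernel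
    (SheafOfModules.toSheaf (ModSite.ringSh O)) inferInstance inferInstance).map_of_mono_of_preservesKernel
    (sheafToPresheaf (Opens.grothendieckTopology T) AddCommGrpCat.{u})
    (inferInstanceAs (Mono ((SheafOfModules.toSheaf (ModSite.ringSh O)).map (kernel.ι φ)))) inferInstance).map
      ((evaluation _ _).obj (op U))
  exact (ShortComplex.ab_exact_iff _).1 h x hx

theorem exists_local_preimage (φ : M ⟶ N) [Epi φ] {U : Opens T} (y : ModSite.sect N U) {p : T} (hp : p ∈ U) :
    ∃ (W : Opens T) (hW : W ≤ U), p ∈ W ∧ ∃ x : ModSite.sect M W, sHom φ W x = sres N hW y := by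
  haveI : Sheaf.IsLocallySurjective ((SheafOfModules.toSheaf (ModSite.ringSh O)).map φ) :=
    (Sheaf.isLocallySurjective_iff_epi' _ ((SheafOfModules.toSheaf (ModSite.ringSh O)).map φ)).2 inferInstance
  obtain ⟨W, i, ⟨v, hv⟩, hpW⟩ := Presheaf.imageSieve_mem (Opens.grothendieckTopology T)
    ((SheafOfModules.toSheaf (ModSite.ringSh O)).map φ).hom (U := op U) y p hp
  exact ⟨W, i.le, hpW, v, hv⟩

/-- A section killed by the second map of an exact sequence comes locally from the first. -/
theorem exists_local_preimage_of_exact (S : ShortComplex (ModSite.Mod O)) (hS : S.Exact) {U : Opens T}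
    (y : ModSite.sect S.X₂ U) (hy : sHom S.g U y = 0) {p : T} (hp : p ∈ U) :
    ∃ (W : Opens T) (hW : W ≤ U), p ∈ W ∧ ∃ x : ModSite.sect S.X₁ W, sHom S.f W x = sres S.X₂ hW y := by
  obtain ⟨k, hk⟩ := exists_kernel_sect S.g U y hy
  haveI : Epi (kernel.lift S.g S.f S.zero) := (ShortComplex.exact_iff_epi_kernel_lift S).1 hS
  obtain ⟨W, hW, hpW, x, hx⟩ := exists_local_preimage (kernel.lift S.g S.f S.zero) k hp
  refine ⟨W, hW, hpW, x, ?_⟩
  rw [← hk, ← sHom_res, ← hx]
  exact congrArg (fun f : S.X₁ ⟶ S.X₂ => (f.val.app (op W)).hom x) (kernel.lift_ι S.g S.f S.zero).symm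

theorem sHom_injective (φ : M ⟶ N) [Mono φ] (U : Opens T) : Function.Injective (sHom φ U) :=
  PullLoc25.app_injective φ U

end GrothLib.FCat7
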