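import Groth.Agent.Lib.FMod7.Coh
import Groth.Agent.Lib.FCat7.Sect

/-!
# A criterion for coherence
-/

set_option autoImplicit false
set_option linter.style.haveILetI false
set_option linter.unusedSectionVars false
universe u

open CategoryTheory CategoryTheory.Limits AlgebraicGeometry TopologicalSpace Opposite

noncomputable section

namespace GrothLib.FCat7

open GrothLib.FMod7

variable {𝔛 : FSch.Sys.{u}} {h : 𝔛.IsFormal} {M : FSch.ModF 𝔛 h}

/-- Finitely many generators whose relations generate the relations locally give a finite presentation. -/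
theorem exists_presentation_of_local (hN : 𝔛.IsLocNoethFormal) {U : (𝔛.X 0).Opens} (hU : IsAffineOpen U) {n : ℕ}
    (s : Fin n → ModSite.sect M U)
    (hgen : ∀ (V : (𝔛.X 0).Opens) (hV : V ≤ U) (x : ModSite.sect M V), ∀ p ∈ V,
      ∃ (W : (𝔛.X 0).Opens) (hW : W ≤ V), p ∈ W ∧
        sres M hW x ∈ Submodule.span (Sec 𝔛 h W) (Set.range fun i => sres M (hW.trans hV) (s i)))
    (hrel : ∀ (V : (𝔛.X 0).Opens) (hV : V ≤ U) (y : Fin n → Sec 𝔛 h V), ∑ i, y i • sres M hV (s i) = 0 →
      ∀ p ∈ V, ∃ (W : (𝔛.X 0).Opens) (hW : W ≤ V), p ∈ W ∧ (fun i => rRes hW (y i)) ∈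
        Submodule.span (Sec 𝔛 h W) ((fun b : Fin n → Sec 𝔛 h U => fun i => rRes (hW.trans hV) (b i)) ''
          {b | ∑ i, b i • s i = 0})) :
    ∃ P : ((ModSite.restr (𝔛.Osh h) U).obj M).Presentation, P.IsFinite := by
  classical
  haveI := isNoetherianRing_Sec (h := h) hN hU
  obtain ⟨l, r, hr⟩ := Submodule.fg_iff_exists_fin_generating_family.1
    (IsNoetherian.noetherian (LinearMap.ker (Fintype.linearCombination (Sec 𝔛 h U) s)))
  have hr' : ∀ k, ∑ i, r k i • s i = 0 := fun k => by
    have hk : r k ∈ LinearMap.ker (Fintype.linearCombination (Sec 𝔛 h U) s) := hr ▸ Submodule.subset_span ⟨k, rfl⟩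
    rwa [LinearMap.mem_ker, Fintype.linearCombination_apply] at hk
  refine exists_presentation M (ι := ULift.{u} (Fin n)) (κ := ULift.{u} (Fin l)) (fun i => s i.down)
    (fun k i => r k.down i.down) (fun k => (Equiv.ulift.sum_comp fun i => r k.down i • s i).trans (hr' k.down))
    (fun V hV x p hp => ?_) (fun V hV a ha p hp => ?_)
  · obtain ⟨W, hW, hpW, hm⟩ := hgen V hV x p hp
    refine ⟨W, hW, hpW, Submodule.span_mono ?_ hm⟩
    rintro _ ⟨i, rfl⟩
    exact ⟨⟨i⟩, rfl⟩
  · obtain ⟨W, hW, hpW, hm⟩ := hrel V hV (fun i => a ⟨i⟩)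
      ((Equiv.ulift.symm.sum_comp fun i : ULift.{u} (Fin n) => a i • sres M hV (s i.down)).trans ha) p hp
    refine ⟨W, hW, hpW, ?_⟩
    let L : (Fin n → Sec 𝔛 h W) →ₗ[Sec 𝔛 h W] (ULift.{u} (Fin n) → Sec 𝔛 h W) :=
      LinearMap.funLeft _ _ ULift.down
    have h3 : Submodule.span (Sec 𝔛 h W) ((fun b : Fin n → Sec 𝔛 h U => fun i => rRes (hW.trans hV) (b i)) ''
        {b | ∑ i, b i • s i = 0}) ≤ Submodule.comap L (Submodule.span (Sec 𝔛 h W)
          (Set.range fun (k : ULift.{u} (Fin l)) (i : ULift.{u} (Fin n)) => rRes (hW.trans hV) (r k.down i.down))) := by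
      rw [Submodule.span_le]
      rintro _ ⟨c, hc, rfl⟩
      have hc' : c ∈ Submodule.span (Sec 𝔛 h U) (Set.range r) := by
        rw [hr, LinearMap.mem_ker, Fintype.linearCombination_apply]
        exact hc
      obtain ⟨d, rfl⟩ := (Submodule.mem_span_range_iff_exists_fun _).1 hc'
      have e : L (fun i => rRes (hW.trans hV) ((∑ k, d k • r k) i)) =
          ∑ k, rRes (hW.trans hV) (d k) • fun i : ULift.{u} (Fin n) => rRes (hW.trans hV) (r k i.down) := by
        funext i
        simp [L, map_sum]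
      rw [SetLike.mem_coe, Submodule.mem_comap, e]
      exact Submodule.sum_mem _ fun k _ => Submodule.smul_mem _ _ (Submodule.subset_span ⟨⟨k⟩, rfl⟩)
    exact h3 hm

/-- Finite presentations over the members of a cover give coherence. -/
theorem isCohF_of_presentations
    (H : ∀ p : 𝔛.X 0, ∃ U : (𝔛.X 0).Opens, p ∈ U ∧
      ∃ P : ((ModSite.restr (𝔛.Osh h) U).obj M).Presentation, P.IsFinite) : FSch.IsCohF 𝔛 h M := by
  choose U hpU P hP using H
  let q : SheafOfModules.QuasicoherentData.{u} (R := ModSite.ringSh (𝔛.Osh h)) M :=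
    { I := 𝔛.X 0
      X := U
      coversTop := (Opens.coversTop_iff _ _).2 (eq_top_iff.2 fun p _ => Opens.mem_iSup.2 ⟨p, hpU p⟩)
      presentation := P }
  haveI : q.IsFinitePresentation := by constructor; intro i; exact hP i
  constructor
  exact ⟨q, inferInstance⟩

end GrothLib.FCat7
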