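import Groth.Agent.Lib.FMod7.Pres
import Groth.Agent.Lib.SheafCoh.ModColim
import Mathlib.CategoryTheory.Sites.EpiMono

/-!
# An epimorphism from a free module generates locally by finite combinations
-/

set_option autoImplicit false
set_option linter.style.haveILetI false
set_option linter.unusedSectionVars false
universe u

open CategoryTheory CategoryTheory.Limits Opposite TopologicalSpace

noncomputable section

namespace GrothLib.FCat7

open GrothLib.FMod7 GrothLib.LocFac25

variable {T : TopCat.{u}} {O : Sheaf (Opens.grothendieckTopology T) CommRingCat.{u}} {U : Opens T}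

variable (O U) in
/-- Finitely supported families of functions. -/
def combPre (ι : Type u) : (Over U)ᵒᵖ ⥤ AddCommGrpCat.{u} where
  obj W := AddCommGrpCat.of (ι →₀ ((ModSite.ringSh (O.over U)).obj.obj W))
  map f := AddCommGrpCat.ofHom (Finsupp.mapRange.addMonoidHom
    ((ModSite.ringSh (O.over U)).obj.map f).hom.toAddMonoidHom)
  map_id W := by
    ext x i
    simp [Finsupp.mapRange.addMonoidHom]
  map_comp f g := by
    ext x i
    simp [Finsupp.mapRange.addMonoidHom]

variable {N : ModSite.Mod (O.over U)} {ι : Type u}

/-- A map out of the unit, on functions. -/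
def unitApp (α : SheafOfModules.unit (ModSite.ringSh (O.over U)) ⟶ N) (W : (Over U)ᵒᵖ) :
    ((ModSite.ringSh (O.over U)).obj.obj W) →+ N.val.obj W where
  toFun c := (α.val.app W).hom (c : (SheafOfModules.unit (ModSite.ringSh (O.over U))).val.obj W)
  map_zero' := map_zero (α.val.app W).hom
  map_add' _ _ := map_add (α.val.app W).hom _ _

theorem unitApp_eq (α : SheafOfModules.unit (ModSite.ringSh (O.over U)) ⟶ N) (W : Over U)
    (c : O.obj.obj (op W.left)) : (unitApp α (op W) c : osect N W) = c • (evAt (W := W) α : osect N W) :=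
  app_one W α c

/-- The combinations of given maps out of the unit. -/
def combMap (α : ι → (SheafOfModules.unit (ModSite.ringSh (O.over U)) ⟶ N)) :
    combPre O U ι ⟶ ((SheafOfModules.toSheaf (ModSite.ringSh (O.over U))).obj N).obj where
  app W := AddCommGrpCat.ofHom (Finsupp.liftAddHom fun i => unitApp (α i) W)
  naturality W W' f := by
    refine AddCommGrpCat.hom_ext (Finsupp.addHom_ext fun i c => ?_)
    refine Eq.trans ?_ (congrArg (N.val.map f) (Finsupp.liftAddHom_apply_single (fun i => unitApp (α i) W) i c).symm)
    refine Eq.trans (congrArg (Finsupp.liftAddHom fun i => unitApp (α i) W') (Finsupp.mapRange_single (hf := map_zero _))) ?_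
    refine (Finsupp.liftAddHom_apply_single _ i _).trans ?_
    exact PresheafOfModules.naturality_apply (α i).val f c

theorem isLocallySurjective_combMap
    (g : SheafOfModules.free (R := ModSite.ringSh (O.over U)) ι ⟶ N) [Epi g] :
    Presheaf.IsLocallySurjective ((Opens.grothendieckTopology T).over U)
      (combMap (ι := ι) (N := N) fun i : ι => SheafOfModules.ιFree i ≫ g) := by
  let J := (Opens.grothendieckTopology T).over U
  let R := ModSite.ringSh (O.over U)
  let S := SheafOfModules.toSheaf.{u} R
  let ψ := combMap (ι := ι) (N := N) fun i : ι => SheafOfModules.ιFree i ≫ g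
  let ψ' : (presheafToSheaf J AddCommGrpCat.{u}).obj (combPre O U ι) ⟶ S.obj N :=
    ((sheafificationAdjunction J AddCommGrpCat.{u}).homEquiv _ _).symm ψ
  haveI hpc := SheafCoh.preservesColimitsOfSize_toSheaf R
  haveI : Epi (S.map g) := inferInstance
  haveI : Epi ψ' := by
    refine Preadditive.epi_of_cancel_zero _ fun {Z} η hη => ?_
    have h1 : ψ ≫ η.hom = 0 := by
      have := congrArg ((sheafificationAdjunction J AddCommGrpCat.{u}).homEquiv _ _) hη
      rw [Adjunction.homEquiv_naturality_right, Equiv.apply_symm_apply] at this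
      refine this.trans ?_
      rw [Adjunction.homEquiv_unit, Functor.map_zero, comp_zero]
    refine (cancel_epi (S.map g)).1 ?_
    rw [comp_zero]
    refine Cofan.IsColimit.hom_ext (isColimitCofanMkObjOfIsColimit S _ _
      (SheafOfModules.isColimitFreeCofan ι)) _ _ fun i => ?_
    rw [comp_zero]
    refine Sheaf.hom_ext (NatTrans.ext (funext fun W => AddCommGrpCat.hom_ext (AddMonoidHom.ext fun c => ?_)))
    have := congrArg (fun φ : combPre O U ι ⟶ Z.obj => φ.app W (Finsupp.single i c)) h1
    refine Eq.trans (congrArg (η.hom.app W) ?_) this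
    exact (Finsupp.liftAddHom_apply_single (fun j : ι => unitApp (N := N) (SheafOfModules.ιFree j ≫ g) W) i c).symm
  haveI : Sheaf.IsLocallySurjective ψ' := (Sheaf.isLocallySurjective_iff_epi' _ ψ').2 inferInstance
  have e : toSheafify J (combPre O U ι) ≫ ψ'.hom = ψ :=
    ((sheafificationAdjunction J AddCommGrpCat.{u}).homEquiv_unit _ _ ψ').symm.trans (Equiv.apply_symm_apply _ _)
  show Presheaf.IsLocallySurjective J ψ
  rw [← e]
  exact Presheaf.isLocallySurjective_comp J _ _

/-- The arrow into `U` of a smaller open. -/
abbrev overLE (W : Over U) {V : Opens T} (k : V ≤ W.left) : Over U := Over.mk (homOfLE k ≫ W.hom)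

/-- Restriction over an arrow into `U`. -/
def oRes (M : ModSite.Mod (O.over U)) (W : Over U) {V : Opens T} (k : V ≤ W.left) (m : osect M W) :
    osect M (overLE W k) :=
  M.val.map (Over.homMk (homOfLE k) : overLE W k ⟶ W).op m

/-- The value of a map out of the unit at an arrow into `U`. -/
def valAt {M : ModSite.Mod (O.over U)} (α : SheafOfModules.unit _ ⟶ M) (W : Over U) : osect M W :=
  evAt (W := W) α

/-- Locally every section is a finite combination of the images of the basis. -/
theorem exists_local_span_of_epi (g : SheafOfModules.free (R := ModSite.ringSh (O.over U)) ι ⟶ N) [Epi g]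
    (W : Over U) (m : osect N W) {p : T} (hp : p ∈ W.left) :
    ∃ (V : Opens T) (k : V ≤ W.left), p ∈ V ∧ oRes N W k m ∈ Submodule.span (O.obj.obj (op (overLE W k).left))
        (Set.range fun i : ι => valAt (M := N) (SheafOfModules.ιFree i ≫ g) (overLE W k)) := by
  haveI := isLocallySurjective_combMap g
  obtain ⟨V, k, hpV, c, hc⟩ := pointwise_of_mem_over (W := W) _ (Presheaf.imageSieve_mem
    ((Opens.grothendieckTopology T).over U) (combMap (ι := ι) (N := N) fun i : ι => SheafOfModules.ιFree i ≫ g)
    (U := op W) m) hp
  refine ⟨V, k, hpV, ?_⟩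
  have h1 : oRes N W k m = c.sum fun i a => (unitApp (SheafOfModules.ιFree i ≫ g) (op (overLE W k)) a :
      osect N (overLE W k)) := hc.symm.trans (Finsupp.liftAddHom_apply _ _)
  rw [h1]
  refine Submodule.sum_mem _ fun i _ => ?_
  exact Eq.subst (motive := fun v => v ∈ _) (unitApp_eq (SheafOfModules.ιFree i ≫ g) (overLE W k) ((show ι →₀ O.obj.obj (op (overLE W k).left) from c) i)).symm
    (Submodule.smul_mem _ _ (Submodule.subset_span ⟨i, rfl⟩))

end GrothLib.FCat7
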