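import Groth.Agent.Lib.FCat7.IndClosed

/-!
# Ind-coherent modules are closed under colimits
-/

set_option autoImplicit false
set_option linter.style.haveILetI false
set_option linter.unusedSectionVars false
universe u

open CategoryTheory CategoryTheory.Limits AlgebraicGeometry TopologicalSpace Opposite

noncomputable section

namespace GrothLib.FCat7

section Abstract

variable {C : Type*} [Category C] [Abelian C]

/-- The difference of the two legs of an arrow of a diagram. -/
abbrev legDiff {J : Type u} [Category.{u} J] {M : C} (pres : ColimitPresentation J M)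
    [HasCoproduct fun j => pres.diag.obj j] (a : Σ i j : J, (i ⟶ j)) :
    pres.diag.obj a.1 ⟶ ∐ fun j => pres.diag.obj j :=
  pres.diag.map a.2.2 ≫ Sigma.ι (fun j => pres.diag.obj j) a.2.1 - Sigma.ι (fun j => pres.diag.obj j) a.1

/-- The coproduct of colimits is the cokernel of a map of coproducts of the stages. -/
theorem exists_cokernel_sigma {A : Type u} {F : A → C} {K : A → Type u} [∀ j, Category.{u} (K j)]
    (pres : ∀ j, ColimitPresentation (K j) (F j))
    [HasCoproduct F] [HasCoproduct fun p : Σ j, K j => (pres p.1).diag.obj p.2]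
    [HasCoproduct fun a : Σ j, Σ i k : K j, (i ⟶ k) => (pres a.1).diag.obj a.2.1] :
    ∃ (r : (∐ fun a : Σ j, Σ i k : K j, (i ⟶ k) => (pres a.1).diag.obj a.2.1) ⟶
        ∐ fun p : Σ j, K j => (pres p.1).diag.obj p.2), Nonempty (cokernel r ≅ ∐ F) := by
  let G := fun p : Σ j, K j => (pres p.1).diag.obj p.2
  let r : (∐ fun a : Σ j, Σ i k : K j, (i ⟶ k) => (pres a.1).diag.obj a.2.1) ⟶ ∐ G :=
    Sigma.desc fun a => (pres a.1).diag.map a.2.2.2 ≫ Sigma.ι G ⟨a.1, a.2.2.1⟩ - Sigma.ι G ⟨a.1, a.2.1⟩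
  refine ⟨r, ⟨?_⟩⟩
  let q : ∐ G ⟶ ∐ F := Sigma.desc fun p => (pres p.1).ι.app p.2 ≫ Sigma.ι F p.1
  haveI : Epi q := Preadditive.epi_of_cancel_zero _ fun {Z} g hg => Sigma.hom_ext _ _ fun j => by
    refine (pres j).isColimit.hom_ext fun k => ?_
    have := Sigma.ι G ⟨j, k⟩ ≫= hg
    rw [Sigma.ι_desc_assoc, Category.assoc, comp_zero] at this
    rw [comp_zero]
    exact this.trans comp_zero.symm
  have hrq : r ≫ q = 0 := Sigma.hom_ext _ _ fun a => by
    rw [Sigma.ι_desc_assoc, Preadditive.sub_comp, Category.assoc, comp_zero, sub_eq_zero]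
    simp only [q, G, Sigma.ι_desc]
    exact ((pres a.1).w_assoc a.2.2.2 _)
  have hdesc : ∀ {Z : C} (d : ∐ G ⟶ Z), r ≫ d = 0 → ∃ e, q ≫ e = d := fun {Z} d hd => by
    let s : ∀ j, Cocone (pres j).diag := fun j =>
      { pt := Z
        ι :=
          { app := fun k => Sigma.ι G ⟨j, k⟩ ≫ d
            naturality := fun i k f => by
              have h1 := Sigma.ι (fun a : Σ j, Σ i k : K j, (i ⟶ k) => (pres a.1).diag.obj a.2.1) ⟨j, i, k, f⟩ ≫= hd
              rw [Sigma.ι_desc_assoc, Preadditive.sub_comp, Category.assoc, comp_zero, sub_eq_zero] at h1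
              exact h1.trans (Category.comp_id _).symm } }
    refine ⟨Sigma.desc fun j => (pres j).isColimit.desc (s j), Sigma.hom_ext _ _ fun p => ?_⟩
    rw [Sigma.ι_desc_assoc, Category.assoc, Sigma.ι_desc]
    exact (pres p.1).isColimit.fac (s p.1) p.2
  exact (cokernelIsCokernel r).coconePointUniqueUpToIso
    (CokernelCofork.IsColimit.ofπ' q hrq fun {Z} d hd => ⟨(hdesc d hd).choose, (hdesc d hd).choose_spec⟩)

/-- A colimit is the cokernel of the differences of the legs. -/
theorem exists_cokernel_colimit {J : Type u} [Category.{u} J] {M : C} (pres : ColimitPresentation J M)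
    [HasCoproduct fun j => pres.diag.obj j] [HasCoproduct fun a : Σ i j : J, (i ⟶ j) => pres.diag.obj a.1] :
    ∃ (q : (∐ fun j => pres.diag.obj j) ⟶ M), Epi q ∧ Nonempty (cokernel (Sigma.desc (legDiff pres)) ≅ M) := by
  let q : (∐ fun j => pres.diag.obj j) ⟶ M := Sigma.desc fun j => pres.ι.app j
  have hq : Epi q := Preadditive.epi_of_cancel_zero _ fun {Z} g hg => pres.isColimit.hom_ext fun j => by
    have := Sigma.ι (fun j => pres.diag.obj j) j ≫= hg
    rw [Sigma.ι_desc_assoc, comp_zero] at this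
    exact this.trans comp_zero.symm
  have hrq : Sigma.desc (legDiff pres) ≫ q = 0 := Sigma.hom_ext _ _ fun a => by
    rw [Sigma.ι_desc_assoc, Preadditive.sub_comp, Category.assoc, comp_zero, sub_eq_zero]
    simp only [q, Sigma.ι_desc]
    exact pres.w a.2.2
  have hdesc : ∀ {Z : C} (d : (∐ fun j => pres.diag.obj j) ⟶ Z), Sigma.desc (legDiff pres) ≫ d = 0 →
      ∃ e, q ≫ e = d := fun {Z} d hd => by
    let s : Cocone pres.diag :=
      { pt := Z
        ι :=
          { app := fun k => Sigma.ι (fun j => pres.diag.obj j) k ≫ d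
            naturality := fun i k f => by
              have h1 := Sigma.ι (fun a : Σ i j : J, (i ⟶ j) => pres.diag.obj a.1) ⟨i, k, f⟩ ≫= hd
              rw [Sigma.ι_desc_assoc, Preadditive.sub_comp, Category.assoc, comp_zero, sub_eq_zero] at h1
              exact h1.trans (Category.comp_id _).symm } }
    refine ⟨pres.isColimit.desc s, Sigma.hom_ext _ _ fun j => ?_⟩
    rw [Sigma.ι_desc_assoc]
    exact pres.isColimit.fac s j
  exact ⟨q, hq, ⟨(cokernelIsCokernel _).coconePointUniqueUpToIso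
    (CokernelCofork.IsColimit.ofπ' q hrq fun {Z} d hd => ⟨(hdesc d hd).choose, (hdesc d hd).choose_spec⟩)⟩⟩

end Abstract

variable {𝔛 : FSch.Sys.{u}} {h : 𝔛.IsFormal} (hN : 𝔛.IsLocNoethFormal)
include hN

/-- A coproduct of coherent modules is ind-coherent. -/
theorem ind_sigma {I : Type u} (G : I → FSch.ModF 𝔛 h) (hG : ∀ i, FSch.IsCohF 𝔛 h (G i)) :
    (ObjectProperty.ind.{u} fun G : FSch.ModF 𝔛 h => FSch.IsCohF 𝔛 h G) (∐ G) :=
  ⟨Finset (Discrete I), inferInstance, inferInstance,
    { diag := CoproductsFromFiniteFiltered.liftToFinsetObj (Discrete.functor G)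
      ι := (CoproductsFromFiniteFiltered.finiteSubcoproductsCocone G).ι
      isColimit := CoproductsFromFiniteFiltered.isColimitFiniteSubproductsCocone G },
    fun S => isCohF_sigma hN (fun x : S => G x.1.as) fun x => hG x.1.as⟩

/-- Cokernels of quasi-coherent modules are quasi-coherent. -/
theorem isQuasicoherent_cokernel {F G : FSch.ModF 𝔛 h} [SheafOfModules.IsQuasicoherent.{u} F]
    [SheafOfModules.IsQuasicoherent.{u} G] (φ : F ⟶ G) : SheafOfModules.IsQuasicoherent.{u} (cokernel φ) :=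
  isQuasicoherent_of_isQC fun p => by
    obtain ⟨W₁, hW₁, hp₁, -, hF⟩ := exists_isQC hN F (U := ⊤) (p := p) trivial
    obtain ⟨W, hW, hp, hWW, hG⟩ := exists_isQC hN G hp₁
    exact ⟨W, hp, (hF.res hN hW hWW).cokernel hN hW φ hG⟩

theorem isQuasicoherent_of_iso {F G : FSch.ModF 𝔛 h} (e : F ≅ G) [SheafOfModules.IsQuasicoherent.{u} F] :
    SheafOfModules.IsQuasicoherent.{u} G :=
  (SheafOfModules.isQuasicoherent.{u} (ModSite.ringSh (𝔛.Osh h))).prop_of_iso e ‹_›

set_option maxHeartbeats 800000 in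
/-- A coproduct of ind-coherent modules is a quasi-coherent quotient of one. -/
theorem sigma_ind {A : Type u} (F : A → FSch.ModF 𝔛 h)
    (hF : ∀ j, (ObjectProperty.ind.{u} fun G : FSch.ModF 𝔛 h => FSch.IsCohF 𝔛 h G) (F j)) :
    (ObjectProperty.ind.{u} fun G : FSch.ModF 𝔛 h => FSch.IsCohF 𝔛 h G) (∐ F) := by
  choose K cK fK pres hp using hF
  letI := cK
  obtain ⟨r, ⟨e⟩⟩ := exists_cokernel_sigma pres
  haveI := isQuasicoherent_of_ind hN (ind_sigma hN (fun p : Σ j, K j => (pres p.1).diag.obj p.2) fun p => hp p.1 p.2)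
  haveI := isQuasicoherent_of_ind hN
    (ind_sigma hN (fun a : Σ j, Σ i k : K j, (i ⟶ k) => (pres a.1).diag.obj a.2.1) fun a => hp a.1 a.2.1)
  haveI := isQuasicoherent_cokernel hN r
  haveI := isQuasicoherent_of_iso hN e
  exact ind_of_epi hN (ind_sigma hN (fun p : Σ j, K j => (pres p.1).diag.obj p.2) fun p => hp p.1 p.2)
    (cokernel.π r ≫ e.hom)

set_option maxHeartbeats 800000 in
/-- Ind-coherent modules are closed under colimits. -/
theorem ind_of_colimit {J : Type u} [SmallCategory J] {M : FSch.ModF 𝔛 h} (pres : ColimitPresentation J M)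
    (hp : ∀ j, (ObjectProperty.ind.{u} fun G : FSch.ModF 𝔛 h => FSch.IsCohF 𝔛 h G) (pres.diag.obj j)) :
    (ObjectProperty.ind.{u} fun G : FSch.ModF 𝔛 h => FSch.IsCohF 𝔛 h G) M := by
  obtain ⟨q, hq, ⟨e⟩⟩ := exists_cokernel_colimit pres
  haveI := isQuasicoherent_of_ind hN (sigma_ind hN (fun j => pres.diag.obj j) hp)
  haveI := isQuasicoherent_of_ind hN
    (sigma_ind hN (fun a : Σ i j : J, (i ⟶ j) => pres.diag.obj a.1) fun a => hp a.1)
  haveI := isQuasicoherent_cokernel hN (Sigma.desc (legDiff pres))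
  haveI := isQuasicoherent_of_iso hN e
  exact ind_of_epi hN (sigma_ind hN (fun j => pres.diag.obj j) hp) q

end GrothLib.FCat7
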