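import Groth.Agent.Lib.FCat7.Acyclic
import Groth.Agent.Lib.FCat7.IndColim
import Mathlib.Algebra.Homology.ExactSequence

/-!
# The middle of an exact sequence of five
-/

set_option autoImplicit false
set_option linter.style.haveILetI false
set_option linter.unusedSectionVars false
universe u v w

open CategoryTheory CategoryTheory.Limits AlgebraicGeometry TopologicalSpace Opposite

noncomputable section

namespace GrothLib.FCat7

/-- The middle of an exact sequence of five is an extension of a kernel by a cokernel. -/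
theorem exists_shortExact_mid {C : Type w} [Category.{v} C] [Abelian C] {A B M D E : C} (a : A ⟶ B) (b : B ⟶ M)
    (c : M ⟶ D) (d : D ⟶ E) (wab : a ≫ b = 0) (wbc : b ≫ c = 0) (wcd : c ≫ d = 0)
    (hab : (ShortComplex.mk a b wab).Exact) (hbc : (ShortComplex.mk b c wbc).Exact)
    (hcd : (ShortComplex.mk c d wcd).Exact) :
    ∃ (f : cokernel a ⟶ M) (g : M ⟶ kernel d) (w : f ≫ g = 0), (ShortComplex.mk f g w).ShortExact := by
  refine ⟨cokernel.desc a b wab, kernel.lift d c wcd, coequalizer.hom_ext ?_, ?_⟩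
  · rw [cokernel.π_desc_assoc, comp_zero]
    exact equalizer.hom_ext (by rw [Category.assoc, kernel.lift_ι, wbc, zero_comp])
  · haveI : Mono (cokernel.desc a b wab) := (ShortComplex.exact_iff_mono_cokernel_desc _).1 hab
    haveI : Epi (kernel.lift d c wcd) := (ShortComplex.exact_iff_epi_kernel_lift _).1 hcd
    refine { exact := ?_ }
    let S₁ := ShortComplex.mk b (kernel.lift d c wcd) (equalizer.hom_ext (by
      rw [Category.assoc, kernel.lift_ι, wbc, zero_comp]))
    let φ₁ : S₁ ⟶ ShortComplex.mk b c wbc :=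
      { τ₁ := 𝟙 _, τ₂ := 𝟙 _, τ₃ := kernel.ι d }
    have hS₁ : S₁.Exact := (ShortComplex.exact_iff_of_epi_of_isIso_of_mono φ₁).2 hbc
    let φ₂ : S₁ ⟶ ShortComplex.mk (cokernel.desc a b wab) (kernel.lift d c wcd) (coequalizer.hom_ext (by
        rw [cokernel.π_desc_assoc, comp_zero]; exact S₁.zero)) :=
      { τ₁ := cokernel.π a, τ₂ := 𝟙 _, τ₃ := 𝟙 _ }
    exact (ShortComplex.exact_iff_of_epi_of_isIso_of_mono φ₂).1 hS₁

variable {𝔛 : FSch.Sys.{u}} {h : 𝔛.IsFormal} (hN : 𝔛.IsLocNoethFormal)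
include hN

/-- Extensions of quasi-coherent modules. -/
theorem isQuasicoherent_extension {S : ShortComplex (FSch.ModF 𝔛 h)} (hS : S.ShortExact)
    [SheafOfModules.IsQuasicoherent.{u} S.X₁] [SheafOfModules.IsQuasicoherent.{u} S.X₃] :
    SheafOfModules.IsQuasicoherent.{u} S.X₂ :=
  isQuasicoherent_of_isQC fun p => by
    obtain ⟨W₁, hW₁, hp₁, -, hA⟩ := exists_isQC hN S.X₁ (U := ⊤) (p := p) trivial
    obtain ⟨W, hW, hp, hWW, hC⟩ := exists_isQC hN S.X₃ hp₁
    exact ⟨W, hp, (hA.res hN hW hWW).extension hN hS hW hC⟩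

/-- Kernels of morphisms of quasi-coherent modules. -/
theorem isQuasicoherent_kernel' {F G : FSch.ModF 𝔛 h} [SheafOfModules.IsQuasicoherent.{u} F]
    [SheafOfModules.IsQuasicoherent.{u} G] (φ : F ⟶ G) : SheafOfModules.IsQuasicoherent.{u} (kernel φ) :=
  isQuasicoherent_of_isQC fun p => by
    obtain ⟨W₁, hW₁, hp₁, -, hF⟩ := exists_isQC hN F (U := ⊤) (p := p) trivial
    obtain ⟨W, hW, hp, hWW, hG⟩ := exists_isQC hN G hp₁
    exact ⟨W, hp, (hF.res hN hW hWW).kernel φ hG⟩

end GrothLib.FCat7
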