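import Groth.Agent.Lib.FCat7.GenSub
import Groth.Agent.Lib.FCat7.FiveLemma

/-!
# Extensions of ind-coherent modules
-/

set_option autoImplicit false
set_option linter.style.haveILetI false
set_option linter.unusedSectionVars false
universe u

open CategoryTheory CategoryTheory.Limits AlgebraicGeometry TopologicalSpace Opposite

noncomputable section

namespace GrothLib.FCat7

open GrothLib.FMod7

variable {𝔛 : FSch.Sys.{u}} {h : 𝔛.IsFormal} (hN : 𝔛.IsLocNoethFormal)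
include hN

/-- Finitely many sections over compact opens of a filtered colimit come from one stage. -/
theorem exists_stage {J : Type u} [SmallCategory J] [IsFiltered J] {D : J ⥤ FSch.ModF 𝔛 h} {c : Cocone D}
    (hc : IsColimit c) {β : Type u} [Finite β] (V : β → (𝔛.X 0).Opens) (hV : ∀ b, IsCompact (V b : Set (𝔛.X 0)))
    (m : ∀ b, ModSite.sect c.pt (V b)) (j₀ : J) :
    ∃ (j : J) (_ : j₀ ⟶ j) (x : ∀ b, ModSite.sect (D.obj j) (V b)), ∀ b, sHom (c.ι.app j) (V b) (x b) = m b := by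
  classical
  haveI := Fintype.ofFinite β
  choose jb xb hxb using fun b => colim_gen hN hc (hV b) (m b)
  obtain ⟨j, hj⟩ := IsFiltered.sup_objs_exists (insert j₀ (Finset.univ.image jb))
  let f : ∀ b, jb b ⟶ j := fun b => (hj (Finset.mem_insert_of_mem (Finset.mem_image_of_mem jb (Finset.mem_univ b)))).some
  refine ⟨j, (hj (Finset.mem_insert_self _ _)).some, fun b => sHom (D.map (f b)) (V b) (xb b), fun b => ?_⟩
  refine Eq.trans ?_ (hxb b)
  exact congrArg (fun φ : D.obj (jb b) ⟶ c.pt => (φ.val.app (op (V b))).hom (xb b)) (c.w (f b))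

set_option maxHeartbeats 2000000 in
/-- A section of an extension lies in a coherent submodule. -/
theorem exists_coh_of_extension [CompactSpace (𝔛.X 0)] {S : ShortComplex (FSch.ModF 𝔛 h)} (hS : S.ShortExact)
    (hA : (ObjectProperty.ind.{u} fun G : FSch.ModF 𝔛 h => FSch.IsCohF 𝔛 h G) S.X₁)
    (hC : (ObjectProperty.ind.{u} fun G : FSch.ModF 𝔛 h => FSch.IsCohF 𝔛 h G) S.X₃)
    {W₀ : (𝔛.X 0).Opens} (hW₀ : IsAffineOpen W₀) (z : ModSite.sect S.X₂ W₀) :
    ∃ (F : FSch.ModF 𝔛 h) (φ : F ⟶ S.X₂) (z' : ModSite.sect F W₀), FSch.IsCohF 𝔛 h F ∧ sHom φ W₀ z' = z := by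
  classical
  have hQM : ∀ {W : (𝔛.X 0).Opens}, IsAffineOpen W → IsQC S.X₂ W := fun hW =>
    (isQC_of_ind hN hA hW).extension hN hS hW (isQC_of_ind hN hC hW)
  have hsurj : ∀ {W : (𝔛.X 0).Opens}, IsAffineOpen W → Function.Surjective (sHom S.g W) := fun hW =>
    (isQC_of_ind hN hA hW).surjective hN hS hW
  obtain ⟨J, _, _, pA, hpA⟩ := hA
  obtain ⟨K, _, _, pC, hpC⟩ := hC
  haveI := hS.mono_f
  choose P hP hpP using fun p : 𝔛.X 0 => exists_affine_nhd (𝔛 := 𝔛) p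
  obtain ⟨t, ht⟩ := isCompact_univ.elim_finite_subcover (fun p : 𝔛.X 0 => (P p : Set (𝔛.X 0))) (fun p => (P p).2)
    fun p _ => Set.mem_iUnion.2 ⟨p, hpP p⟩
  let a₀ : Option {p // p ∈ t} := none
  let W : Option {p // p ∈ t} → (𝔛.X 0).Opens := fun a => a.elim W₀ fun p => P p.1
  have hW : ∀ a, IsAffineOpen (W a) := fun a => by
    cases a with
    | none => exact hW₀
    | some p => exact hP p.1
  let z₁ : ModSite.sect S.X₂ (W a₀) := z
  obtain ⟨k, x₀, hx₀⟩ := colim_gen hN pC.isColimit (hW a₀).isCompact (sHom S.g (W a₀) z₁)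
  haveI := hpC k
  have hgen : ∀ a, ∃ (n : ℕ) (c : Fin n → ModSite.sect (pC.diag.obj k) (W a)),
      Submodule.span (Sec 𝔛 h (W a)) (Set.range c) = ⊤ := fun a => by
    haveI := moduleFinite_sect (F := pC.diag.obj k) hN (hW a)
    exact Submodule.fg_iff_exists_fin_generating_family.1 Module.Finite.fg_top
  choose n c hc using hgen
  choose T hT using fun (x : Σ a, Fin (n a)) => hsurj (hW x.1) (sHom (pC.ι.app k) (W x.1) (c x.1 x.2))
  -- affine covers of the overlaps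
  have hov : ∀ ab : Option {p // p ∈ t} × Option {p // p ∈ t}, ∃ (V : Finset (𝔛.X 0).affineOpens),
      (∀ U ∈ V, U.1 ≤ W ab.1 ⊓ W ab.2) ∧ ∀ q ∈ W ab.1 ⊓ W ab.2, ∃ U ∈ V, q ∈ U.1 := fun ab => by
    haveI := hN.2.2 0
    haveI : QuasiSeparatedSpace (𝔛.X 0) := inferInstance
    have hcp : IsCompact ((W ab.1 ⊓ W ab.2 : (𝔛.X 0).Opens) : Set (𝔛.X 0)) :=
      by rw [Opens.coe_inf]; exact QuasiSeparatedSpace.inter_isCompact _ _ (W ab.1).2 (hW _).isCompact (W ab.2).2 (hW _).isCompact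
    choose U hU hqU hUW using fun q : (W ab.1 ⊓ W ab.2 : (𝔛.X 0).Opens) =>
      exists_affine_mem hN (p := q.1) (U := W ab.1 ⊓ W ab.2) q.2
    obtain ⟨s, hs⟩ := hcp.elim_finite_subcover (fun q : (W ab.1 ⊓ W ab.2 : (𝔛.X 0).Opens) => (U q : Set (𝔛.X 0)))
      (fun q => (U q).2) fun q hq => Set.mem_iUnion.2 ⟨⟨q, hq⟩, hqU _⟩
    refine ⟨s.image fun q => ⟨U q, hU q⟩, fun V hV => ?_, fun q hq => ?_⟩
    · obtain ⟨q, -, rfl⟩ := Finset.mem_image.1 hV
      exact hUW q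
    · obtain ⟨r, hr, hqr⟩ := Set.mem_iUnion₂.1 (hs hq)
      exact ⟨_, Finset.mem_image_of_mem _ hr, hqr⟩
  choose V hVW hVcov using hov
  -- the defects over the overlaps
  let β := Σ a, Σ b, {U // U ∈ V (a, b)} × Fin (n b)
  let Uβ : β → (𝔛.X 0).Opens := fun x => x.2.2.1.1.1
  have hU1 : ∀ x : β, Uβ x ≤ W x.1 := fun x => (hVW (x.1, x.2.1) _ x.2.2.1.2).trans inf_le_left
  have hU2 : ∀ x : β, Uβ x ≤ W x.2.1 := fun x => (hVW (x.1, x.2.1) _ x.2.2.1.2).trans inf_le_right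
  have hUa : ∀ x : β, IsAffineOpen (Uβ x) := fun x => x.2.2.1.1.2
  choose C hC' using fun x : β => (Submodule.mem_span_range_iff_exists_fun _).1
    ((span_sres_eq_top hN (hW x.1) (hUa x) (hU1 x) (hc x.1)).symm ▸ Submodule.mem_top :
      sres (pC.diag.obj k) (hU2 x) (c x.2.1 x.2.2.2) ∈ _)
  let d : ∀ x : β, ModSite.sect S.X₂ (Uβ x) := fun x =>
    sres S.X₂ (hU2 x) (T ⟨x.2.1, x.2.2.2⟩) - ∑ l, C x l • sres S.X₂ (hU1 x) (T ⟨x.1, l⟩)
  have hd : ∀ x, sHom S.g (Uβ x) (d x) = 0 := fun x => by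
    refine (map_sub (sHom S.g (Uβ x)) _ _).trans (sub_eq_zero.2 ?_)
    refine (sHom_res S.g (hU2 x) _).trans ((congrArg (sres S.X₃ (hU2 x)) (hT ⟨x.2.1, x.2.2.2⟩)).trans ?_)
    rw [← sHom_res, ← hC' x, map_sum, map_sum]
    exact Finset.sum_congr rfl fun l _ => ((sHom (pC.ι.app k) (Uβ x)).map_smul _ _).trans
      ((congrArg (C x l • ·) ((sHom_res _ _ _).trans ((congrArg _ (hT ⟨x.1, l⟩)).symm.trans (sHom_res _ _ _).symm))).trans
        ((sHom S.g (Uβ x)).map_smul _ _).symm)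
  have hker : ∀ {U : (𝔛.X 0).Opens} (m : ModSite.sect S.X₂ U), sHom S.g U m = 0 →
      ∃ a : ModSite.sect S.X₁ U, sHom S.f U a = m := fun {U} m hm => by
    obtain ⟨q, hq⟩ := exists_kernel_sect S.g U m hm
    let i := hS.fIsKernel.conePointUniqueUpToIso (kernelIsKernel S.g)
    refine ⟨sHom i.inv U q, Eq.trans ?_ hq⟩
    have e : i.inv ≫ S.f = kernel.ι S.g :=
      hS.fIsKernel.conePointUniqueUpToIso_inv_comp (kernelIsKernel S.g) WalkingParallelPair.zero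
    exact (sHom_comp i.inv S.f U q).symm.trans (by rw [e])
  choose α hα using fun x => hker (d x) (hd x)
  obtain ⟨C₀, hC₀⟩ := (Submodule.mem_span_range_iff_exists_fun _).1 ((hc a₀).symm ▸ Submodule.mem_top : x₀ ∈ _)
  let d₀ : ModSite.sect S.X₂ (W a₀) := z₁ - ∑ l, C₀ l • T ⟨a₀, l⟩
  have hd₀ : sHom S.g (W a₀) d₀ = 0 := by
    refine (map_sub (sHom S.g (W a₀)) _ _).trans (sub_eq_zero.2 ?_)
    rw [← hx₀, ← hC₀, map_sum, map_sum]
    exact Finset.sum_congr rfl fun l _ => ((sHom (pC.ι.app k) (W a₀)).map_smul _ _).trans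
      ((congrArg (C₀ l • ·) (hT ⟨a₀, l⟩).symm).trans ((sHom S.g (W a₀)).map_smul _ _).symm)
  obtain ⟨α₀, hα₀⟩ := hker d₀ hd₀
  -- one stage of the kernel
  obtain ⟨i₀, y₀, hy₀⟩ := colim_gen hN pA.isColimit (hW a₀).isCompact α₀
  obtain ⟨i, f, y, hy⟩ := exists_stage hN pA.isColimit Uβ (fun x => (hUa x).isCompact) α i₀
  haveI := hpA i
  have hgenA : ∀ a, ∃ (m : ℕ) (e : Fin m → ModSite.sect (pA.diag.obj i) (W a)),
      Submodule.span (Sec 𝔛 h (W a)) (Set.range e) = ⊤ := fun a => by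
    haveI := moduleFinite_sect (F := pA.diag.obj i) hN (hW a)
    exact Submodule.fg_iff_exists_fin_generating_family.1 Module.Finite.fg_top
  choose m e he using hgenA
  let φ : pA.diag.obj i ⟶ S.X₂ := pA.ι.app i ≫ S.f
  let g : ∀ a, Fin (n a + m a) → ModSite.sect S.X₂ (W a) := fun a =>
    Fin.append (fun l => T ⟨a, l⟩) fun l => sHom φ (W a) (e a l)
  let ι := Σ a, Fin (n a + m a)
  let M' := genMod S.X₂ (fun x : ι => W x.1) fun x => g x.1 x.2
  have hgA : ∀ a {U : (𝔛.X 0).Opens} (hU : IsAffineOpen U) (hUW : U ≤ W a) (v : ModSite.sect (pA.diag.obj i) U),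
      sHom φ U v ∈ Submodule.span (Sec 𝔛 h U) (Set.range fun l => sres S.X₂ hUW (g a l)) := fun a U hU hUW v => by
    obtain ⟨r, hr⟩ := (Submodule.mem_span_range_iff_exists_fun _).1
      ((span_sres_eq_top hN (hW a) hU hUW (he a)).symm ▸ Submodule.mem_top : v ∈ _)
    rw [← hr, map_sum]
    refine Submodule.sum_mem _ fun l _ => ?_
    rw [map_smul, sHom_res]
    exact Submodule.smul_mem _ _ (Submodule.subset_span ⟨Fin.natAdd (n a) l, by simp [g]⟩)
  have hcoh : FSch.IsCohF 𝔛 h M' := by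
    refine isCohF_genMod hN _ _ fun p => ?_
    obtain ⟨r, hr, hpr⟩ := Set.mem_iUnion₂.1 (ht (Set.mem_univ p))
    let a : Option {p // p ∈ t} := some ⟨r, hr⟩
    refine ⟨W a, n a + m a, g a, hW a, hpr, hQM (hW a), fun l => mem_genSet _ _ _ (⟨a, l⟩ : ι), fun x q hq hqx => ?_⟩
    obtain ⟨b, l⟩ := x
    obtain ⟨U, hU, hqU⟩ := hVcov (a, b) q ⟨hq, hqx⟩
    have h1 : U.1 ≤ W a := (hVW (a, b) U hU).trans inf_le_left
    have h2 : U.1 ≤ W b := (hVW (a, b) U hU).trans inf_le_right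
    refine ⟨U.1, h1, h2, hqU, ?_⟩
    refine Fin.addCases (motive := fun l => sres S.X₂ h2 (g b l) ∈
      Submodule.span (Sec 𝔛 h U.1) (Set.range fun l => sres S.X₂ h1 (g a l))) (fun l => ?_) (fun l => ?_) l
    · let x : β := ⟨a, b, ⟨U, hU⟩, l⟩
      have e1 : sres S.X₂ h2 (g b (Fin.castAdd (m b) l)) =
          (∑ j, C x j • sres S.X₂ h1 (T ⟨a, j⟩)) + sHom φ U.1 (y x) := by
        have e2 : sHom φ (Uβ x) (y x) = d x :=
          (sHom_comp _ S.f _ _).trans ((congrArg (sHom S.f (Uβ x)) (hy x)).trans (hα x))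
        refine Eq.trans ?_ (congrArg ((∑ j, C x j • sres S.X₂ h1 (T ⟨a, j⟩)) + ·) e2).symm
        refine Eq.trans ?_ (add_sub_cancel _ _).symm
        simp [g]
        rfl
      rw [e1]
      refine add_mem (Submodule.sum_mem _ fun j _ => Submodule.smul_mem _ _
        (Submodule.subset_span ⟨Fin.castAdd (m a) j, by simp [g]⟩)) (hgA a U.2 h1 _)
    · have e1 : g b (Fin.natAdd (n b) l) = sHom φ (W b) (e b l) := by simp [g]
      rw [e1, ← sHom_res]
      exact hgA a U.2 h1 _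
  refine ⟨M', genIncl _ _ _, ?_⟩
  have hz : z₁ ∈ genSet S.X₂ (fun x : ι => W x.1) (fun x => g x.1 x.2) (W a₀) := by
    intro q hq
    refine ⟨(W a₀), le_rfl, hq, ?_⟩
    refine Eq.subst (motive := fun v => v ∈ _) (sres_id z₁).symm ?_
    have e1 : z₁ = (∑ l, C₀ l • T ⟨a₀, l⟩) + sHom φ (W a₀) (sHom (pA.diag.map f) (W a₀) y₀) := by
      have e2 : sHom φ (W a₀) (sHom (pA.diag.map f) (W a₀) y₀) = d₀ := by
        refine (sHom_comp _ S.f _ _).trans (Eq.trans (congrArg (sHom S.f (W a₀)) ?_) hα₀)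
        refine Eq.trans ?_ hy₀
        exact congrArg (fun ψ : pA.diag.obj i₀ ⟶ S.X₁ => (ψ.val.app (op (W a₀))).hom y₀) (pA.w f)
      rw [e2]
      exact (add_sub_cancel _ _).symm
    rw [e1]
    have hle : Submodule.span (Sec 𝔛 h (W a₀)) (Set.range fun l => sres S.X₂ (le_refl (W a₀)) (g a₀ l)) ≤
        spanAt S.X₂ (fun x : ι => W x.1) (fun x => g x.1 x.2) (W a₀) :=
      Submodule.span_mono (by rintro _ ⟨l, rfl⟩; exact ⟨⟨⟨a₀, l⟩, le_refl (W a₀)⟩, rfl⟩)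
    refine hle (add_mem (Submodule.sum_mem _ fun j _ => Submodule.smul_mem _ _
      (Submodule.subset_span ⟨Fin.castAdd (m a₀) j, ?_⟩)) (hgA a₀ (hW a₀) (le_refl (W a₀)) _))
    exact (sres_id _).trans (by simp [g])
  obtain ⟨z', hz'⟩ := exists_genMod_sect _ _ _ hz
  exact ⟨z', hcoh, hz'⟩

/-- A quasi-coherent module covered by images of coherent ones is ind-coherent. -/
theorem ind_of_forall_coh {M : FSch.ModF 𝔛 h} [SheafOfModules.IsQuasicoherent.{u} M]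
    (H : ∀ (W : (𝔛.X 0).affineOpens) (z : ModSite.sect M W.1), ∃ (F : FSch.ModF 𝔛 h) (φ : F ⟶ M)
      (z' : ModSite.sect F W.1), FSch.IsCohF 𝔛 h F ∧ sHom φ W.1 z' = z) :
    (ObjectProperty.ind.{u} fun G : FSch.ModF 𝔛 h => FSch.IsCohF 𝔛 h G) M := by
  choose F φ z' hF hz using H
  let I := Σ W : (𝔛.X 0).affineOpens, ModSite.sect M W.1
  let q : (∐ fun x : I => F x.1 x.2) ⟶ M := Sigma.desc fun x => φ x.1 x.2
  haveI : Epi q := Preadditive.epi_of_cancel_zero _ fun {Z} r hr => hom_ext_basis fun U hU z => by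
    have e : φ ⟨U, hU⟩ z ≫ r = 0 := by
      refine Eq.trans ?_ ((congrArg (Sigma.ι (fun x : I => F x.1 x.2) ⟨⟨U, hU⟩, z⟩ ≫ ·) hr).trans comp_zero)
      exact (congrArg (· ≫ r) (Sigma.ι_desc (fun x : I => φ x.1 x.2) (⟨⟨U, hU⟩, z⟩ : I)).symm).trans (Category.assoc _ _ _)
    refine (congrArg (sHom r U) (hz ⟨U, hU⟩ z).symm).trans ?_
    exact sHom_eq_zero e U _
  exact ind_of_epi hN (ind_sigma hN (fun x : I => F x.1 x.2) fun x => hF x.1 x.2) q

/-- Extensions of ind-coherent modules on a noetherian formal scheme. -/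
theorem ind_extension [CompactSpace (𝔛.X 0)] {S : ShortComplex (FSch.ModF 𝔛 h)} (hS : S.ShortExact)
    (hA : (ObjectProperty.ind.{u} fun G : FSch.ModF 𝔛 h => FSch.IsCohF 𝔛 h G) S.X₁)
    (hC : (ObjectProperty.ind.{u} fun G : FSch.ModF 𝔛 h => FSch.IsCohF 𝔛 h G) S.X₃) :
    (ObjectProperty.ind.{u} fun G : FSch.ModF 𝔛 h => FSch.IsCohF 𝔛 h G) S.X₂ := by
  haveI := isQuasicoherent_of_ind hN hA
  haveI := isQuasicoherent_of_ind hN hC
  haveI := isQuasicoherent_extension hN hS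
  exact ind_of_forall_coh hN fun W z => exists_coh_of_extension hN hS hA hC W.2 z

/-- Cokernels of maps of ind-coherent modules. -/
theorem ind_cokernel' {A B : FSch.ModF 𝔛 h} (φ : A ⟶ B)
    (hA : (ObjectProperty.ind.{u} fun G : FSch.ModF 𝔛 h => FSch.IsCohF 𝔛 h G) A)
    (hB : (ObjectProperty.ind.{u} fun G : FSch.ModF 𝔛 h => FSch.IsCohF 𝔛 h G) B) :
    (ObjectProperty.ind.{u} fun G : FSch.ModF 𝔛 h => FSch.IsCohF 𝔛 h G) (cokernel φ) := by
  haveI := isQuasicoherent_of_ind hN hA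
  haveI := isQuasicoherent_of_ind hN hB
  haveI := isQuasicoherent_cokernel hN φ
  exact ind_of_epi hN hB (cokernel.π φ)

/-- Kernels of maps of ind-coherent modules. -/
theorem ind_kernel' {A B : FSch.ModF 𝔛 h} (φ : A ⟶ B)
    (hA : (ObjectProperty.ind.{u} fun G : FSch.ModF 𝔛 h => FSch.IsCohF 𝔛 h G) A)
    (hB : (ObjectProperty.ind.{u} fun G : FSch.ModF 𝔛 h => FSch.IsCohF 𝔛 h G) B) :
    (ObjectProperty.ind.{u} fun G : FSch.ModF 𝔛 h => FSch.IsCohF 𝔛 h G) (kernel φ) := by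
  haveI := isQuasicoherent_of_ind hN hA
  haveI := isQuasicoherent_of_ind hN hB
  haveI := isQuasicoherent_kernel' hN φ
  obtain ⟨J, _, _, pA, hp⟩ := hA
  refine ind_of_forall_coh hN fun W z => ?_
  obtain ⟨j, x, hx⟩ := colim_gen hN pA.isColimit W.2.isCompact (sHom (kernel.ι φ) W.1 z)
  haveI : FSch.IsCohF 𝔛 h (pA.diag.obj j) := hp j
  haveI := isQuasicoherent_kernel' hN (pA.ι.app j ≫ φ) (F := pA.diag.obj j)
  have hx0 : sHom (pA.ι.app j ≫ φ) W.1 x = 0 :=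
    (sHom_comp _ φ W.1 x).trans ((congrArg (sHom φ W.1) hx).trans (sHom_eq_zero (kernel.condition φ) W.1 z))
  obtain ⟨q, hq⟩ := exists_kernel_sect (pA.ι.app j ≫ φ) W.1 x hx0
  refine ⟨kernel (pA.ι.app j ≫ φ), kernel.lift φ (kernel.ι (pA.ι.app j ≫ φ) ≫ pA.ι.app j)
    ((Category.assoc _ _ _).trans (kernel.condition _)), q, isCohF_of_mono hN (kernel.ι (pA.ι.app j ≫ φ)), ?_⟩
  refine sHom_injective (kernel.ι φ) W.1 ((sHom_comp _ (kernel.ι φ) W.1 q).symm.trans ?_)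
  rw [kernel.lift_ι]
  exact (sHom_comp _ _ W.1 q).trans ((congrArg (sHom (pA.ι.app j) W.1) hq).trans hx)

end GrothLib.FCat7
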