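import Groth.Agent.Lib.FCat7.IndColim
import Groth.Agent.Lib.SiteDer.ModGen
import Groth.Agent.Lib.SheafCoh.ModGroth
import Mathlib.CategoryTheory.Adjunction.AdjointFunctorTheorems
import Mathlib.CategoryTheory.Abelian.Subobject

/-!
# Coherent modules form an essentially small class
-/

set_option autoImplicit false
set_option linter.style.haveILetI false
set_option linter.unusedSectionVars false
universe u

open CategoryTheory CategoryTheory.Limits AlgebraicGeometry TopologicalSpace Opposite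

noncomputable section

namespace GrothLib.FCat7

open GrothLib.FMod7

variable {𝔛 : FSch.Sys.{u}} {h : 𝔛.IsFormal} (hN : 𝔛.IsLocNoethFormal)

/-- A module of which every coherent module is a quotient. -/
def univGen (𝔛 : FSch.Sys.{u}) (h : 𝔛.IsFormal) : FSch.ModF 𝔛 h :=
  ∐ fun p : (𝔛.X 0).affineOpens × ULift.{u} ℕ =>
    (SiteDer.freeModF (ModSite.ringSh (𝔛.Osh h))).obj p.1.1

include hN

theorem exists_epi_univGen (F : FSch.ModF 𝔛 h) [FSch.IsCohF 𝔛 h F] : ∃ π : univGen 𝔛 h ⟶ F, Epi π := by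
  classical
  have hg : ∀ W : (𝔛.X 0).affineOpens, ∃ m : ℕ → ModSite.sect F W.1,
      Submodule.span (Sec 𝔛 h W.1) (Set.range m) = ⊤ := by
    intro W
    haveI := moduleFinite_sect (F := F) hN W.2
    obtain ⟨n, g, hg⟩ := Submodule.fg_iff_exists_fin_generating_family.1
      (Module.Finite.fg_top (R := Sec 𝔛 h W.1) (M := ModSite.sect F W.1))
    refine ⟨fun i => if hi : i < n then g ⟨i, hi⟩ else 0, eq_top_iff.2 (hg ▸ Submodule.span_mono ?_)⟩
    rintro _ ⟨i, rfl⟩
    exact ⟨i.1, by simp⟩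
  choose m hm using hg
  let π : univGen 𝔛 h ⟶ F := Sigma.desc fun p => (SiteDer.secMod F p.1.1).symm (m p.1 p.2.down)
  refine ⟨π, Preadditive.epi_of_cancel_zero _ fun {Z} q hq => ?_⟩
  have h0 : ∀ (W : (𝔛.X 0).affineOpens) (x : ModSite.sect F W.1), sHom q W.1 x = 0 := by
    intro W x
    refine LinearMap.mem_ker.1 (Submodule.span_le.2 ?_ ((hm W).symm ▸ Submodule.mem_top : x ∈ _))
    rintro _ ⟨i, rfl⟩
    refine LinearMap.mem_ker.2 ?_
    have e : (SiteDer.secMod F W.1).symm (m W i) ≫ q = (SiteDer.secMod F W.1).symm (m W i) ≫ (0 : F ⟶ Z) := by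
      have := congrArg (fun φ => Sigma.ι (fun p : (𝔛.X 0).affineOpens × ULift.{u} ℕ =>
        (SiteDer.freeModF (ModSite.ringSh (𝔛.Osh h))).obj p.1.1) (W, ⟨i⟩) ≫ φ) hq
      refine (Eq.trans ?_ (this.trans comp_zero)).trans comp_zero.symm
      exact (congrArg (· ≫ q) (Limits.Sigma.ι_desc
        (fun p : (𝔛.X 0).affineOpens × ULift.{u} ℕ => (SiteDer.secMod F p.1.1).symm (m p.1 p.2.down))
        (W, ⟨i⟩)).symm).trans (Category.assoc _ _ _)
    have h1 := (SiteDer.secMod_comp W.1 ((SiteDer.secMod F W.1).symm (m W i)) q).symm.trans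
      ((congrArg (SiteDer.secMod Z W.1) e).trans (SiteDer.secMod_comp W.1 _ (0 : F ⟶ Z)))
    exact (congrArg (sHom q W.1) ((SiteDer.secMod F W.1).apply_symm_apply (m W i)).symm).trans (h1.trans rfl)
  refine hom_ext_basis fun U hU z => ?_
  exact h0 ⟨U, hU⟩ z

/-- Coherent modules are essentially small. -/
theorem exists_small_coherent : ∃ (S : Type u) (G : S → FSch.ModF 𝔛 h),
    (∀ s, FSch.IsCohF 𝔛 h (G s)) ∧ ∀ F : FSch.ModF 𝔛 h, FSch.IsCohF 𝔛 h F → ∃ s, Nonempty (G s ≅ F) := by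
  haveI : WellPowered.{u} (FSch.ModF 𝔛 h) := inferInstance
  let Q := fun P : Subobject (univGen 𝔛 h) => cokernel P.arrow
  let e := equivShrink.{u} {P : Subobject (univGen 𝔛 h) // FSch.IsCohF 𝔛 h (Q P)}
  refine ⟨_, fun s => Q (e.symm s).1, fun s => (e.symm s).2, fun F hF => ?_⟩
  haveI := hF
  obtain ⟨π, hπ⟩ := exists_epi_univGen hN F
  haveI := hπ
  let i : Q (kernelSubobject π) ≅ F :=
    cokernelIsoOfEq (kernelSubobject_arrow π).symm ≪≫ cokernelEpiComp _ _ ≪≫
      (colimit.isColimit _).coconePointUniqueUpToIso (Abelian.epiIsCokernelOfKernel _ (limit.isLimit _))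
  have hQ : FSch.IsCohF 𝔛 h (Q (kernelSubobject π)) :=
    (SheafOfModules.isFinitePresentation.{u} (ModSite.ringSh (𝔛.Osh h))).prop_of_iso i.symm hF
  exact ⟨e ⟨_, hQ⟩, ⟨eqToIso (by simp) ≪≫ i⟩⟩

/-- The inclusion of ind-coherent modules is a left adjoint. -/
theorem isLeftAdjoint_ind_ι :
    (ObjectProperty.ind.{u} fun G : FSch.ModF 𝔛 h => FSch.IsCohF 𝔛 h G).ι.IsLeftAdjoint := by
  let P : ObjectProperty (FSch.ModF 𝔛 h) := ObjectProperty.ind.{u} fun G => FSch.IsCohF 𝔛 h G
  haveI hcl : ∀ (J : Type u) [SmallCategory J], P.IsClosedUnderColimitsOfShape J := fun J _ =>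
    ⟨fun M ⟨hM⟩ => ind_of_colimit hN hM.toColimitPresentation hM.prop_diag_obj⟩
  haveI : HasColimits P.FullSubcategory := ⟨fun J _ => hasColimitsOfShape_of_closedUnderColimits J P⟩
  haveI : PreservesColimits P.ι := ⟨fun {J} _ => ⟨fun {K} => by
    haveI := createsColimitFullSubcategoryInclusionOfClosed J P K
    infer_instance⟩⟩
  obtain ⟨S, G, hG, hF⟩ := exists_small_coherent hN (h := h)
  let G' : S → P.FullSubcategory := fun s => ⟨G s, ObjectProperty.le_ind _ _ (hG s)⟩
  haveI : LocallySmall.{u} (FSch.ModF 𝔛 h) := inferInstance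
  haveI : WellPowered.{u} (FSch.ModF 𝔛 h) := inferInstance
  haveI : WellPowered.{u} (FSch.ModF 𝔛 h)ᵒᵖ := inferInstance
  haveI : WellPowered.{u} P.FullSubcategoryᵒᵖ := by
    refine ⟨fun X => ?_⟩
    let f : Subobject X → Subobject (op X.unop.obj) := fun Y =>
      @Subobject.mk _ _ _ (op (Y : P.FullSubcategoryᵒᵖ).unop.obj) ((P.ι.map Y.arrow.unop).op)
        (by haveI : Epi (P.ι.map Y.arrow.unop) := P.ι.map_epi _; infer_instance)
    refine small_of_injective (f := f) fun Y₁ Y₂ he => ?_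
    refine Subobject.eq_of_comm ?_ ?_
    · let i := Subobject.isoOfMkEqMk _ _ he
      exact ((P.ι.preimageIso i.unop).op)
    · apply Quiver.Hom.unop_inj
      apply P.ι.map_injective
      rw [unop_comp, Functor.map_comp]
      simp only [Iso.op_hom, Functor.preimageIso_hom, Quiver.Hom.unop_op, Functor.map_preimage]
      exact congrArg Quiver.Hom.unop (Subobject.ofMkLEMk_comp (he.le))
  refine isLeftAdjoint_of_preservesColimits_of_isSeparating (P := ObjectProperty.ofObj G') ?_ P.ι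
  intro X Y f g hfg
  obtain ⟨J, _, _, pres, hp⟩ := X.property
  apply P.ι.map_injective
  refine pres.isColimit.hom_ext fun j => ?_
  obtain ⟨s, ⟨i⟩⟩ := hF _ (hp j)
  have := congrArg P.ι.map (hfg (G' s) (ObjectProperty.ofObj_apply G' s) (ObjectProperty.homMk (i.hom ≫ pres.ι.app j)))
  rw [Functor.map_comp, Functor.map_comp] at this
  exact (cancel_epi i.hom).1 (by simpa using this)

end GrothLib.FCat7
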