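import Groth.Agent.Lib.FCat7.QCTInd
import Groth.Agent.Lib.FCat7.Small

/-!
# Coherent modules on a noetherian formal scheme are finitely presented objects
-/

set_option autoImplicit false
set_option linter.style.haveILetI false
set_option linter.unusedSectionVars false
universe u

open CategoryTheory CategoryTheory.Limits AlgebraicGeometry TopologicalSpace Opposite

noncomputable section

namespace GrothLib.FCat7

open GrothLib.FMod7

section Space

variable {T : TopCat.{u}} {O : Sheaf (Opens.grothendieckTopology T) CommRingCat.{u}}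

/-- The free module on an open. -/
abbrev freeOp (O : Sheaf (Opens.grothendieckTopology T) CommRingCat.{u}) (U : Opens T) : ModSite.Mod O :=
  (SiteDer.freeModF (ModSite.ringSh O)).obj U

/-- The sum of free modules on opens. -/
abbrev freeSumO (O : Sheaf (Opens.grothendieckTopology T) CommRingCat.{u}) {α : Type u} (U : α → Opens T) :
    ModSite.Mod O :=
  ∐ fun a => freeOp O (U a)

variable {α : Type u} (U : α → Opens T)

/-- The tautological section. -/
def unitSect (a : α) : ModSite.sect (freeSumO O U) (U a) :=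
  SiteDer.secMod (freeSumO O U) (U a) (Sigma.ι (fun a => freeOp O (U a)) a)

theorem secMod_comp_sHom {M N : ModSite.Mod O} (V : Opens T) (φ : freeOp O V ⟶ M) (g : M ⟶ N) :
    SiteDer.secMod N V (φ ≫ g) = sHom g V (SiteDer.secMod M V φ) :=
  SiteDer.secMod_comp V φ g

/-- The map from a sum of free modules given by sections. -/
def freeDesc {M : ModSite.Mod O} (s : ∀ a, ModSite.sect M (U a)) : freeSumO O U ⟶ M :=
  Sigma.desc fun a => (SiteDer.secMod M (U a)).symm (s a)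

theorem sHom_freeDesc {M : ModSite.Mod O} (s : ∀ a, ModSite.sect M (U a)) (a : α) :
    sHom (freeDesc U s) (U a) (unitSect U a) = s a := by
  refine (secMod_comp_sHom (U a) _ (freeDesc U s)).symm.trans ?_
  rw [freeDesc, Sigma.ι_desc]
  exact (SiteDer.secMod M (U a)).apply_symm_apply _

theorem freeSum_hom_ext {M : ModSite.Mod O} {φ ψ : freeSumO O U ⟶ M}
    (H : ∀ a, sHom φ (U a) (unitSect U a) = sHom ψ (U a) (unitSect U a)) : φ = ψ := by
  refine Sigma.hom_ext _ _ fun a => (SiteDer.secMod M (U a)).injective ?_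
  exact (secMod_comp_sHom (U a) _ φ).trans ((H a).trans (secMod_comp_sHom (U a) _ ψ).symm)

theorem mem_genSet_freeSum {V : Opens T} (z : ModSite.sect (freeSumO O U) V) :
    z ∈ genSet (freeSumO O U) U (unitSect U) V := by
  let M := freeSumO O U
  choose e he using fun a => exists_genMod_sect M U (unitSect U) (mem_genSet M U (unitSect U) a)
  have h1 : freeDesc U e ≫ genIncl M U (unitSect U) = 𝟙 M := freeSum_hom_ext U fun a => by
    rw [sHom_comp, sHom_freeDesc, he]
    rfl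
  have h2 : sHom (genIncl M U (unitSect U)) V (sHom (freeDesc U e) V z) = z :=
    (sHom_comp _ _ V z).symm.trans (congrArg (fun f : M ⟶ M => (f.val.app (op V)).hom z) h1)
  exact h2 ▸ sHom_genIncl_mem M U (unitSect U) _

theorem LocIn.map {M N : ModSite.Mod O} (φ : M ⟶ N) {ι : Type u} {W : ι → Opens T} {s : ∀ i, ModSite.sect M (W i)}
    {q : T} {V : Opens T} {z : ModSite.sect M V} (hz : LocIn M W s q z) :
    LocIn N W (fun i => sHom φ (W i) (s i)) q (sHom φ V z) := by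
  obtain ⟨V', hV, hqV', hm⟩ := hz
  refine ⟨V', hV, hqV', ?_⟩
  rw [← sHom_res]
  refine Submodule.span_le.2 ?_ (Submodule.map_span (sHom φ V') _ ▸ Submodule.mem_map_of_mem (f := sHom φ V') hm)
  rintro _ ⟨_, ⟨i, rfl⟩, rfl⟩
  exact Submodule.subset_span ⟨i, (sHom_res φ i.2 (s i.1)).symm⟩

end Space

variable {𝔛 : FSch.Sys.{u}} {h : 𝔛.IsFormal} (hN : 𝔛.IsLocNoethFormal)
include hN

theorem noetherianSpace_X0 [CompactSpace (𝔛.X 0)] : NoetherianSpace (𝔛.X 0) := by
  haveI := hN.2.2 0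
  haveI : AlgebraicGeometry.IsNoetherian (𝔛.X 0) := {}
  infer_instance

set_option maxHeartbeats 2000000 in
/-- A coherent module on a noetherian formal scheme is a cokernel of finite sums of free modules on affine opens. -/
theorem exists_finPres [CompactSpace (𝔛.X 0)] (F : FSch.ModF 𝔛 h) [FSch.IsCohF 𝔛 h F] :
    ∃ (α β : Type u) (_ : Finite α) (_ : Finite β) (U : α → (𝔛.X 0).Opens) (V : β → (𝔛.X 0).Opens)
      (_ : ∀ a, IsAffineOpen (U a)) (_ : ∀ b, IsAffineOpen (V b))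
      (κ : freeSumO (𝔛.Osh h) V ⟶ freeSumO (𝔛.Osh h) U) (π : freeSumO (𝔛.Osh h) U ⟶ F) (w : κ ≫ π = 0),
      Epi π ∧ ∀ {Z : FSch.ModF 𝔛 h} (ψ : freeSumO (𝔛.Osh h) U ⟶ Z), κ ≫ ψ = 0 → ∃ χ : F ⟶ Z, π ≫ χ = ψ := by
  classical
  haveI := noetherianSpace_X0 hN
  choose W hW hpW using fun p : 𝔛.X 0 => exists_affine_nhd (𝔛 := 𝔛) p
  obtain ⟨t, ht⟩ := (CompactSpace.isCompact_univ (X := 𝔛.X 0)).elim_finite_subcover
    (fun p => (W p : Set (𝔛.X 0))) (fun p => (W p).2) fun p _ => Set.mem_iUnion.2 ⟨p, hpW p⟩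
  have hgen : ∀ i : t, ∃ (n : ℕ) (g : Fin n → ModSite.sect F (W i.1)),
      Submodule.span (Sec 𝔛 h (W i.1)) (Set.range g) = ⊤ := fun i => by
    haveI := moduleFinite_sect (F := F) hN (hW i.1)
    exact Submodule.fg_iff_exists_fin_generating_family.1 Module.Finite.fg_top
  choose n g hg using hgen
  let α := Σ i : t, ULift.{u} (Fin (n i))
  let U : α → (𝔛.X 0).Opens := fun a => W a.1.1
  let s : ∀ a : α, ModSite.sect F (U a) := fun a => g a.1 a.2.down
  let π : freeSumO (𝔛.Osh h) U ⟶ F := freeDesc U s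
  -- pieces of the overlaps
  have hpc : ∀ i j : t, ∃ P : Finset (𝔛.X 0).affineOpens, (∀ P' ∈ P, P'.1 ≤ W i.1 ⊓ W j.1) ∧
      ∀ p ∈ W i.1 ⊓ W j.1, ∃ P' ∈ P, p ∈ P'.1 := fun i j => by
    choose A hA hpA hAle using fun p : (W i.1 ⊓ W j.1 : (𝔛.X 0).Opens) =>
      exists_isAffineOpen_mem_and_subset (x := p.1) (U := W i.1 ⊓ W j.1) p.2
    obtain ⟨t', ht'⟩ := (NoetherianSpace.isCompact ((W i.1 ⊓ W j.1 : (𝔛.X 0).Opens) : Set (𝔛.X 0))).elim_finite_subcover
      (fun p => (A p : Set (𝔛.X 0))) (fun p => (A p).2) fun p hp => Set.mem_iUnion.2 ⟨⟨p, hp⟩, hpA _⟩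
    refine ⟨t'.image fun p => ⟨A p, hA p⟩, fun P' hP' => ?_, fun p hp => ?_⟩
    · obtain ⟨q, -, rfl⟩ := Finset.mem_image.1 hP'
      exact hAle q
    · obtain ⟨q, hq, hpq⟩ := Set.mem_iUnion₂.1 (ht' hp)
      exact ⟨_, Finset.mem_image_of_mem _ hq, hpq⟩
  choose P hPle hPcov using hpc
  -- coefficients on the pieces
  have hC : ∀ (i j : t) (P' : P i j) (k : Fin (n i)), ∃ C : Fin (n j) → Sec 𝔛 h P'.1.1,
      ∑ l, C l • sres F ((hPle i j _ P'.2).trans inf_le_right) (g j l) =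
        sres F ((hPle i j _ P'.2).trans inf_le_left) (g i k) := fun i j P' k =>
    (Submodule.mem_span_range_iff_exists_fun _).1
      ((span_sres_eq_top hN (hW j.1) P'.1.2 ((hPle i j _ P'.2).trans inf_le_right) (hg j)).symm ▸ Submodule.mem_top)
  choose C hC using hC
  have hRel : ∀ i : t, ∃ (m : ℕ) (R : Fin m → Fin (n i) → Sec 𝔛 h (W i.1)),
      Submodule.span (Sec 𝔛 h (W i.1)) (Set.range R) =
        LinearMap.ker (Fintype.linearCombination (Sec 𝔛 h (W i.1)) (g i)) := fun i => by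
    haveI := isNoetherianRing_Sec (h := h) hN (hW i.1)
    exact Submodule.fg_iff_exists_fin_generating_family.1 (IsNoetherian.noetherian _)
  choose m R hR using hRel
  let β := (Σ ij : t × t, (P ij.1 ij.2) × ULift.{u} (Fin (n ij.1))) ⊕ (Σ i : t, ULift.{u} (Fin (m i)))
  let V : β → (𝔛.X 0).Opens := Sum.elim (fun b => b.2.1.1.1) fun b => W b.1.1
  let e : ∀ (i : t) (k : Fin (n i)), ModSite.sect (freeSumO (𝔛.Osh h) U) (W i.1) :=
    fun i k => unitSect U (⟨i, ⟨k⟩⟩ : α)
  let r : ∀ b : β, ModSite.sect (freeSumO (𝔛.Osh h) U) (V b) := fun b => match b with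
    | Sum.inl ⟨(i, j), P', k⟩ => sres _ ((hPle i j _ P'.2).trans inf_le_left) (e i k.down) -
        ∑ l, C i j P' k.down l • sres _ ((hPle i j _ P'.2).trans inf_le_right) (e j l)
    | Sum.inr ⟨i, o⟩ => ∑ k, R i o.down k • e i k
  let κ : freeSumO (𝔛.Osh h) V ⟶ freeSumO (𝔛.Osh h) U := freeDesc V r
  have hπe : ∀ i k, sHom π (W i.1) (e i k) = g i k := fun i k => sHom_freeDesc U s (⟨i, ⟨k⟩⟩ : α)
  have hR0 : ∀ i o, ∑ k, R i o k • g i k = 0 := fun i o => by
    have hk : R i o ∈ LinearMap.ker (Fintype.linearCombination (Sec 𝔛 h (W i.1)) (g i)) :=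
      hR i ▸ Submodule.subset_span ⟨o, rfl⟩
    rwa [LinearMap.mem_ker, Fintype.linearCombination_apply] at hk
  have w : κ ≫ π = 0 := freeSum_hom_ext V fun b => by
    rw [sHom_comp]
    show sHom π (V b) (sHom (freeDesc V r) (V b) (unitSect V b)) = _
    rw [sHom_freeDesc]
    refine Eq.trans ?_ (show (0 : ModSite.sect F (V b)) = sHom (0 : freeSumO (𝔛.Osh h) V ⟶ F) (V b) _ from rfl)
    rcases b with ⟨⟨i, j⟩, P', k⟩ | ⟨i, o⟩
    · show sHom π P'.1.1 (sres _ ((hPle i j _ P'.2).trans inf_le_left) (e i k.down) -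
          ∑ l, C i j P' k.down l • sres _ ((hPle i j _ P'.2).trans inf_le_right) (e j l)) = 0
      refine (map_sub (sHom π P'.1.1) _ _).trans (sub_eq_zero.2 ?_)
      rw [map_sum, sHom_res, hπe]
      refine (hC i j P' k.down).symm.trans (Finset.sum_congr rfl fun l _ => ?_)
      exact (congrArg (C i j P' k.down l • ·) ((congrArg _ (hπe j l).symm).trans (sHom_res π _ _).symm)).trans
        ((sHom π _).map_smul _ _).symm
    · refine (map_sum (sHom π _) _ _).trans (Eq.trans ?_ (hR0 i o.down))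
      exact Finset.sum_congr rfl fun k _ => ((sHom π _).map_smul _ _).trans (congrArg _ (hπe i k))
  haveI hepi : Epi π := Preadditive.epi_of_cancel_zero _ fun {Z} φ hφ => hom_ext_basis fun A hA z =>
    sect_ext Z _ _ fun p hp => by
      obtain ⟨p', hp', hpp'⟩ := Set.mem_iUnion₂.1 (ht (Set.mem_univ p))
      obtain ⟨A', hA', hpA', hA'le⟩ := exists_isAffineOpen_mem_and_subset (x := p) (U := A ⊓ W p') ⟨hp, hpp'⟩
      have hle : A' ≤ A ⊓ W p' := hA'le
      refine ⟨A', hle.trans inf_le_left, hpA', ?_⟩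
      show sres Z _ (sHom φ A z) = sres Z _ 0
      rw [← sHom_res, sresZero, ← LinearMap.mem_ker]
      refine Submodule.span_le.2 ?_ ((span_sres_eq_top hN (hW p') hA' (hle.trans inf_le_right) (hg ⟨p', hp'⟩)).symm ▸
        Submodule.mem_top : sres F (hle.trans inf_le_left) z ∈ _)
      rintro _ ⟨k, rfl⟩
      rw [SetLike.mem_coe, LinearMap.mem_ker]
      show sHom φ A' (sres F _ (g ⟨p', hp'⟩ k)) = 0
      rw [← hπe ⟨p', hp'⟩ k, ← sHom_res]
      exact sHom_eq_zero hφ _ _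
  refine ⟨α, β, inferInstance, inferInstance, U, V, fun a => hW _, ?_, κ, π, w, hepi, fun {Z} ψ hψ => ?_⟩
  · rintro (⟨ij, P', k⟩ | ⟨i, o⟩)
    · exact P'.1.2
    · exact hW _
  -- the descent
  let q : cokernel κ ⟶ F := cokernel.desc κ π w
  haveI : Epi q := epi_of_epi_fac (cokernel.π_desc κ π w)
  haveI : Mono q := Preadditive.mono_of_cancel_zero _ fun {Y} y hy => hom_ext_basis fun A hA z₀ => by
    let z := sHom y A z₀
    have hz0 : sHom q A z = 0 := sHom_eq_zero hy A z₀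
    refine sect_ext (cokernel κ) _ _ fun p hp => ?_
    obtain ⟨A₁, hA₁, hpA₁, x, hx⟩ := exists_local_preimage (cokernel.π κ) z hp
    obtain ⟨p', hp', hpp'⟩ := Set.mem_iUnion₂.1 (ht (Set.mem_univ p))
    let j : t := ⟨p', hp'⟩
    let ej : ULift.{u} (Fin (n j)) → ModSite.sect (cokernel κ) (W j.1) := fun l => sHom (cokernel.π κ) _ (e j l.down)
    have hkill : ∀ b, sHom (cokernel.π κ) (V b) (r b) = 0 := fun b => by
      rw [← sHom_freeDesc V r b]
      exact sHom_eq_zero (cokernel.condition κ) _ _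
    have h1 : LocIn (cokernel κ) U (fun a => sHom (cokernel.π κ) (U a) (unitSect U a)) p
        (sHom (cokernel.π κ) A₁ x) := by
      obtain ⟨A₂, hA₂, hpA₂, hm⟩ := mem_genSet_freeSum U x p hpA₁
      exact LocIn.map (cokernel.π κ) ⟨A₂, hA₂, hpA₂, hm⟩
    have h2 : LocIn (cokernel κ) (fun _ : ULift.{u} (Fin (n j)) => W j.1) ej p (sres (cokernel κ) hA₁ z) := by
      rw [← hx]
      refine h1.trans _ _ _ _ _ fun a ha => ?_
      obtain ⟨i, ⟨k⟩⟩ := a
      obtain ⟨P', hP', hpP'⟩ := hPcov i j p ⟨ha, hpp'⟩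
      have e0 := hkill (Sum.inl ⟨(i, j), ⟨P', hP'⟩, ⟨k⟩⟩)
      refine LocIn.of_span (cokernel κ) ej ((hPle i j _ hP').trans inf_le_left) ((hPle i j _ hP').trans inf_le_right)
        hpP' ?_
      refine (Submodule.mem_span_range_iff_exists_fun _).2 ⟨fun l => C i j ⟨P', hP'⟩ k l.down, ?_⟩
      rw [← sHom_res]
      refine (Equiv.ulift.sum_comp fun l => C i j ⟨P', hP'⟩ k l •
        sres (cokernel κ) ((hPle i j _ hP').trans inf_le_right) (sHom (cokernel.π κ) _ (e j l))).trans ?_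
      refine Eq.trans ?_ (sub_eq_zero.1 ((map_sub (sHom (cokernel.π κ) P'.1) _ _).symm.trans e0)).symm
      refine Eq.trans (Finset.sum_congr rfl fun l _ => ?_) (map_sum (sHom (cokernel.π κ) P'.1) _ _).symm
      exact (congrArg (C i j ⟨P', hP'⟩ k l • ·) (sHom_res _ _ _).symm).trans ((sHom (cokernel.π κ) P'.1).map_smul _ _).symm
    obtain ⟨A₂, hA₂, hA₂j, hpA₂, hm⟩ := h2.exists_span _ _ hpp'
    obtain ⟨A₃, hA₃, hpA₃, hA₃le⟩ := exists_isAffineOpen_mem_and_subset (x := p) (U := A₂) hpA₂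
    have h32 : A₃ ≤ A₂ := hA₃le
    obtain ⟨d', hd'⟩ := (Submodule.mem_span_range_iff_exists_fun _).1 hm
    rw [sres_sres] at hd'
    let d : Fin (n j) → Sec 𝔛 h A₂ := fun l => d' ⟨l⟩
    have hd : ∑ l, d l • sres (cokernel κ) hA₂j (ej ⟨l⟩) = sres (cokernel κ) (hA₂.trans hA₁) z :=
      (Equiv.ulift.symm.sum_comp fun l => d' l • sres (cokernel κ) hA₂j (ej l)).trans hd'
    refine ⟨A₃, h32.trans (hA₂.trans hA₁), hpA₃, ?_⟩
    refine Eq.trans ?_ (sresZero (cokernel κ) _).symm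
    show sres (cokernel κ) _ z = 0
    rw [← sres_sres (hA₂.trans hA₁) h32, ← hd, sres_comb]
    simp only [sres_sres]
    have hrel : ∑ l, rRes h32 (d l) • sres F (h32.trans hA₂j) (g j l) = 0 := by
      refine Eq.trans ?_ ((congrArg (sres F (h32.trans (hA₂.trans hA₁))) hz0).trans (sresZero F _))
      rw [← sHom_res, ← sres_sres (hA₂.trans hA₁) h32, ← hd, sres_comb, map_sum]
      refine Finset.sum_congr rfl fun l _ => ?_
      refine Eq.trans ?_ ((sHom q A₃).map_smul _ _).symm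
      refine congrArg (rRes h32 (d l) • ·) ?_
      rw [sres_sres, sHom_res]
      refine congrArg _ ((hπe j l).symm.trans ?_)
      exact (congrArg (fun f : freeSumO (𝔛.Osh h) U ⟶ F => sHom f (W j.1) (e j l)) (cokernel.π_desc κ π w).symm).trans
        (sHom_comp _ _ _ _)
    have key := relations_sres' hN (hW j.1) hA₃ (h32.trans hA₂j) (g j) _ hrel
    suffices hk : (fun l => rRes h32 (d l)) ∈ LinearMap.ker
        (Fintype.linearCombination (Sec 𝔛 h A₃) fun l => sres (cokernel κ) (h32.trans hA₂j) (ej ⟨l⟩)) by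
      rwa [LinearMap.mem_ker, Fintype.linearCombination_apply] at hk
    refine Submodule.span_le.2 ?_ key
    rintro _ ⟨b, hb, rfl⟩
    rw [SetLike.mem_coe, LinearMap.mem_ker, Fintype.linearCombination_apply]
    refine (sres_comb (h32.trans hA₂j) b fun l => ej ⟨l⟩).symm.trans ((congrArg _ ?_).trans (sresZero _ _))
    have hb' : b ∈ Submodule.span (Sec 𝔛 h (W j.1)) (Set.range (R j)) := by
      rw [hR j, LinearMap.mem_ker, Fintype.linearCombination_apply]
      exact hb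
    have hle : Submodule.span (Sec 𝔛 h (W j.1)) (Set.range (R j)) ≤
        LinearMap.ker (Fintype.linearCombination (Sec 𝔛 h (W j.1)) fun l => ej ⟨l⟩) := Submodule.span_le.2 (by
      rintro _ ⟨o, rfl⟩
      rw [SetLike.mem_coe, LinearMap.mem_ker, Fintype.linearCombination_apply]
      refine Eq.trans ?_ (hkill (Sum.inr ⟨j, ⟨o⟩⟩))
      refine Eq.trans (Finset.sum_congr rfl fun l _ => ?_) (map_sum (sHom (cokernel.π κ) (W j.1)) _ _).symm
      exact ((sHom (cokernel.π κ) (W j.1)).map_smul _ _).symm)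
    have := hle hb'
    rwa [LinearMap.mem_ker, Fintype.linearCombination_apply] at this
  haveI : IsIso q := isIso_of_mono_of_epi q
  refine ⟨inv q ≫ cokernel.desc κ ψ hψ, ?_⟩
  have e : π ≫ inv q = cokernel.π κ := (IsIso.comp_inv_eq q).2 (cokernel.π_desc κ π w).symm
  rw [← Category.assoc, e, cokernel.π_desc]

/-- Morphisms from a finite sum of free modules into a filtered colimit come from a stage. -/
theorem freeSum_hom_stage {J : Type u} [SmallCategory J] [IsFiltered J] {D : J ⥤ FSch.ModF 𝔛 h} {c : Cocone D}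
    (hc : IsColimit c) {α : Type u} [Finite α] {U : α → (𝔛.X 0).Opens} (hU : ∀ a, IsAffineOpen (U a))
    (φ : freeSumO (𝔛.Osh h) U ⟶ c.pt) : ∃ (j : J) (ψ : freeSumO (𝔛.Osh h) U ⟶ D.obj j), ψ ≫ c.ι.app j = φ := by
  classical
  haveI := Fintype.ofFinite α
  choose ja xa hxa using fun a => colim_gen hN hc (hU a).isCompact (sHom φ (U a) (unitSect U a))
  obtain ⟨j, hj⟩ := IsFiltered.sup_objs_exists (Finset.univ.image ja)
  let f : ∀ a, ja a ⟶ j := fun a => (hj (Finset.mem_image_of_mem ja (Finset.mem_univ a))).some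
  refine ⟨j, freeDesc U fun a => sHom (D.map (f a)) (U a) (xa a), freeSum_hom_ext U fun a => ?_⟩
  rw [sHom_comp, sHom_freeDesc, ← sHom_comp, c.w (f a), hxa]

/-- Morphisms from a finite sum of free modules vanishing in a filtered colimit vanish at a stage. -/
theorem freeSum_hom_kill {J : Type u} [SmallCategory J] [IsFiltered J] {D : J ⥤ FSch.ModF 𝔛 h} {c : Cocone D}
    (hc : IsColimit c) {α : Type u} [Finite α] {U : α → (𝔛.X 0).Opens} (hU : ∀ a, IsAffineOpen (U a)) {j : J}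
    (ψ : freeSumO (𝔛.Osh h) U ⟶ D.obj j) (hψ : ψ ≫ c.ι.app j = 0) :
    ∃ (k : J) (f : j ⟶ k), ψ ≫ D.map f = 0 := by
  classical
  haveI := Fintype.ofFinite α
  choose ka fa hfa using fun a => colim_kill hN hc (hU a).isCompact (sHom ψ (U a) (unitSect U a))
    (sHom_eq_zero hψ (U a) _)
  obtain ⟨k, hk, hkf⟩ := IsFiltered.sup_exists ({j} ∪ Finset.univ.image ka)
    (Finset.univ.image fun a => (⟨j, ka a, Finset.mem_union_left _ (Finset.mem_singleton_self j),
      Finset.mem_union_right _ (Finset.mem_image_of_mem ka (Finset.mem_univ a)), fa a⟩ :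
      Σ' (X Y : J) (_ : X ∈ ({j} ∪ Finset.univ.image ka : Finset J)) (_ : Y ∈ ({j} ∪ Finset.univ.image ka : Finset J)),
        X ⟶ Y))
  refine ⟨k, hk (Finset.mem_union_left _ (Finset.mem_singleton_self j)), freeSum_hom_ext U fun a => ?_⟩
  have ee := hkf (Finset.mem_union_left _ (Finset.mem_singleton_self j))
    (Finset.mem_union_right _ (Finset.mem_image_of_mem ka (Finset.mem_univ a)))
    (Finset.mem_image.2 ⟨a, Finset.mem_univ a, rfl⟩)
  rw [sHom_comp, ← ee, D.map_comp, sHom_comp, hfa, map_zero]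
  rfl

variable [CompactSpace (𝔛.X 0)]

/-- Morphisms from a coherent module into a filtered colimit come from a stage. -/
theorem coh_hom_stage {J : Type u} [SmallCategory J] [IsFiltered J] {D : J ⥤ FSch.ModF 𝔛 h} {c : Cocone D}
    (hc : IsColimit c) {F : FSch.ModF 𝔛 h} [FSch.IsCohF 𝔛 h F] (φ : F ⟶ c.pt) :
    ∃ (j : J) (ψ : F ⟶ D.obj j), ψ ≫ c.ι.app j = φ := by
  obtain ⟨α, β, _, _, U, V, hU, hV, κ, π, w, hπ, hd⟩ := exists_finPres hN F
  obtain ⟨j, ψ₀, hψ₀⟩ := freeSum_hom_stage hN hc hU (π ≫ φ)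
  obtain ⟨k, f, hf⟩ := freeSum_hom_kill hN hc hV (κ ≫ ψ₀)
    (by rw [Category.assoc, hψ₀, reassoc_of% w, zero_comp])
  obtain ⟨χ, hχ⟩ := hd (ψ₀ ≫ D.map f) (by rw [← Category.assoc]; exact hf)
  refine ⟨k, χ, ?_⟩
  rw [← cancel_epi π, reassoc_of% hχ, c.w, hψ₀]

/-- A morphism from a coherent module vanishing in a filtered colimit vanishes at a stage. -/
theorem coh_hom_kill {J : Type u} [SmallCategory J] [IsFiltered J] {D : J ⥤ FSch.ModF 𝔛 h} {c : Cocone D}
    (hc : IsColimit c) {F : FSch.ModF 𝔛 h} [FSch.IsCohF 𝔛 h F] {j : J} (ψ : F ⟶ D.obj j) (hψ : ψ ≫ c.ι.app j = 0) :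
    ∃ (k : J) (f : j ⟶ k), ψ ≫ D.map f = 0 := by
  obtain ⟨α, β, _, _, U, V, hU, hV, κ, π, w, hπ, hd⟩ := exists_finPres hN F
  obtain ⟨k, f, hf⟩ := freeSum_hom_kill hN hc hU (π ≫ ψ) (by rw [Category.assoc, hψ, comp_zero])
  exact ⟨k, f, (cancel_epi π).1 (by rw [← Category.assoc, hf, comp_zero])⟩

end GrothLib.FCat7
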