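import Groth.Agent.Lib.FCat7.Rel
import Groth.Agent.Lib.FCat7.Crit
import Groth.Agent.Lib.FMod7.Ideals

/-!
# Systems of linear relations over a smaller affine open
-/

set_option autoImplicit false
set_option linter.style.haveILetI false
set_option linter.unusedSectionVars false
universe u

open CategoryTheory CategoryTheory.Limits AlgebraicGeometry TopologicalSpace Opposite

noncomputable section

namespace GrothLib.FCat7

open GrothLib.FMod7

variable {𝔛 : FSch.Sys.{u}} {h : 𝔛.IsFormal}

theorem isCohF_unit : FSch.IsCohF 𝔛 h (FSch.unitF 𝔛 h) :=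
  isCohF_of_presentations fun p => by
    obtain ⟨U, hU, hp, -⟩ := exists_isAffineOpen_mem_and_subset (x := p) (U := (⊤ : (𝔛.X 0).Opens)) trivial
    exact ⟨U, hp, (fun H => exists_presentation (FSch.unitF 𝔛 h) _ _ H.rel H.gen H.relGen) (isPres_unit (h := h) U)⟩

variable (hN : 𝔛.IsLocNoethFormal) {U V : (𝔛.X 0).Opens} (hU : IsAffineOpen U) (hV : IsAffineOpen V) (hVU : V ≤ U)
include hN hU hV

theorem relations_scalar {m : ℕ} (r : Fin m → Sec 𝔛 h U) (d : Fin m → Sec 𝔛 h V)
    (hd : ∑ i, d i * rRes hVU (r i) = 0) :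
    d ∈ Submodule.span (Sec 𝔛 h V) ((fun a : Fin m → Sec 𝔛 h U => fun i => rRes hVU (a i)) ''
      {a | ∑ i, a i * r i = 0}) :=
  haveI := isCohF_unit (𝔛 := 𝔛) (h := h)
  relations_sres' (F := FSch.unitF 𝔛 h) hN hU hV hVU r d hd

/-- Solutions of a linear system over a smaller affine open are spanned by those over the larger one. -/
theorem relations_vec_fin : ∀ (n m : ℕ) (r : Fin n → Fin m → Sec 𝔛 h U) (d : Fin m → Sec 𝔛 h V),
    (∀ b, ∑ i, d i * rRes hVU (r b i) = 0) →
    d ∈ Submodule.span (Sec 𝔛 h V) ((fun a : Fin m → Sec 𝔛 h U => fun i => rRes hVU (a i)) ''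
      {a | ∀ b, ∑ i, a i * r b i = 0}) := by
  intro n
  induction n with
  | zero =>
    intro m r d _
    rw [pi_eq_sum_univ' d]
    refine Submodule.sum_mem _ fun i _ => Submodule.smul_mem _ _ (Submodule.subset_span
      ⟨Pi.single i 1, fun b => b.elim0, funext fun j => ?_⟩)
    simp only [Pi.single_apply]
    split <;> simp
  | succ n ih =>
    intro m r d hd
    haveI := isNoetherianRing_Sec (h := h) hN hU
    obtain ⟨l, a, ha⟩ := Submodule.fg_iff_exists_fin_generating_family.1
      (IsNoetherian.noetherian (LinearMap.ker (Fintype.linearCombination (Sec 𝔛 h U) (r 0))))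
    have ha0 : ∀ k, ∑ i, a k i * r 0 i = 0 := fun k => by
      have hk : a k ∈ LinearMap.ker (Fintype.linearCombination (Sec 𝔛 h U) (r 0)) :=
        ha ▸ Submodule.subset_span ⟨k, rfl⟩
      rwa [LinearMap.mem_ker, Fintype.linearCombination_apply] at hk
    have hd1 : d ∈ Submodule.span (Sec 𝔛 h V) (Set.range fun k i => rRes hVU (a k i)) := by
      refine Submodule.span_le.2 ?_ (relations_scalar hN hU hV hVU (r 0) d (hd 0))
      rintro _ ⟨x, hx, rfl⟩
      have hx' : x ∈ Submodule.span (Sec 𝔛 h U) (Set.range a) := by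
        rw [ha, LinearMap.mem_ker, Fintype.linearCombination_apply]
        exact hx
      obtain ⟨e, rfl⟩ := (Submodule.mem_span_range_iff_exists_fun _).1 hx'
      refine (Submodule.mem_span_range_iff_exists_fun _).2 ⟨fun k => rRes hVU (e k), funext fun i => ?_⟩
      simp [Finset.sum_apply, map_sum]
    obtain ⟨u, hu⟩ := (Submodule.mem_span_range_iff_exists_fun _).1 hd1
    have key := ih l (fun b k => ∑ i, a k i * r b.succ i) u fun b => by
      refine Eq.trans ?_ (hd b.succ)
      rw [← hu]
      simp only [map_sum, map_mul, Finset.mul_sum, Finset.sum_apply, Pi.smul_apply, smul_eq_mul, Finset.sum_mul]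
      rw [Finset.sum_comm]
      simp only [mul_assoc]
    rw [← hu]
    let L : (Fin l → Sec 𝔛 h V) →ₗ[Sec 𝔛 h V] Fin m → Sec 𝔛 h V :=
      Fintype.linearCombination (Sec 𝔛 h V) fun k i => rRes hVU (a k i)
    show L u ∈ _
    refine Submodule.span_le.2 ?_ (Submodule.map_span L _ ▸ Submodule.mem_map_of_mem (f := L) key)
    rintro _ ⟨_, ⟨c, hc, rfl⟩, rfl⟩
    refine Submodule.subset_span ⟨fun i => ∑ k, c k * a k i, fun b => ?_, ?_⟩
    · refine Fin.cases ?_ (fun b' => ?_) b
      · simp only [Finset.sum_mul, mul_assoc]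
        rw [Finset.sum_comm]
        exact Finset.sum_eq_zero fun k _ => by rw [← Finset.mul_sum, ha0, mul_zero]
      · refine Eq.trans ?_ (hc b')
        simp only [Finset.sum_mul, Finset.mul_sum, mul_assoc]
        rw [Finset.sum_comm]
    · funext i
      simp [L, Fintype.linearCombination_apply, Finset.sum_apply, map_sum]

/-- Solutions of a linear system over a smaller affine open are spanned by those over the larger one. -/
theorem relations_vec {α β : Type u} [Fintype α] [Fintype β] (r : β → α → Sec 𝔛 h U) (d : α → Sec 𝔛 h V)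
    (hd : ∀ b, ∑ i, d i * rRes hVU (r b i) = 0) :
    d ∈ Submodule.span (Sec 𝔛 h V) ((fun a : α → Sec 𝔛 h U => fun i => rRes hVU (a i)) ''
      {a | ∀ b, ∑ i, a i * r b i = 0}) := by
  classical
  let eα := Fintype.equivFin α
  let eβ := Fintype.equivFin β
  have key := relations_vec_fin hN hU hV hVU _ _ (fun b i => r (eβ.symm b) (eα.symm i)) (fun i => d (eα.symm i))
    fun b => (eα.symm.sum_comp fun i => d i * rRes hVU (r (eβ.symm b) i)).trans (hd _)
  let L : (Fin (Fintype.card α) → Sec 𝔛 h V) →ₗ[Sec 𝔛 h V] α → Sec 𝔛 h V := LinearMap.funLeft _ _ eα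
  have e : d = L fun i => d (eα.symm i) := funext fun i => (congrArg d (eα.symm_apply_apply i)).symm
  rw [e]
  refine Submodule.span_le.2 ?_ (Submodule.map_span L _ ▸ Submodule.mem_map_of_mem (f := L) key)
  rintro _ ⟨_, ⟨c, hc, rfl⟩, rfl⟩
  refine Submodule.subset_span ⟨fun i => c (eα i), fun b => ?_, rfl⟩
  refine Eq.trans ?_ (hc (eβ b))
  refine Eq.trans ?_ (eα.sum_comp fun i => c i * r (eβ.symm (eβ b)) (eα.symm i))
  refine Finset.sum_congr rfl fun i _ => ?_
  rw [Equiv.symm_apply_apply, Equiv.symm_apply_apply]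

end GrothLib.FCat7
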