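import Groth.Agent.Lib.FCat7.EpiFree
import Groth.Agent.Lib.FMod7.Push

/-!
# Sections of free modules and presentations with arbitrary index sets
-/

set_option autoImplicit false
set_option linter.style.haveILetI false
set_option linter.unusedSectionVars false
universe u

open CategoryTheory CategoryTheory.Limits Opposite TopologicalSpace

noncomputable section

namespace GrothLib.FCat7

open GrothLib.FMod7 GrothLib.LocFac25

variable {T : TopCat.{u}} {O : Sheaf (Opens.grothendieckTopology T) CommRingCat.{u}} {U : Opens T} {ι : Type u}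

/-- Restriction of functions to a smaller arrow into `U`. -/
def oresF (W : Over U) {V : Opens T} (k : V ≤ W.left) :
    O.obj.obj (op W.left) →+* O.obj.obj (op (overLE W k).left) :=
  (O.obj.map (homOfLE k).op).hom

theorem oRes_smul {M : ModSite.Mod (O.over U)} (W : Over U) {V : Opens T} (k : V ≤ W.left)
    (a : O.obj.obj (op W.left)) (m : osect M W) : oRes M W k (a • m) = oresF W k a • oRes M W k m :=
  PresheafOfModules.map_smul M.val _ a m

theorem oRes_add {M : ModSite.Mod (O.over U)} (W : Over U) {V : Opens T} (k : V ≤ W.left)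
    (m n : osect M W) : oRes M W k (m + n) = oRes M W k m + oRes M W k n :=
  map_add (M.val.map (Over.homMk (homOfLE k) : overLE W k ⟶ W).op).hom m n

theorem oRes_valAt {M : ModSite.Mod (O.over U)} (α : SheafOfModules.unit _ ⟶ M) (W : Over U) {V : Opens T}
    (k : V ≤ W.left) : oRes M W k (valAt α W) = valAt α (overLE W k) :=
  map_evAt α _

/-- A morphism on sections over an arrow into `U`, linearly. -/
abbrev oHom {M N : ModSite.Mod (O.over U)} (φ : M ⟶ N) (W : Over U) :
    osect M W →ₗ[O.obj.obj (op W.left)] osect N W where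
  toFun := (φ.val.app (op W)).hom
  map_add' := map_add _
  map_smul' := (φ.val.app (op W)).hom.map_smul

theorem oHom_res {M N : ModSite.Mod (O.over U)} (φ : M ⟶ N) (W : Over U) {V : Opens T} (k : V ≤ W.left)
    (m : osect M W) : oHom φ (overLE W k) (oRes M W k m) = oRes N W k (oHom φ W m) :=
  PresheafOfModules.naturality_apply φ.val _ m

theorem oHom_valAt {M N : ModSite.Mod (O.over U)} (α : SheafOfModules.unit _ ⟶ M) (φ : M ⟶ N) (W : Over U) :
    oHom φ W (valAt α W) = valAt (α ≫ φ) W := rfl

theorem valAt_one (W : Over U) :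
    (show O.obj.obj (op W.left) from valAt (𝟙 (SheafOfModules.unit (ModSite.ringSh (O.over U)))) W) = 1 := by
  have h := app_one (N := SheafOfModules.unit (ModSite.ringSh (O.over U))) W (𝟙 _)
    (1 : (ModSite.ringSh (O.over U)).obj.obj (op W))
  exact ((one_smul _ _).symm.trans h.symm).trans rfl

theorem osect_ext {M : ModSite.Mod O} (W : Over U) (a b : osect ((ModSite.restr O U).obj M) W)
    (h : ∀ p ∈ W.left, ∃ (V : Opens T) (k : V ≤ W.left), p ∈ V ∧ oRes _ W k a = oRes _ W k b) : a = b :=
  sect_ext M a b h

theorem osect_ext' (M : ModSite.Mod (O.over U)) (W : Over U) (a b : osect M W)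
    (h : ∀ p ∈ W.left, ∃ (V : Opens T) (k : V ≤ W.left), p ∈ V ∧ oRes M W k a = oRes M W k b) : a = b := by
  have hsh := (Presheaf.isSheaf_iff_isSheaf_forget _ _ (forget AddCommGrpCat.{u})).1
    ((SheafOfModules.toSheaf (ModSite.ringSh (O.over U))).obj M).property
  rw [isSheaf_iff_isSheaf_of_type] at hsh
  choose V k hpV hab using fun p : W.left => h p.1 p.2
  let S : Sieve W :=
    { arrows := fun W' f => ∃ p : W.left, W'.left ≤ V p
      downward_closed := fun {Y Z f} ⟨p, hp⟩ g => ⟨p, g.left.le.trans hp⟩ }
  refine (hsh S (mem_over_of_pointwise S fun p hp => ⟨V ⟨p, hp⟩, k _, hpV _, ⟨p, hp⟩, le_rfl⟩)).isSeparatedFor.ext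
    fun W' f ⟨p, hp⟩ => ?_
  have e : f = (Over.homMk (homOfLE hp) (Subsingleton.elim _ _) : W' ⟶ overLE W (k p)) ≫
      (Over.homMk (homOfLE (k p)) : overLE W (k p) ⟶ W) := Over.OverMorphism.ext (Subsingleton.elim _ _)
  show M.val.map f.op a = M.val.map f.op b
  rw [e, op_comp, PresheafOfModules.map_comp_apply, PresheafOfModules.map_comp_apply]
  exact congrArg (fun z => M.val.map (Over.homMk (homOfLE hp) (Subsingleton.elim _ _) : W' ⟶ overLE W (k p)).op z)
    (hab p)

/-- The free module. -/
abbrev freeO (O : Sheaf (Opens.grothendieckTopology T) CommRingCat.{u}) (U : Opens T) (ι : Type u) :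
    ModSite.Mod (O.over U) :=
  SheafOfModules.free (R := ModSite.ringSh (O.over U)) ι

variable (ι) in
/-- A finitely supported family as a section of the free module. -/
def comb (W : Over U) : (ι →₀ O.obj.obj (op W.left)) →ₗ[O.obj.obj (op W.left)] osect (freeO O U ι) W :=
  Finsupp.linearCombination _ fun i : ι => valAt (M := freeO O U ι) (SheafOfModules.ιFree i) W

open Classical in
/-- The projection of the free module to a coordinate. -/
def coordPr (i : ι) : freeO O U ι ⟶ SheafOfModules.unit _ :=
  fdesc fun j : ι => if j = i then 𝟙 _ else 0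

/-- The coordinates of a section of the free module. -/
def coord (W : Over U) (i : ι) (z : osect (freeO O U ι) W) : O.obj.obj (op W.left) :=
  oHom (coordPr i) W z

theorem coord_comb (W : Over U) (x : ι →₀ O.obj.obj (op W.left)) (i : ι) : coord W i (comb ι W x) = x i := by
  classical
  induction x using Finsupp.induction_linear with
  | zero => exact (congrArg (coord W i) (map_zero _)).trans (map_zero (oHom (coordPr i) W))
  | add x y hx hy =>
    refine ((congrArg (coord W i) (map_add _ x y)).trans (map_add (oHom (coordPr i) W) _ _)).trans ?_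
    exact (congr_arg₂ (· + ·) hx hy).trans (Finsupp.add_apply x y i).symm
  | single j a =>
    refine (congrArg (coord W i) (Finsupp.linearCombination_single _ _ _)).trans ?_
    refine ((oHom (coordPr i) W).map_smul a _).trans ?_
    rw [oHom_valAt, coordPr, ιFree_fdesc, Finsupp.single_apply]
    split
    · exact (congrArg (a * ·) (valAt_one W)).trans (mul_one a)
    · refine Eq.trans ?_ (smul_zero (A := osect (SheafOfModules.unit (ModSite.ringSh (O.over U))) W) a)
      exact congrArg (a • ·) ((evAt_sum (W := W) (∅ : Finset ι) fun _ => (0 : SheafOfModules.unit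
        (ModSite.ringSh (O.over U)) ⟶ SheafOfModules.unit _)).trans rfl)

theorem coord_res (W : Over U) {V : Opens T} (k : V ≤ W.left) (i : ι) (z : osect (freeO O U ι) W) :
    coord (overLE W k) i (oRes _ W k z) = oresF W k (coord W i z) :=
  oHom_res (coordPr i) W k z

theorem comb_res (W : Over U) {V : Opens T} (k : V ≤ W.left) (x : ι →₀ O.obj.obj (op W.left)) :
    oRes _ W k (comb ι W x) = comb ι (overLE W k) (Finsupp.mapRange (oresF W k) (map_zero _) x) := by
  induction x using Finsupp.induction_linear with
  | zero =>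
    rw [map_zero, Finsupp.mapRange_zero, map_zero]
    exact map_zero ((freeO O U ι).val.map (Over.homMk (homOfLE k) : overLE W k ⟶ W).op).hom
  | add x y hx hy => rw [map_add, oRes_add, hx, hy, Finsupp.mapRange_add (map_add _), map_add]
  | single j a =>
    rw [Finsupp.mapRange_single]
    refine (congrArg (oRes _ W k) (Finsupp.linearCombination_single _ _ _)).trans ?_
    refine Eq.trans ?_ (Finsupp.linearCombination_single _ _ _).symm
    rw [oRes_smul, oRes_valAt]

/-- A section of the free module is locally finitely supported. -/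
theorem exists_local_comb (W : Over U) (z : osect (freeO O U ι) W) {p : T} (hp : p ∈ W.left) :
    ∃ (V : Opens T) (k : V ≤ W.left), p ∈ V ∧ ∃ x, oRes _ W k z = comb ι (overLE W k) x := by
  obtain ⟨V, k, hpV, hm⟩ := exists_local_span_of_epi (𝟙 (freeO O U ι)) W z hp
  obtain ⟨x, hx⟩ := (Finsupp.mem_span_range_iff_exists_finsupp).1 hm
  refine ⟨V, k, hpV, x, hx.symm.trans ?_⟩
  rw [comb, Finsupp.linearCombination_apply]
  simp only [Category.comp_id]

theorem free_sect_ext (W : Over U) (z z' : osect (freeO O U ι) W) (h : ∀ i, coord W i z = coord W i z') :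
    z = z' := by
  refine osect_ext' _ W z z' fun p hp => ?_
  obtain ⟨V, k, hpV, x, hx⟩ := exists_local_comb W z hp
  obtain ⟨V', k', hpV', x', hx'⟩ := exists_local_comb (overLE W k) (oRes _ W k z') hpV
  refine ⟨V', k'.trans k, hpV', ?_⟩
  have e : ∀ w : osect (freeO O U ι) W, oRes _ W (k'.trans k) w = oRes _ (overLE W k) k' (oRes _ W k w) :=
    fun w => by
      refine Eq.trans ?_ ((freeO O U ι).val.map_comp_apply _ _ w)
      exact congrArg (fun f : overLE W (k'.trans k) ⟶ W => (freeO O U ι).val.map f.op w)
        (Over.OverMorphism.ext (Subsingleton.elim _ _))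
  rw [e, e, hx, hx', comb_res]
  refine congrArg _ (Finsupp.ext fun i => ?_)
  have h1 := congrArg (coord (overLE W k) i) hx
  have h2 := congrArg (coord (overLE (overLE W k) k') i) hx'
  rw [coord_comb, coord_res] at h1
  rw [coord_comb, coord_res, coord_res, ← h i, h1] at h2
  exact (Finsupp.mapRange_apply (hf := map_zero _)).trans h2

/-- A section of the free module over a compact open is finitely supported. -/
theorem exists_comb (W : Over U) (hW : IsCompact (W.left : Set T)) (z : osect (freeO O U ι) W) :
    ∃ x, comb ι W x = z := by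
  classical
  choose V k hpV x hx using fun p : W.left => exists_local_comb W z p.2
  obtain ⟨s, hs⟩ := hW.elim_finite_subcover (fun p : W.left => (V p : Set T)) (fun p => (V p).2)
    fun p hp => Set.mem_iUnion.2 ⟨⟨p, hp⟩, hpV _⟩
  let S : Finset ι := s.biUnion fun p => (x p).support
  refine ⟨∑ i ∈ S, Finsupp.single i (coord W i z), free_sect_ext W _ z fun i => ?_⟩
  rw [coord_comb, Finsupp.finsetSum_apply]
  by_cases hi : i ∈ S
  · rw [Finset.sum_eq_single i (fun j _ hj => Finsupp.single_eq_of_ne (Ne.symm hj)) (fun h => absurd hi h),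
      Finsupp.single_eq_same]
  · rw [Finset.sum_eq_zero fun j hj => Finsupp.single_eq_of_ne (by rintro rfl; exact hi hj)]
    refine TopCat.Sheaf.eq_of_locally_eq' (show TopCat.Sheaf CommRingCat.{u} T from O) (fun p : s => V p.1) W.left
      (fun p => homOfLE (k p.1)) (fun y hy => ?_) 0 _ fun p => ?_
    · obtain ⟨p, hp, hy⟩ := Set.mem_iUnion₂.1 (hs hy)
      exact Opens.mem_iSup.2 ⟨⟨p, hp⟩, hy⟩
    · show oresF W (k p.1) 0 = oresF W (k p.1) (coord W i z)
      rw [← coord_res, hx p.1, coord_comb, map_zero]
      exact (Finsupp.notMem_support_iff.1 fun hm => hi (Finset.mem_biUnion.2 ⟨p.1, p.2, hm⟩)).symm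

end GrothLib.FCat7
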