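import Groth.Agent.Lib.FCat7.Killed

/-!
# The torsion part of a quasi-coherent module is quasi-coherent
-/

set_option autoImplicit false
set_option linter.style.haveILetI false
set_option linter.unusedSectionVars false
universe u

open CategoryTheory CategoryTheory.Limits AlgebraicGeometry TopologicalSpace Opposite

noncomputable section

namespace GrothLib.FCat7

open GrothLib.FMod7

variable {𝔛 : FSch.Sys.{u}} {h : 𝔛.IsFormal}

/-- The inclusion of the torsion part on sections. -/
theorem sHom_gammaι_injective (M : FSch.ModF 𝔛 h) (V : (𝔛.X 0).Opens) :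
    Function.Injective (sHom ((FTors.gammaTι 𝔛 h).app M) V) := fun _ _ e => Subtype.ext e

instance mono_gammaι (M : FSch.ModF 𝔛 h) : Mono ((FTors.gammaTι 𝔛 h).app M) := by
  refine Preadditive.mono_of_cancel_zero _ fun {Z} q hq => hom_ext_basis fun U _ z => ?_
  exact sHom_gammaι_injective M U ((sHom_eq_zero hq U z).trans (map_zero (sHom ((FTors.gammaTι 𝔛 h).app M) U)).symm)

/-- A section of the torsion part with given underlying torsion section. -/
theorem exists_gamma_sect {M : FSch.ModF 𝔛 h} {V : (𝔛.X 0).Opens} {x : ModSite.sect M V}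
    (hx : FTors.IsTorsSect (FTors.openIdealFam 𝔛 h) M x) :
    ∃ t : ModSite.sect ((FTors.gammaT 𝔛 h).obj M) V, sHom ((FTors.gammaTι 𝔛 h).app M) V t = x :=
  ⟨⟨x, hx⟩, rfl⟩

theorem isTorsSect_gammaι {M : FSch.ModF 𝔛 h} {V : (𝔛.X 0).Opens}
    (z : ModSite.sect ((FTors.gammaT 𝔛 h).obj M) V) :
    FTors.IsTorsSect (FTors.openIdealFam 𝔛 h) M (sHom ((FTors.gammaTι 𝔛 h).app M) V z) := z.2

theorem isTorsF_gammaT (M : FSch.ModF 𝔛 h) : FTors.IsTorsF 𝔛 h ((FTors.gammaT 𝔛 h).obj M) := by
  intro V z p hp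
  obtain ⟨W, g, ⟨n, hn⟩, hpW⟩ := isTorsSect_gammaι z p hp
  refine ⟨W, g, ⟨n, fun W' g' a ha => sHom_gammaι_injective M W' ?_⟩, hpW⟩
  refine ((sHom ((FTors.gammaTι 𝔛 h).app M) W').map_smul a _).trans (Eq.trans ?_ (map_zero _).symm)
  exact hn g' a ha

variable (hN : 𝔛.IsLocNoethFormal)
include hN

set_option maxHeartbeats 1000000 in
/-- Torsion parts of modules presented by sections are presented by sections. -/
theorem IsQC.gammaT {M : FSch.ModF 𝔛 h} {W : (𝔛.X 0).Opens} (hW : IsAffineOpen W) (hQ : IsQC M W) :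
    IsQC ((FTors.gammaT 𝔛 h).obj M) W where
  gen V hV z p hp := by
    classical
    let γ := (FTors.gammaTι 𝔛 h).app M
    obtain ⟨V₁, g₁, ⟨n, hn⟩, hpV₁⟩ := isTorsSect_gammaι z p hp
    haveI := isNoetherianRing_Sec (h := h) hN hW
    obtain ⟨L, a, ha⟩ := Submodule.fg_iff_exists_fin_generating_family.1
      (IsNoetherian.noetherian (secIdeal 𝔛 h W ^ (n + 1)))
    obtain ⟨W₂, hW₂, hpW₂, hm⟩ := hQ.gen V₁ (g₁.le.trans hV) (sres M g₁.le (sHom γ V z)) p hpV₁
    obtain ⟨x, hx⟩ := Finsupp.mem_span_range_iff_exists_finsupp.1 hm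
    let S := x.support
    have hW₂W : W₂ ≤ W := (hW₂.trans g₁.le).trans hV
    let w := sres M (hW₂.trans g₁.le) (sHom γ V z)
    have hw : w = ∑ i : S, x i.1 • sres M hW₂W i.1 := by
      refine ((sres_sres g₁.le hW₂ _).symm.trans (hx.symm.trans ?_))
      exact (Finset.sum_coe_sort S fun i => x i • sres M hW₂W i).symm
    have hwk : Killed n w := by
      have := Killed.res (V := W₂) (show Killed n (sres M g₁.le (sHom γ V z)) from hn) hW₂
      rwa [sres_sres] at this
    have hrel : ∀ l : Fin L, ∑ i : S, (rRes hW₂W (a l) * x i.1) • sres M hW₂W i.1 = 0 := fun l => by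
      have hal : proj 𝔛 h W₂ n (rRes hW₂W (a l)) = 0 := (proj_res h W hW₂W n (a l)).trans
        ((congrArg _ ((ker_proj hN hW n).ge (ha ▸ Submodule.subset_span ⟨l, rfl⟩))).trans (map_zero _))
      have := hwk.smul_sres le_rfl hal
      rw [sres_id, hw, Finset.smul_sum] at this
      simpa only [smul_smul] using this
    choose W₃ hW₃ hpW₃ hm₃ using fun l => hQ.rel S (fun i : S => i.1) W₂ hW₂W (fun i => rRes hW₂W (a l) * x i.1)
      (hrel l) p hpW₂
    let U₀ : (𝔛.X 0).Opens := W₂ ⊓ ⟨⋂ l, (W₃ l : Set (𝔛.X 0)), isOpen_iInter_of_finite fun l => (W₃ l).2⟩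
    obtain ⟨W₄, hW₄, hpW₄, hW₄U'⟩ := exists_isAffineOpen_mem_and_subset (x := p) (U := U₀)
      ⟨hpW₂, Set.mem_iInter.2 hpW₃⟩
    have hW₄U : W₄ ≤ U₀ := hW₄U'
    have h42 : W₄ ≤ W₂ := hW₄U.trans inf_le_left
    have h43 : ∀ l, W₄ ≤ W₃ l := fun l y hy => Set.mem_iInter.1 (hW₄U hy).2 l
    have h4W : W₄ ≤ W := h42.trans hW₂W
    obtain ⟨m, R, hR⟩ := Submodule.fg_iff_exists_fin_generating_family.1
      (IsNoetherian.noetherian (LinearMap.ker (Fintype.linearCombination (Sec 𝔛 h W) fun i : S => i.1)))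
    have hR0 : ∀ k, ∑ i : S, R k i • i.1 = 0 := fun k => by
      have hk : R k ∈ LinearMap.ker (Fintype.linearCombination (Sec 𝔛 h W) fun i : S => i.1) :=
        hR ▸ Submodule.subset_span ⟨k, rfl⟩
      rwa [LinearMap.mem_ker, Fintype.linearCombination_apply] at hk
    have hu : ∀ l, ∃ u : Fin m → Sec 𝔛 h W₄, ∀ i : S,
        ∑ k, u k * rRes h4W (R k i) = rRes h4W (a l) * rRes h42 (x i.1) := fun l => by
      have h' := span_res_relations ((hW₃ l).trans hW₂W) R (S := {b | ∑ i : S, b i • i.1 = 0}) (fun b hb => by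
        rw [SetLike.mem_coe, hR, LinearMap.mem_ker, Fintype.linearCombination_apply]
        exact hb) (hm₃ l)
      obtain ⟨u, hu⟩ := (Submodule.mem_span_range_iff_exists_fun _).1 (wRes_mem_span (h43 l) _ h')
      refine ⟨u, fun i => ?_⟩
      have e := congrFun hu i
      simp only [Finset.sum_apply, Pi.smul_apply, smul_eq_mul, wRes, map_mul] at e
      refine Eq.trans (Finset.sum_congr rfl fun k _ => congrArg (u k * ·) ?_) (e.trans ?_)
      · exact (ores_ores ((hW₃ l).trans hW₂W) (h43 l) (R k i)).symm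
      · refine congr_arg₂ (· * ·) ?_ (ores_ores (hW₃ l) (h43 l) (x i.1))
        exact (ores_ores (hW₃ l) (h43 l) (rRes hW₂W (a l))).trans (ores_ores hW₂W _ (a l))
    choose u hu using hu
    let α := S ⊕ (ULift.{u} (Fin L) × ULift.{u} (Fin m))
    let β := ULift.{u} (Fin L) × S
    let r : β → α → Sec 𝔛 h W := fun b => Sum.elim (fun i => if i = b.2 then a b.1.down else 0)
      fun q => if q.1 = b.1 then -R q.2.down b.2 else 0
    let d : α → Sec 𝔛 h W₄ := Sum.elim (fun i => rRes h42 (x i.1)) fun q => u q.1.down q.2.down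
    have hd : ∀ b, ∑ i, d i * rRes h4W (r b i) = 0 := by
      intro b
      simp only [α, Fintype.sum_sum_type, Fintype.sum_prod_type, d, r, Sum.elim_inl, Sum.elim_inr]
      simp only [apply_ite (rRes h4W), map_zero, map_neg, mul_ite, mul_zero, mul_neg, Finset.sum_ite_eq',
        Finset.mem_univ, if_true]
      rw [Finset.sum_eq_single b.1 (fun q _ hq => Finset.sum_eq_zero fun k _ => if_neg hq)
        (fun hh => absurd (Finset.mem_univ _) hh)]
      simp only [if_true, Finset.sum_neg_distrib]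
      rw [add_neg_eq_zero, mul_comm, ← hu b.1.down b.2]
      exact (Equiv.ulift.sum_comp fun k => u b.1.down k * rRes h4W (R k b.2)).symm
    have key := relations_vec hN hW hW₄ h4W r d hd
    refine ⟨W₄, h42.trans (hW₂.trans g₁.le), hpW₄, ?_⟩
    let Λ : (α → Sec 𝔛 h W₄) →ₗ[Sec 𝔛 h W₄] ModSite.sect M W₄ :=
      (Fintype.linearCombination (Sec 𝔛 h W₄) fun i : S => sres M h4W i.1).comp (LinearMap.funLeft _ _ Sum.inl)
    have hΛ : sres M (h42.trans (hW₂.trans g₁.le)) (sHom γ V z) = Λ d := by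
      rw [← sres_sres (hW₂.trans g₁.le) h42]
      refine (congrArg (sres M h42) hw).trans ((sres_comb h42 _ _).trans ?_)
      simp only [sres_sres]
      exact (Fintype.linearCombination_apply (R := Sec 𝔛 h W₄) _ _).symm
    have hmem : sres M (h42.trans (hW₂.trans g₁.le)) (sHom γ V z) ∈ Submodule.map (sHom γ W₄)
        (Submodule.span (Sec 𝔛 h W₄) (Set.range fun t : ModSite.sect ((FTors.gammaT 𝔛 h).obj M) W =>
          sres _ ((h42.trans (hW₂.trans g₁.le)).trans hV) t)) := by
      rw [hΛ]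
      refine Submodule.span_le.2 ?_ (Submodule.map_span Λ _ ▸ Submodule.mem_map_of_mem (f := Λ) key)
      rintro _ ⟨_, ⟨b, hb, rfl⟩, rfl⟩
      have hb0 : ∀ l : Fin L, a l • ∑ i : S, b (Sum.inl i) • i.1 = 0 := fun l => by
        have e : ∀ i : S, a l * b (Sum.inl i) = ∑ k : ULift.{u} (Fin m), b (Sum.inr (⟨l⟩, k)) * R k.down i := fun i => by
          have := hb (⟨l⟩, i)
          simp only [α, Fintype.sum_sum_type, Fintype.sum_prod_type, r, Sum.elim_inl, Sum.elim_inr, mul_ite, mul_zero,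
            mul_neg, Finset.sum_ite_eq', Finset.mem_univ, if_true] at this
          rw [Finset.sum_eq_single (⟨l⟩ : ULift.{u} (Fin L)) (fun q _ hq => Finset.sum_eq_zero fun k _ => if_neg hq)
            (fun hh => absurd (Finset.mem_univ _) hh)] at this
          simp only [if_true, Finset.sum_neg_distrib] at this
          rw [mul_comm]
          exact add_neg_eq_zero.1 this
        simp only [Finset.smul_sum, smul_smul, e, Finset.sum_smul]
        rw [Finset.sum_comm]
        refine Finset.sum_eq_zero fun k _ => ?_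
        simp only [mul_smul, ← Finset.smul_sum, hR0, smul_zero]
      have hk : Killed n (∑ i : S, b (Sum.inl i) • i.1) := killed_of_forall_mem hN hW fun c hc => by
        rw [← ha] at hc
        refine Submodule.span_induction ?_ (zero_smul _ _) ?_ ?_ hc
        · rintro _ ⟨l, rfl⟩; exact hb0 l
        · intro c c' _ _ h₁ h₂; rw [add_smul, h₁, h₂, add_zero]
        · intro e c _ h₁; rw [smul_eq_mul, mul_smul, h₁, smul_zero]
      obtain ⟨t, ht⟩ := exists_gamma_sect (FTors.IsTorsSect.of_killedBy hk)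
      refine ⟨sres _ _ t, Submodule.subset_span ⟨t, rfl⟩, ?_⟩
      refine (sHom_res γ _ t).trans ((congrArg _ ht).trans ((sres_comb _ _ _).trans ?_))
      exact (Fintype.linearCombination_apply (R := Sec 𝔛 h W₄) _ _).symm
    obtain ⟨v, hv, hvz⟩ := hmem
    rw [← sHom_res] at hvz
    exact Eq.subst (motive := fun v => v ∈ _) (sHom_gammaι_injective M W₄ hvz) hv
  rel α _ s := RelGen.of_mono ((FTors.gammaTι 𝔛 h).app M) s (hQ.rel α fun a => sHom ((FTors.gammaTι 𝔛 h).app M) W (s a))

/-- The torsion part of a quasi-coherent module is quasi-coherent. -/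
theorem isQuasicoherent_gammaT (M : FSch.ModF 𝔛 h) [SheafOfModules.IsQuasicoherent.{u} M] :
    SheafOfModules.IsQuasicoherent.{u} ((FTors.gammaT 𝔛 h).obj M) :=
  isQuasicoherent_of_isQC fun p => by
    obtain ⟨W, hW, hp, -, hM⟩ := exists_isQC hN M (U := ⊤) (p := p) trivial
    exact ⟨W, hp, hM.gammaT hN hW⟩

end GrothLib.FCat7
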