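import Groth.Agent.Lib.FCat7.QCPres
import Mathlib.Algebra.Category.ModuleCat.Presheaf.Submodule
import Mathlib.CategoryTheory.Sites.Subsheaf

/-!
# Submodules generated by sections over opens
-/

set_option autoImplicit false
set_option linter.style.haveILetI false
set_option linter.unusedSectionVars false
universe u

open CategoryTheory CategoryTheory.Limits AlgebraicGeometry TopologicalSpace Opposite

noncomputable section

namespace GrothLib.FCat7

open GrothLib.FMod7

section Space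

variable {T : TopCat.{u}} {O : Sheaf (Opens.grothendieckTopology T) CommRingCat.{u}} (M : ModSite.Mod O) {ι : Type u}
  (U : ι → Opens T) (s : ∀ i, ModSite.sect M (U i))

theorem sresZero {V V' : Opens T} (k : V' ≤ V) : sres M k (0 : ModSite.sect M V) = 0 :=
  map_zero (M.val.map (homOfLE k).op).hom

theorem sresAdd {V V' : Opens T} (k : V' ≤ V) (x y : ModSite.sect M V) :
    sres M k (x + y) = sres M k x + sres M k y :=
  map_add (M.val.map (homOfLE k).op).hom x y

theorem sresSmul {V V' : Opens T} (k : V' ≤ V) (c : O.obj.obj (op V)) (x : ModSite.sect M V) :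
    sres M k (c • x) = ores O k c • sres M k x :=
  M.val.map_smul (homOfLE k).op c x

/-- Combinations of the restrictions of the given sections. -/
def spanAt (V : Opens T) : Submodule (O.obj.obj (op V)) (ModSite.sect M V) :=
  Submodule.span _ (Set.range fun i : {i // V ≤ U i} => sres M i.2 (s i.1))

theorem sres_mem_spanAt {V V' : Opens T} (k : V' ≤ V) {z : ModSite.sect M V} (hz : z ∈ spanAt M U s V) :
    sres M k z ∈ spanAt M U s V' := by
  refine Submodule.span_induction ?_ ?_ ?_ ?_ hz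
  · rintro _ ⟨i, rfl⟩
    rw [sres_sres]
    exact Submodule.subset_span ⟨⟨i.1, k.trans i.2⟩, rfl⟩
  · rw [sresZero]; exact zero_mem _
  · intro x y _ _ hx hy
    rw [sresAdd]; exact add_mem hx hy
  · intro c x _ hx
    rw [sresSmul]; exact Submodule.smul_mem _ _ hx

/-- Sections locally combinations of the given ones. -/
def genSet (V : Opens T) : Submodule (O.obj.obj (op V)) (ModSite.sect M V) where
  carrier := {z | ∀ p ∈ V, ∃ (W : Opens T) (hW : W ≤ V), p ∈ W ∧ sres M hW z ∈ spanAt M U s W}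
  zero_mem' p hp := ⟨V, le_rfl, hp, (sresZero M (le_refl V)).symm ▸ zero_mem _⟩
  add_mem' {z z'} hz hz' p hp := by
    obtain ⟨W, hW, hpW, hm⟩ := hz p hp
    obtain ⟨W', hW', hpW', hm'⟩ := hz' p hp
    refine ⟨W ⊓ W', inf_le_left.trans hW, ⟨hpW, hpW'⟩, ?_⟩
    have h1 := sres_mem_spanAt M U s (inf_le_left : W ⊓ W' ≤ W) hm
    have h2 := sres_mem_spanAt M U s (inf_le_right : W ⊓ W' ≤ W') hm'
    rw [sres_sres] at h1 h2
    rw [sresAdd]
    exact add_mem h1 h2
  smul_mem' c z hz p hp := by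
    obtain ⟨W, hW, hpW, hm⟩ := hz p hp
    exact ⟨W, hW, hpW, by rw [sresSmul]; exact Submodule.smul_mem _ _ hm⟩

/-- The generated submodule presheaf. -/
def genSubPre : M.val.Submodule where
  obj V := genSet M U s V.unop
  map {V V'} f z hz := by
    intro p hp
    obtain ⟨W, hW, hpW, hm⟩ := hz p (f.unop.le hp)
    refine ⟨W ⊓ V'.unop, inf_le_right, ⟨hpW, hp⟩, ?_⟩
    have h1 := sres_mem_spanAt M U s (inf_le_left : W ⊓ V'.unop ≤ W) hm
    rw [sres_sres] at h1
    show sres M _ (sres M f.unop.le z) ∈ _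
    rw [sres_sres]
    exact h1

/-- The same, as a subfunctor. -/
def genSubfunctor : Subfunctor (M.val.presheaf ⋙ forget Ab.{u}) where
  obj V := {z | z ∈ genSet M U s V.unop}
  map f _ hz := (genSubPre M U s).map f hz

theorem isSheaf_genSub :
    Presheaf.IsSheaf (Opens.grothendieckTopology T) (genSubPre M U s).toPresheafOfModules.presheaf := by
  have hM : Presieve.IsSheaf (Opens.grothendieckTopology T) (M.val.presheaf ⋙ forget Ab.{u}) :=
    (isSheaf_iff_isSheaf_of_type _ _).1 ((Presheaf.isSheaf_iff_isSheaf_forget _ M.val.presheaf (forget Ab.{u})).1 M.isSheaf)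
  rw [Presheaf.isSheaf_iff_isSheaf_forget _ _ (forget Ab.{u}), isSheaf_iff_isSheaf_of_type]
  let e : (genSubPre M U s).toPresheafOfModules.presheaf ⋙ forget Ab.{u} ≅ (genSubfunctor M U s).toFunctor :=
    NatIso.ofComponents (fun V => Equiv.toIso
      { toFun := fun z => ⟨z.1, z.2⟩
        invFun := fun z => ⟨z.1, z.2⟩
        left_inv := fun _ => rfl
        right_inv := fun _ => rfl }) (fun _ => rfl)
  refine Presieve.isSheaf_iso _ e.symm (((genSubfunctor M U s).isSheaf_iff hM).2 ?_)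
  intro V z hz p hp
  obtain ⟨V', g, hg, hpV'⟩ := hz p hp
  obtain ⟨W, hW, hpW, hm⟩ := hg p hpV'
  refine ⟨W, hW.trans g.le, hpW, ?_⟩
  have e1 : sres M hW (sres M g.le z) = sres M (hW.trans g.le) z := sres_sres _ _ _
  rw [← e1]
  exact hm

/-- The submodule generated by sections over opens. -/
def genMod : ModSite.Mod O where
  val := (genSubPre M U s).toPresheafOfModules
  isSheaf := isSheaf_genSub M U s

/-- The inclusion. -/
def genIncl : genMod M U s ⟶ M := ⟨(genSubPre M U s).ι⟩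

instance : Mono (genIncl M U s) :=
  (SheafOfModules.forget (ModSite.ringSh O)).mono_of_mono_map (inferInstanceAs (Mono (genSubPre M U s).ι))

theorem exists_genMod_sect {V : Opens T} {z : ModSite.sect M V} (hz : z ∈ genSet M U s V) :
    ∃ z' : ModSite.sect (genMod M U s) V, sHom (genIncl M U s) V z' = z :=
  ⟨⟨z, hz⟩, rfl⟩

theorem sHom_genIncl_mem {V : Opens T} (z : ModSite.sect (genMod M U s) V) :
    sHom (genIncl M U s) V z ∈ genSet M U s V := z.2

theorem mem_genSet (i : ι) : s i ∈ genSet M U s (U i) := fun p hp =>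
  ⟨U i, le_rfl, hp, Submodule.subset_span ⟨⟨i, le_rfl⟩, rfl⟩⟩

end Space

variable {𝔛 : FSch.Sys.{u}} {h : 𝔛.IsFormal} (hN : 𝔛.IsLocNoethFormal) {M : FSch.ModF 𝔛 h} {ι : Type u}
  (U : ι → (𝔛.X 0).Opens) (s : ∀ i, ModSite.sect M (U i))
include hN

set_option maxHeartbeats 800000 in
/-- A generated submodule of a quasi-coherent module which is finitely generated on affine opens is coherent. -/
theorem isCohF_genMod (H : ∀ p : 𝔛.X 0, ∃ (W : (𝔛.X 0).Opens) (n : ℕ) (g : Fin n → ModSite.sect M W),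
    IsAffineOpen W ∧ p ∈ W ∧ IsQC M W ∧ (∀ k, g k ∈ genSet M U s W) ∧
    ∀ (i : ι), ∀ q ∈ W, q ∈ U i → ∃ (V : (𝔛.X 0).Opens) (hV : V ≤ W) (hVi : V ≤ U i), q ∈ V ∧
      sres M hVi (s i) ∈ Submodule.span (Sec 𝔛 h V) (Set.range fun k => sres M hV (g k))) :
    FSch.IsCohF 𝔛 h (genMod M U s) := by
  classical
  refine isCohF_of_presentations fun p => ?_
  obtain ⟨W, n, g, hW, hpW, hQ, hg, hcov⟩ := H p
  choose g' hg' using fun k => exists_genMod_sect M U s (hg k)
  refine ⟨W, hpW, exists_presentation_of_local hN hW g' (fun V hV z q hq => ?_) (fun V hV y hy q hq => ?_)⟩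
  · obtain ⟨W₁, hW₁, hqW₁, hm⟩ := sHom_genIncl_mem M U s z q hq
    have key : ∀ z' : ModSite.sect M W₁, z' ∈ spanAt M U s W₁ →
        ∃ (V' : (𝔛.X 0).Opens) (hV' : V' ≤ W₁), q ∈ V' ∧ sres M hV' z' ∈
          Submodule.span (Sec 𝔛 h V') (Set.range fun k => sres M ((hV'.trans hW₁).trans hV) (g k)) := by
      intro z' hz'
      refine Submodule.span_induction ?_ ?_ ?_ ?_ hz'
      · rintro _ ⟨i, rfl⟩
        obtain ⟨V', hV', hVi, hqV', hm'⟩ := hcov i.1 q (hV hq) (i.2 hqW₁)
        refine ⟨V' ⊓ W₁, inf_le_right, ⟨hqV', hqW₁⟩, ?_⟩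
        obtain ⟨c, hc⟩ := (Submodule.mem_span_range_iff_exists_fun _).1 hm'
        refine (Submodule.mem_span_range_iff_exists_fun _).2 ⟨fun k => rRes inf_le_left (c k), ?_⟩
        rw [sres_sres, ← sres_sres hVi (inf_le_left : V' ⊓ W₁ ≤ V') (s i.1), ← hc, sres_comb]
        simp only [sres_sres]
      · exact ⟨W₁, le_rfl, hqW₁, by rw [sresZero]; exact zero_mem _⟩
      · rintro x x' - - ⟨V₁, hV₁, hq₁, hx⟩ ⟨V₂, hV₂, hq₂, hx'⟩
        obtain ⟨c, hc⟩ := (Submodule.mem_span_range_iff_exists_fun _).1 hx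
        obtain ⟨c', hc'⟩ := (Submodule.mem_span_range_iff_exists_fun _).1 hx'
        refine ⟨V₁ ⊓ V₂, inf_le_left.trans hV₁, ⟨hq₁, hq₂⟩, (Submodule.mem_span_range_iff_exists_fun _).2
          ⟨fun k => rRes inf_le_left (c k) + rRes inf_le_right (c' k), ?_⟩⟩
        rw [sresAdd,
          ← sres_sres hV₁ (inf_le_left : V₁ ⊓ V₂ ≤ V₁) x, ← sres_sres hV₂ (inf_le_right : V₁ ⊓ V₂ ≤ V₂) x',
          ← hc, ← hc', sres_comb, sres_comb]
        simp only [sres_sres, add_smul, Finset.sum_add_distrib]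
      · rintro a x - ⟨V₁, hV₁, hq₁, hx⟩
        exact ⟨V₁, hV₁, hq₁, by rw [sresSmul]; exact Submodule.smul_mem _ _ hx⟩
    obtain ⟨V', hV', hqV', hm'⟩ := key _ hm
    refine ⟨V', hV'.trans hW₁, hqV', ?_⟩
    rw [sres_sres, ← sHom_res] at hm'
    obtain ⟨c, hc⟩ := (Submodule.mem_span_range_iff_exists_fun _).1 hm'
    refine (Submodule.mem_span_range_iff_exists_fun _).2 ⟨c, sHom_injective (genIncl M U s) V' ?_⟩
    rw [← hc, map_sum]
    exact Finset.sum_congr rfl fun k _ =>
      ((sHom (genIncl M U s) V').map_smul _ _).trans (congrArg (c k • ·) ((sHom_res _ _ _).trans (congrArg _ (hg' k))))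
  · let e := (Equiv.ulift.{u} : ULift.{u} (Fin n) ≃ Fin n)
    obtain ⟨W', hW', hqW', hm⟩ := (RelGen.of_mono (genIncl M U s) (fun k : ULift.{u} (Fin n) => g' k.down)
      (hQ.rel _ fun k : ULift.{u} (Fin n) => sHom (genIncl M U s) W (g' k.down))) V hV (fun k => y k.down)
      ((e.sum_comp fun k => y k • sres (genMod M U s) hV (g' k)).trans hy) q hq
    refine ⟨W', hW', hqW', ?_⟩
    let L : (ULift.{u} (Fin n) → Sec 𝔛 h W') →ₗ[Sec 𝔛 h W'] Fin n → Sec 𝔛 h W' := LinearMap.funLeft _ _ ULift.up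
    show L (wRes hW' fun k => y k.down) ∈ _
    refine Submodule.span_le.2 ?_ (Submodule.map_span L _ ▸ Submodule.mem_map_of_mem (f := L) hm)
    rintro _ ⟨_, ⟨b, hb, rfl⟩, rfl⟩
    exact Submodule.subset_span ⟨fun k => b ⟨k⟩, (e.symm.sum_comp fun k => b k • g' k.down).trans hb, rfl⟩

end GrothLib.FCat7
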