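import Groth.Agent.Lib.FCat7.IndColim

/-!
# Global presentations of quasi-coherent modules on an affine formal scheme
-/

set_option autoImplicit false
set_option linter.style.haveILetI false
set_option linter.unusedSectionVars false
universe u

open CategoryTheory CategoryTheory.Limits AlgebraicGeometry TopologicalSpace Opposite

noncomputable section

namespace GrothLib.FCat7

open GrothLib.FMod7

variable {𝔛 : FSch.Sys.{u}} {h : 𝔛.IsFormal}

/-- The map out of the structure sheaf with given value at one. -/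
def ofGlobal {M : FSch.ModF 𝔛 h} (m : ModSite.sect M ⊤) :
    SheafOfModules.unit (ModSite.ringSh (𝔛.Osh h)) ⟶ M :=
  M.unitHomEquiv.symm (PresheafOfModules.sectionsMk (fun V => sres M (le_top : V.unop ≤ ⊤) m) fun V W g => by
    obtain ⟨V⟩ := V
    obtain ⟨W⟩ := W
    exact sres_sres (le_top : V ≤ ⊤) g.unop.le m)

theorem sHom_ofGlobal_one {M : FSch.ModF 𝔛 h} (m : ModSite.sect M ⊤) (V : (𝔛.X 0).Opens) :
    ((ofGlobal m).val.app (op V)).hom (1 : Sec 𝔛 h V) = sres M le_top m :=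
  congrFun (congrArg Subtype.val (M.unitHomEquiv.apply_symm_apply _)) (op V)

/-- A module generated by global sections is a quotient of a free one. -/
theorem exists_epi_free (M : FSch.ModF 𝔛 h) (hM : IsQC M ⊤) :
    ∃ (α : Type u) (π : (SheafOfModules.free α : FSch.ModF 𝔛 h) ⟶ M), Epi π := by
  let π : (SheafOfModules.free (ModSite.sect M ⊤) : FSch.ModF 𝔛 h) ⟶ M := Sigma.desc fun m => ofGlobal m
  refine ⟨_, π, Preadditive.epi_of_cancel_zero _ fun {Z} q hq => hom_ext_basis fun U hU z => ?_⟩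
  have h0 : ∀ (V : (𝔛.X 0).Opens) (m : ModSite.sect M ⊤), sHom q V (sres M le_top m) = 0 := fun V m => by
    have e : ofGlobal m ≫ q = (0 : SheafOfModules.unit (ModSite.ringSh (𝔛.Osh h)) ⟶ Z) := by
      refine Eq.trans ?_ ((congrArg (SheafOfModules.ιFree (R := ModSite.ringSh (𝔛.Osh h)) m ≫ ·) hq).trans comp_zero)
      exact (congrArg (· ≫ q) (Sigma.ι_desc (fun m => ofGlobal m) m).symm).trans (Category.assoc _ _ _)
    refine (congrArg (sHom q V) (sHom_ofGlobal_one m V).symm).trans ?_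
    exact congrArg (fun φ : SheafOfModules.unit (ModSite.ringSh (𝔛.Osh h)) ⟶ Z =>
      (φ.val.app (op V)).hom (1 : Sec 𝔛 h V)) e
  refine sect_ext Z _ _ fun p hp => ?_
  obtain ⟨W', hW', hpW', hm⟩ := hM.gen U le_top z p hp
  refine ⟨W', hW', hpW', ?_⟩
  refine (sHom_res q hW' z).symm.trans (Eq.trans ?_ (map_zero (Z.val.map (homOfLE hW').op).hom).symm)
  refine LinearMap.mem_ker.1 (Submodule.span_le.2 ?_ hm)
  rintro _ ⟨m, rfl⟩
  exact LinearMap.mem_ker.2 (h0 W' m)

variable (hN : 𝔛.IsLocNoethFormal)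
include hN

theorem ind_free (α : Type u) :
    (ObjectProperty.ind.{u} fun G : FSch.ModF 𝔛 h => FSch.IsCohF 𝔛 h G) (SheafOfModules.free α : FSch.ModF 𝔛 h) :=
  ind_sigma hN (fun _ : α => FSch.unitF 𝔛 h) fun _ => isCohF_unit

/-- Global presentations. -/
theorem exists_cokernel_free [IsAffine (𝔛.X 0)] (M : FSch.ModF 𝔛 h) (hM : IsQC M ⊤) :
    ∃ (α β : Type u) (φ : (SheafOfModules.free α : FSch.ModF 𝔛 h) ⟶ SheafOfModules.free β),
      Nonempty (cokernel φ ≅ M) := by
  obtain ⟨β, π, hπ⟩ := exists_epi_free M hM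
  haveI := hπ
  obtain ⟨α, ρ, hρ⟩ := exists_epi_free (kernel π)
    ((isQC_of_ind hN (ind_free hN β) (isAffineOpen_top _)).kernel π hM)
  haveI := hρ
  exact ⟨α, β, ρ ≫ kernel.ι π, ⟨cokernelEpiComp _ _ ≪≫
    (colimit.isColimit _).coconePointUniqueUpToIso (Abelian.epiIsCokernelOfKernel _ (limit.isLimit _))⟩⟩

theorem ind_cokernel {α β : Type u}
    (φ : (SheafOfModules.free α : FSch.ModF 𝔛 h) ⟶ SheafOfModules.free β) {M : FSch.ModF 𝔛 h} (e : cokernel φ ≅ M) :
    (ObjectProperty.ind.{u} fun G : FSch.ModF 𝔛 h => FSch.IsCohF 𝔛 h G) M := by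
  haveI := isQuasicoherent_of_ind hN (ind_free hN (h := h) α)
  haveI := isQuasicoherent_of_ind hN (ind_free hN (h := h) β)
  haveI := isQuasicoherent_cokernel hN φ
  haveI := isQuasicoherent_of_iso hN e
  exact ind_of_epi hN (ind_free hN β) (cokernel.π φ ≫ e.hom)

end GrothLib.FCat7
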