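import Groth.Agent.Lib.FMod7.Gen
import Groth.Agent.Lib.FMod7.QLoc

/-!
# Spans of vectors of functions on a formal scheme are local
-/

set_option autoImplicit false
set_option linter.style.haveILetI false
set_option linter.unusedSectionVars false
universe u

open CategoryTheory CategoryTheory.Limits AlgebraicGeometry TopologicalSpace Opposite

noncomputable section

namespace GrothLib.FCat7

open GrothLib.FMod7

theorem mem_of_forall_pow {A : Type u} [CommRing A] [IsNoetherianRing A] (I : Ideal A)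
    (hI : I ≤ (⊥ : Ideal A).jacobson) {ι : Type*} [Fintype ι] (T : Submodule A (ι → A)) (a : ι → A)
    (key : ∀ n, ∃ b ∈ T, ∀ i, a i - b i ∈ I ^ n) : a ∈ T := by
  classical
  have hb := Ideal.iInf_pow_smul_eq_bot_of_le_jacobson I (M := (ι → A) ⧸ T) hI
  have : T.mkQ a ∈ (⨅ n : ℕ, I ^ n • ⊤ : Submodule A ((ι → A) ⧸ T)) := by
    refine Submodule.mem_iInf _ |>.2 fun n => ?_
    obtain ⟨b, hb', hba⟩ := key n
    have e : T.mkQ a = ∑ i, (a i - b i) • T.mkQ (Pi.single i 1) := by
      rw [← sub_zero (T.mkQ a), ← (Submodule.Quotient.mk_eq_zero T).2 hb']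
      show T.mkQ a - T.mkQ b = _
      rw [← map_sub]
      conv_lhs => rw [pi_eq_sum_univ (a - b)]
      rw [map_sum]
      refine Finset.sum_congr rfl fun i _ => ?_
      rw [map_smul]
      congr 2
      funext j
      simp [Pi.single_apply, eq_comm]
    rw [e]
    exact Submodule.sum_mem _ fun i _ => Submodule.smul_mem_smul (hba i) Submodule.mem_top
  rw [hb] at this
  exact (Submodule.Quotient.mk_eq_zero T).1 this

variable {𝔛 : FSch.Sys.{u}} {h : 𝔛.IsFormal} {W : (𝔛.X 0).Opens} {ι κ : Type u} [Fintype ι] [Fintype κ]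

/-- A vector of functions locally in the span of vectors is in their span. -/
theorem mem_span_vec_of_locally (hN : 𝔛.IsLocNoethFormal) (hW : IsAffineOpen W) (r : κ → ι → Sec 𝔛 h W)
    (a : ι → Sec 𝔛 h W)
    (H : ∀ p ∈ W, ∃ (V : (𝔛.X 0).Opens) (hV : V ≤ W), p ∈ V ∧ (fun i => rRes hV (a i)) ∈
      Submodule.span (Sec 𝔛 h V) (Set.range fun k i => rRes hV (r k i))) :
    a ∈ Submodule.span (Sec 𝔛 h W) (Set.range r) := by
  classical
  haveI := isNoetherianRing_Sec (h := h) hN hW
  refine mem_of_forall_pow _ (secIdeal_le_jacobson hN hW) _ a fun n => ?_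
  have hmem : (fun i => proj 𝔛 h W n (a i)) ∈ Submodule.span (LSec 𝔛 h W n)
      (Set.range fun k i => proj 𝔛 h W n (r k i)) :=
    mem_span_pi_of_locally (FFormal7.isAffineOpen_lvU 𝔛 h hW n) _ _ fun y hy => by
      obtain ⟨V, hV, hpV, hm⟩ := H (𝔛.gInv h n y) hy
      obtain ⟨c, hc⟩ := (Submodule.mem_span_range_iff_exists_fun _).1 hm
      refine ⟨𝔛.lvU h n V, lvU_mono hV n, hpV, (Submodule.mem_span_range_iff_exists_fun _).2
        ⟨fun k => proj 𝔛 h V n (c k), funext fun i => ?_⟩⟩
      have e := congrArg (proj 𝔛 h V n) (congrFun hc i)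
      rw [Finset.sum_apply, map_sum] at e
      rw [Finset.sum_apply]
      refine Eq.trans (Finset.sum_congr rfl fun k _ => ?_) (e.trans (proj_res h W hV n (a i)))
      rw [Pi.smul_apply, Pi.smul_apply, smul_eq_mul, smul_eq_mul, map_mul]
      exact congrArg (proj 𝔛 h V n (c k) * ·) (proj_res h W hV n (r k i)).symm
  obtain ⟨c, hc⟩ := (Submodule.mem_span_range_iff_exists_fun _).1 hmem
  choose d hd using fun k => proj_surjective hN hW n (c k)
  refine ⟨∑ k, d k • r k, Submodule.sum_mem _ fun k _ => Submodule.smul_mem _ _ (Submodule.subset_span ⟨k, rfl⟩),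
    fun i => Ideal.pow_le_pow_right (Nat.le_succ n) ((ker_proj hN hW n).le (RingHom.mem_ker.2 ?_))⟩
  rw [map_sub, ← congrFun hc i, Finset.sum_apply, Finset.sum_apply, map_sum, sub_eq_zero]
  exact Finset.sum_congr rfl fun k _ => by simp [hd]

end GrothLib.FCat7
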