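import Groth.Agent.Lib.FCat7.GlueScheme
import Groth.Agent.Lib.FCat7.SpanLocal

/-!
# Gluing classes of vectors of functions over an affine open of a formal scheme
-/

set_option autoImplicit false
set_option linter.style.haveILetI false
set_option linter.unusedSectionVars false
universe u

open CategoryTheory CategoryTheory.Limits AlgebraicGeometry TopologicalSpace Opposite

noncomputable section

namespace GrothLib.FCat7

open GrothLib.FMod7

variable {𝔛 : FSch.Sys.{u}} {h : 𝔛.IsFormal}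

/-- Restriction of a vector. -/
abbrev wRes {U V : (𝔛.X 0).Opens} {ι : Type*} (hVU : V ≤ U) (a : ι → Sec 𝔛 h U) : ι → Sec 𝔛 h V :=
  fun i => rRes hVU (a i)

/-- Projection of a vector to a level. -/
def vProj (U : (𝔛.X 0).Opens) (n : ℕ) {ι : Type*} (a : ι → Sec 𝔛 h U) : ι → LSec 𝔛 h U n :=
  fun i => proj 𝔛 h U n (a i)

theorem vProj_wRes {U V : (𝔛.X 0).Opens} (hVU : V ≤ U) (n : ℕ) {ι : Type*} (a : ι → Sec 𝔛 h U) :
    vProj V n (wRes hVU a) = vRes (lvU_mono (h := h) hVU n) (vProj U n a) :=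
  funext fun i => proj_res h U hVU n (a i)

theorem vProj_sub (U : (𝔛.X 0).Opens) (n : ℕ) {ι : Type*} (a b : ι → Sec 𝔛 h U) :
    vProj U n (a - b) = vProj U n a - vProj U n b :=
  funext fun i => map_sub (proj 𝔛 h U n) (a i) (b i)

theorem vProj_mem_span (U : (𝔛.X 0).Opens) (n : ℕ) {ι κ : Type*} (r : κ → ι → Sec 𝔛 h U) {a : ι → Sec 𝔛 h U}
    (ha : a ∈ Submodule.span (Sec 𝔛 h U) (Set.range r)) :
    vProj U n a ∈ Submodule.span (LSec 𝔛 h U n) (Set.range fun k => vProj U n (r k)) := by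
  refine Submodule.span_induction ?_ ?_ ?_ ?_ ha
  · rintro _ ⟨k, rfl⟩
    exact Submodule.subset_span ⟨k, rfl⟩
  · rw [show vProj U n (0 : ι → Sec 𝔛 h U) = 0 from funext fun i => map_zero _]
    exact zero_mem _
  · intro x y _ _ hx hy
    rw [show vProj U n (x + y) = vProj U n x + vProj U n y from funext fun i => map_add _ _ _]
    exact add_mem hx hy
  · intro c x _ hx
    rw [show vProj U n (c • x) = proj 𝔛 h U n c • vProj U n x from funext fun i => map_mul _ _ _]
    exact Submodule.smul_mem _ _ hx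

theorem vProj_trans (U : (𝔛.X 0).Opens) (n : ℕ) {ι : Type*} (a : ι → Sec 𝔛 h U) (i : ι) :
    trans 𝔛 h U n (vProj U (n + 1) a i) = vProj U n a i :=
  trans_proj 𝔛 h U n (a i)

theorem exists_span_of_proj {U : (𝔛.X 0).Opens} (hN : 𝔛.IsLocNoethFormal) (hU : IsAffineOpen U) (n : ℕ)
    {ι κ : Type*} [Fintype κ] (r : κ → ι → Sec 𝔛 h U) (z : ι → Sec 𝔛 h U)
    (hz : vProj U n z ∈ Submodule.span (LSec 𝔛 h U n) (Set.range fun k => vProj U n (r k))) :
    ∃ s ∈ Submodule.span (Sec 𝔛 h U) (Set.range r), ∀ i, z i - s i ∈ secIdeal 𝔛 h U ^ (n + 1) := by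
  obtain ⟨c, hc⟩ := (Submodule.mem_span_range_iff_exists_fun _).1 hz
  choose d hd using fun k => proj_surjective hN hU n (c k)
  refine ⟨∑ k, d k • r k, Submodule.sum_mem _ fun k _ => Submodule.smul_mem _ _ (Submodule.subset_span ⟨k, rfl⟩),
    fun i => (ker_proj hN hU n).le (RingHom.mem_ker.2 ?_)⟩
  rw [map_sub, Finset.sum_apply, map_sum, sub_eq_zero, show proj 𝔛 h U n (z i) = _ from (congrFun hc i).symm,
    Finset.sum_apply]
  exact Finset.sum_congr rfl fun k _ => by simp [hd, vProj]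

set_option maxHeartbeats 800000 in
/-- Classes of vectors modulo given vectors glue over an affine open. -/
theorem exists_glue_vec (hN : 𝔛.IsLocNoethFormal) {W : (𝔛.X 0).Opens} (hW : IsAffineOpen W) {ι κ : Type u}
    [Fintype ι] [Fintype κ] (r : κ → ι → Sec 𝔛 h W) {J : Type u} (V : J → (𝔛.X 0).Opens) (hV : ∀ j, V j ≤ W)
    (hcov : ∀ p ∈ W, ∃ j, p ∈ V j) (c : ∀ j, ι → Sec 𝔛 h (V j))
    (hcomp : ∀ j j', ∀ p ∈ V j, p ∈ V j' → ∃ (W' : (𝔛.X 0).Opens) (h₁ : W' ≤ V j) (h₂ : W' ≤ V j'), p ∈ W' ∧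
      wRes h₁ (c j) - wRes h₂ (c j') ∈
        Submodule.span (Sec 𝔛 h W') (Set.range fun k => wRes (h₁.trans (hV j)) (r k))) :
    ∃ a : ι → Sec 𝔛 h W, ∀ j, ∀ p ∈ V j, ∃ (W' : (𝔛.X 0).Opens) (h₁ : W' ≤ V j), p ∈ W' ∧
      wRes (h₁.trans (hV j)) a - wRes h₁ (c j) ∈
        Submodule.span (Sec 𝔛 h W') (Set.range fun k => wRes (h₁.trans (hV j)) (r k)) := by
  classical
  haveI := isNoetherianRing_Sec (h := h) hN hW
  haveI := isAdicComplete_Sec (h := h) hN hW
  have hlev : ∀ n, ∃ a : ι → Sec 𝔛 h W, ∀ j, ∀ y ∈ 𝔛.lvU h n (V j),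
      ∃ (W' : (𝔛.X n).Opens) (h₁ : W' ≤ 𝔛.lvU h n (V j)), y ∈ W' ∧
        vRes (h₁.trans (lvU_mono (hV j) n)) (vProj W n a) - vRes h₁ (vProj (V j) n (c j)) ∈
          Submodule.span Γ(𝔛.X n, W') (Set.range fun k => vRes (h₁.trans (lvU_mono (hV j) n)) (vProj W n (r k))) := by
    intro n
    obtain ⟨b, hb⟩ := exists_glue_mod (FFormal7.isAffineOpen_lvU 𝔛 h hW n) (fun k => vProj W n (r k))
      (fun j => 𝔛.lvU h n (V j)) (fun j => lvU_mono (hV j) n) (fun y hy => hcov _ hy) (fun j => vProj (V j) n (c j))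
      fun j j' y hy hy' => by
        obtain ⟨W', h₁, h₂, hyW', hm⟩ := hcomp j j' (𝔛.gInv h n y) hy hy'
        refine ⟨𝔛.lvU h n W', lvU_mono h₁ n, lvU_mono h₂ n, hyW', ?_⟩
        have := vProj_mem_span W' n _ hm
        rw [vProj_sub, vProj_wRes, vProj_wRes] at this
        refine Submodule.span_mono ?_ this
        rintro _ ⟨k, rfl⟩
        exact ⟨k, (vProj_wRes _ n (r k)).symm⟩
    choose a ha using fun i => proj_surjective hN hW n (b i)
    refine ⟨a, fun j y hy => ?_⟩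
    obtain ⟨W', h₁, hyW', hm⟩ := hb j y hy
    exact ⟨W', h₁, hyW', by rwa [show vProj W n a = b from funext ha]⟩
  choose a ha using hlev
  have hdown : ∀ n, ∀ j, ∀ y ∈ 𝔛.lvU h n (V j),
      ∃ (W' : (𝔛.X n).Opens) (h₁ : W' ≤ 𝔛.lvU h n (V j)), y ∈ W' ∧
        vRes (h₁.trans (lvU_mono (hV j) n)) (vProj W n (a (n + 1))) - vRes h₁ (vProj (V j) n (c j)) ∈
          Submodule.span Γ(𝔛.X n, W') (Set.range fun k => vRes (h₁.trans (lvU_mono (hV j) n)) (vProj W n (r k))) := by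
    intro n j y hy
    obtain ⟨W', hW', hyW', hW'V⟩ := exists_isAffineOpen_mem_and_subset (x := 𝔛.gInv h n y) (U := V j) hy
    have hW'' : W' ≤ V j := hW'V
    refine ⟨𝔛.lvU h n W', lvU_mono hW'' n, hyW', ?_⟩
    let z : ι → Sec 𝔛 h W' := wRes (hW''.trans (hV j)) (a (n + 1)) - wRes hW'' (c j)
    have hz : vProj W' (n + 1) z ∈ Submodule.span (LSec 𝔛 h W' (n + 1))
        (Set.range fun k => vProj W' (n + 1) (wRes (hW''.trans (hV j)) (r k))) := by
      refine mem_span_pi_of_locally (FFormal7.isAffineOpen_lvU 𝔛 h hW' (n + 1)) _ _ fun y' hy' => ?_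
      obtain ⟨O, hO, hyO, hm⟩ := ha (n + 1) j y' (lvU_mono hW'' (n + 1) hy')
      refine ⟨O ⊓ 𝔛.lvU h (n + 1) W', inf_le_right, ⟨hyO, hy'⟩, ?_⟩
      have := vRes_mem_span (inf_le_left : O ⊓ 𝔛.lvU h (n + 1) W' ≤ O) _ hm
      rw [show vRes (inf_le_left : O ⊓ 𝔛.lvU h (n + 1) W' ≤ O) (_ - _) = _ from funext fun i => map_sub _ _ _] at this
      show vRes (inf_le_right : O ⊓ 𝔛.lvU h (n + 1) W' ≤ _) (vProj W' (n + 1) z) ∈ _
      rw [vProj_sub, vProj_wRes, vProj_wRes]
      rw [show vRes (inf_le_right : O ⊓ 𝔛.lvU h (n + 1) W' ≤ _) (_ - _) = _ from funext fun i => map_sub _ _ _]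
      convert this using 1
      · simp only [vRes_vRes]
        congr 2
        funext k
        rw [show (fun i => (𝔛.X (n + 1)).presheaf.map (homOfLE (inf_le_right : O ⊓ 𝔛.lvU h (n + 1) W' ≤ _)).op
          (vProj W' (n + 1) (wRes (hW''.trans (hV j)) (r k)) i)) = vRes inf_le_right
            (vProj W' (n + 1) (wRes (hW''.trans (hV j)) (r k))) from rfl, vProj_wRes, vRes_vRes]
      · funext i
        simp only [Pi.sub_apply, vRes, ← ConcreteCategory.comp_apply, ← Functor.map_comp, ← op_comp, homOfLE_comp]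
    obtain ⟨s, hs, hzs⟩ := exists_span_of_proj hN hW' (n + 1) _ z hz
    have h0 : vProj W' n z = vProj W' n s := funext fun i => sub_eq_zero.1 ((map_sub (proj 𝔛 h W' n) _ _).symm.trans
      ((ker_proj hN hW' n).ge (Ideal.pow_le_pow_right (Nat.le_succ _) (hzs i))))
    have := vProj_mem_span W' n _ hs
    rw [← h0, vProj_sub, vProj_wRes, vProj_wRes] at this
    refine Submodule.span_mono ?_ this
    rintro _ ⟨k, rfl⟩
    exact ⟨k, (vProj_wRes _ n (r k)).symm⟩
  have hstep : ∀ n, ∃ s ∈ Submodule.span (Sec 𝔛 h W) (Set.range r),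
      ∀ i, a (n + 1) i - a n i - s i ∈ secIdeal 𝔛 h W ^ (n + 1) := by
    intro n
    refine exists_span_of_proj hN hW n r (a (n + 1) - a n)
      (mem_span_pi_of_locally (FFormal7.isAffineOpen_lvU 𝔛 h hW n) _ _ fun y hy => ?_)
    obtain ⟨j, hj⟩ := hcov _ hy
    obtain ⟨O, hO, hyO, hm⟩ := ha n j y hj
    obtain ⟨O', hO', hyO', hm'⟩ := hdown n j y hj
    refine ⟨O ⊓ O', inf_le_left.trans (hO.trans (lvU_mono (hV j) n)), ⟨hyO, hyO'⟩, ?_⟩
    have h1 := vRes_mem_span (inf_le_left : O ⊓ O' ≤ O) _ hm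
    have h2 := vRes_mem_span (inf_le_right : O ⊓ O' ≤ O') _ hm'
    simp only [vRes_vRes] at h1 h2
    refine Submodule.span_mono ?_ (Eq.subst (motive := fun v => v ∈ _) ?_ (sub_mem h2 h1))
    · rintro _ ⟨k, rfl⟩
      exact ⟨k, rfl⟩
    · funext i
      simp only [vProj_sub, Pi.sub_apply, vRes, map_sub, ← ConcreteCategory.comp_apply, ← Functor.map_comp, ← op_comp,
        homOfLE_comp]
      ring
  choose s hs hss using hstep
  let a' : ℕ → ι → Sec 𝔛 h W := fun n => a n - ∑ m ∈ Finset.range n, s m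
  have hcau : ∀ n i, a' (n + 1) i - a' n i ∈ secIdeal 𝔛 h W ^ (n + 1) := fun n i => by
    convert hss n i using 1
    simp only [a', Finset.sum_range_succ, Pi.sub_apply, Pi.add_apply]
    ring
  have hcau' : ∀ i {m n : ℕ}, m ≤ n → a' n i - a' m i ∈ secIdeal 𝔛 h W ^ m := fun i m n hmn => by
    induction n, hmn using Nat.le_induction with
    | base => simp
    | succ n hmn ih =>
      have := add_mem (Ideal.pow_le_pow_right (hmn.trans (Nat.le_succ n)) (hcau n i)) ih
      convert this using 1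
      ring
  have hlim : ∀ i, ∃ L : Sec 𝔛 h W, ∀ n, a' n i - L ∈ secIdeal 𝔛 h W ^ n := fun i => by
    obtain ⟨L, hL⟩ := IsPrecomplete.prec (I := secIdeal 𝔛 h W) (M := Sec 𝔛 h W) inferInstance
      (f := fun n => a' n i) fun {m n} hmn => by
      rw [SModEq.sub_mem, Ideal.smul_eq_mul, Ideal.mul_top, ← neg_sub]
      exact neg_mem (hcau' i hmn)
    refine ⟨L, fun n => ?_⟩
    have := hL n
    rwa [SModEq.sub_mem, Ideal.smul_eq_mul, Ideal.mul_top] at this
  choose L hL using hlim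
  refine ⟨L, fun j p hp => ?_⟩
  obtain ⟨W', hW', hpW', hW'V⟩ := exists_isAffineOpen_mem_and_subset (x := p) (U := V j) hp
  have hW'' : W' ≤ V j := hW'V
  haveI := isNoetherianRing_Sec (h := h) hN hW'
  refine ⟨W', hW'', hpW', mem_of_forall_pow _ (secIdeal_le_jacobson hN hW') _ _ fun n => ?_⟩
  let z : ι → Sec 𝔛 h W' := wRes (hW''.trans (hV j)) (a n) - wRes hW'' (c j)
  have hz : vProj W' n z ∈ Submodule.span (LSec 𝔛 h W' n)
      (Set.range fun k => vProj W' n (wRes (hW''.trans (hV j)) (r k))) := by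
    refine mem_span_pi_of_locally (FFormal7.isAffineOpen_lvU 𝔛 h hW' n) _ _ fun y' hy' => ?_
    obtain ⟨O, hO, hyO, hm⟩ := ha n j y' (lvU_mono hW'' n hy')
    refine ⟨O ⊓ 𝔛.lvU h n W', inf_le_right, ⟨hyO, hy'⟩, ?_⟩
    have h1 := vRes_mem_span (inf_le_left : O ⊓ 𝔛.lvU h n W' ≤ O) _ hm
    simp only [vRes_vRes] at h1
    show vRes (inf_le_right : O ⊓ 𝔛.lvU h n W' ≤ _) (vProj W' n z) ∈
      Submodule.span _ (Set.range fun k => vRes (inf_le_right : O ⊓ 𝔛.lvU h n W' ≤ _) (vProj W' n (wRes _ (r k))))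
    simp only [vProj_wRes, vRes_vRes]
    refine Eq.subst (motive := fun v => v ∈ _) ?_ h1
    funext i
    simp only [z, vProj_sub, vProj_wRes, Pi.sub_apply, vRes, map_sub, ← ConcreteCategory.comp_apply, ← Functor.map_comp,
      ← op_comp, homOfLE_comp]
  obtain ⟨t, ht, hzt⟩ := exists_span_of_proj hN hW' n _ z hz
  refine ⟨t - wRes (hW''.trans (hV j)) (∑ m ∈ Finset.range n, s m), sub_mem ht ?_, fun i => ?_⟩
  · have : ∀ x ∈ Submodule.span (Sec 𝔛 h W) (Set.range r), wRes (hW''.trans (hV j)) x ∈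
        Submodule.span (Sec 𝔛 h W') (Set.range fun k => wRes (hW''.trans (hV j)) (r k)) := by
      intro x hx
      refine Submodule.span_induction ?_ ?_ ?_ ?_ hx
      · rintro _ ⟨k, rfl⟩
        exact Submodule.subset_span ⟨k, rfl⟩
      · rw [show wRes (hW''.trans (hV j)) (0 : ι → Sec 𝔛 h W) = 0 from funext fun i => map_zero _]
        exact zero_mem _
      · intro x y _ _ hx hy
        rw [show wRes (hW''.trans (hV j)) (x + y) = wRes _ x + wRes _ y from funext fun i => map_add _ _ _]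
        exact add_mem hx hy
      · intro c x _ hx
        rw [show wRes (hW''.trans (hV j)) (c • x) = rRes (hW''.trans (hV j)) c • wRes _ x from
          funext fun i => map_mul _ _ _]
        exact Submodule.smul_mem _ _ hx
    exact this _ (Submodule.sum_mem _ fun m _ => hs m)
  · have h1 := Ideal.pow_le_pow_right (Nat.le_succ n) (hzt i)
    have h2 : rRes (hW''.trans (hV j)) (L i - a' n i) ∈ secIdeal 𝔛 h W' ^ n := by
      have hmap : (secIdeal 𝔛 h W).map (rRes (hW''.trans (hV j))) ≤ secIdeal 𝔛 h W' :=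
        Ideal.map_le_iff_le_comap.2 fun x hx => RingHom.mem_ker.2
          ((proj_res h W (hW''.trans (hV j)) 0 x).trans ((congrArg _ hx).trans (map_zero _)))
      have := Ideal.mem_map_of_mem (rRes (hW''.trans (hV j))) (neg_mem (hL i n))
      rw [Ideal.map_pow] at this
      rw [neg_sub] at this
      exact Ideal.pow_right_mono hmap n this
    convert add_mem h1 h2 using 1
    simp only [z, a', Pi.sub_apply, wRes, Finset.sum_apply, map_sub]
    ring

end GrothLib.FCat7
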