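import Groth.Agent.Lib.FMod7.QLoc

/-!
# Gluing classes of vectors of functions modulo given vectors over an affine open of a scheme
-/

set_option autoImplicit false
set_option linter.style.haveILetI false
set_option linter.unusedSectionVars false
universe u

open CategoryTheory CategoryTheory.Limits AlgebraicGeometry Opposite TopologicalSpace

noncomputable section

namespace GrothLib.FCat7

open GrothLib.FMod7

variable {X : Scheme.{u}}

/-- Restriction of a vector of functions. -/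
abbrev vRes {U V : X.Opens} {ι : Type*} (h : V ≤ U) (a : ι → Γ(X, U)) : ι → Γ(X, V) :=
  fun i => X.presheaf.map (homOfLE h).op (a i)

theorem vRes_vRes {U V W : X.Opens} {ι : Type*} (h : V ≤ U) (h' : W ≤ V) (a : ι → Γ(X, U)) :
    vRes h' (vRes h a) = vRes (h'.trans h) a :=
  funext fun _ => (ConcreteCategory.congr_hom (X.presheaf.map_comp (homOfLE h).op (homOfLE h').op) _).symm

/-- Membership in a span restricts. -/
theorem vRes_mem_span {U V : X.Opens} {ι κ : Type*} (h : V ≤ U) (r : κ → ι → Γ(X, U)) {a : ι → Γ(X, U)}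
    (ha : a ∈ Submodule.span Γ(X, U) (Set.range r)) :
    vRes h a ∈ Submodule.span Γ(X, V) (Set.range fun k => vRes h (r k)) := by
  refine Submodule.span_induction ?_ ?_ ?_ ?_ ha
  · rintro _ ⟨k, rfl⟩
    exact Submodule.subset_span ⟨k, rfl⟩
  · rw [show vRes h (0 : ι → Γ(X, U)) = 0 from funext fun i => map_zero _]
    exact zero_mem _
  · intro x y _ _ hx hy
    convert add_mem hx hy using 1
    exact funext fun i => map_add _ _ _
  · intro c x _ hx
    convert Submodule.smul_mem _ (X.presheaf.map (homOfLE h).op c) hx using 1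
    exact funext fun i => map_mul _ _ _

/-- Denominators are cleared in spans of vectors. -/
theorem exists_pow_smul_mem {V : X.Opens} (hV : IsAffineOpen V) {ι κ : Type u} [Fintype ι] [Fintype κ]
    (f : Γ(X, V)) (r : κ → ι → Γ(X, V)) (z : ι → Γ(X, V))
    (hz : vRes (X.basicOpen_le f) z ∈ Submodule.span Γ(X, X.basicOpen f)
      (Set.range fun k => vRes (X.basicOpen_le f) (r k))) :
    ∃ m : ℕ, f ^ m • z ∈ Submodule.span Γ(X, V) (Set.range r) := by
  classical
  haveI := hV.isLocalization_basicOpen f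
  obtain ⟨c, hc⟩ := (Submodule.mem_span_range_iff_exists_fun _).1 hz
  obtain ⟨⟨_, p, rfl⟩, hw⟩ := IsLocalization.exist_integer_multiples_of_finite (Submonoid.powers f) c
  choose b hb using hw
  have hb' : ∀ k, X.presheaf.map (homOfLE (X.basicOpen_le f)).op (b k) =
      X.presheaf.map (homOfLE (X.basicOpen_le f)).op (f ^ p) * c k := hb
  have hker : ∀ i, ∃ q : ℕ, f ^ q * (f ^ p * z i) = f ^ q * ∑ k, b k * r k i := by
    intro i
    obtain ⟨⟨_, q, rfl⟩, hq⟩ := (IsLocalization.eq_iff_exists (Submonoid.powers f) Γ(X, X.basicOpen f)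
      (x := f ^ p * z i) (y := ∑ k, b k * r k i)).1 (by
      show X.presheaf.map (homOfLE (X.basicOpen_le f)).op _ = X.presheaf.map (homOfLE (X.basicOpen_le f)).op _
      rw [map_mul, map_sum, ← show _ = X.presheaf.map (homOfLE (X.basicOpen_le f)).op (z i) from congrFun hc i,
        Finset.sum_apply, Finset.mul_sum]
      refine Finset.sum_congr rfl fun k _ => ?_
      rw [Pi.smul_apply, smul_eq_mul, map_mul, hb', mul_assoc])
    exact ⟨q, hq⟩
  choose q hq using hker
  let Q := Finset.univ.sup q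
  refine ⟨Q + p, ?_⟩
  have e : f ^ (Q + p) • z = f ^ Q • ∑ k, b k • r k := by
    funext i
    obtain ⟨d, hd⟩ := Nat.exists_eq_add_of_le (Finset.le_sup (f := q) (Finset.mem_univ i))
    simp only [Pi.smul_apply, smul_eq_mul, Finset.sum_apply]
    rw [pow_add, show f ^ Q = f ^ d * f ^ q i by rw [← pow_add, add_comm, ← hd], mul_assoc, mul_assoc, hq i,
      mul_assoc]
  rw [e]
  exact Submodule.smul_mem _ _ (Submodule.sum_mem _ fun k _ => Submodule.smul_mem _ _ (Submodule.subset_span ⟨k, rfl⟩))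

set_option maxHeartbeats 800000 in
/-- Classes of vectors modulo given vectors glue over an affine open. -/
theorem exists_glue_mod {V : X.Opens} (hV : IsAffineOpen V) {ι κ : Type u} [Fintype ι] [Fintype κ]
    (r : κ → ι → Γ(X, V)) {J : Type u} (W : J → X.Opens) (hW : ∀ j, W j ≤ V) (hcov : ∀ y ∈ V, ∃ j, y ∈ W j)
    (c : ∀ j, ι → Γ(X, W j))
    (hcomp : ∀ j j', ∀ y ∈ W j, y ∈ W j' → ∃ (W' : X.Opens) (h : W' ≤ W j) (h' : W' ≤ W j'), y ∈ W' ∧
      vRes h (c j) - vRes h' (c j') ∈ Submodule.span Γ(X, W') (Set.range fun k => vRes (h.trans (hW j)) (r k))) :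
    ∃ a : ι → Γ(X, V), ∀ j, ∀ y ∈ W j, ∃ (W' : X.Opens) (h : W' ≤ W j), y ∈ W' ∧
      vRes (h.trans (hW j)) a - vRes h (c j) ∈
        Submodule.span Γ(X, W') (Set.range fun k => vRes (h.trans (hW j)) (r k)) := by
  classical
  choose jy hjy using fun y : V => hcov y y.2
  choose fy hfy hyfy using fun y : V => hV.exists_basicOpen_le (V := W (jy y)) ⟨y.1, hjy y⟩ y.2
  obtain ⟨t, ht⟩ := hV.isCompact.elim_finite_subcover (fun y : V => (X.basicOpen (fy y) : Set X))
    (fun y => (X.basicOpen (fy y)).2) fun y hy => Set.mem_iUnion.2 ⟨⟨y, hy⟩, hyfy _⟩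
  have hden : ∀ a : t, ∃ (g : Γ(X, V)) (b : ι → Γ(X, V)), (∃ p : ℕ, g = fy a.1 ^ p) ∧
      ∀ i, X.presheaf.map (homOfLE (X.basicOpen_le (fy a.1))).op (b i) =
        X.presheaf.map (homOfLE (X.basicOpen_le (fy a.1))).op g *
          X.presheaf.map (homOfLE (hfy a.1)).op (c (jy a.1) i) := by
    intro a
    haveI := hV.isLocalization_basicOpen (fy a.1)
    obtain ⟨⟨_, p, rfl⟩, hw⟩ := IsLocalization.exist_integer_multiples_of_finite (Submonoid.powers (fy a.1))
      (fun i => X.presheaf.map (homOfLE (hfy a.1)).op (c (jy a.1) i))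
    choose b hb using hw
    exact ⟨_, b, ⟨p, rfl⟩, hb⟩
  choose g b hg hgb using hden
  let D : t → X.Opens := fun a => X.basicOpen (fy a.1)
  have hpair : ∀ a a' : t, ∃ m : ℕ, (fy a.1 * fy a'.1) ^ m • (g a' • b a - g a • b a') ∈
      Submodule.span Γ(X, V) (Set.range r) := by
    intro a a'
    have hD : X.basicOpen (fy a.1 * fy a'.1) ≤ V := X.basicOpen_le _
    have h1 : X.basicOpen (fy a.1 * fy a'.1) ≤ D a := by rw [X.basicOpen_mul]; exact inf_le_left
    have h2 : X.basicOpen (fy a.1 * fy a'.1) ≤ D a' := by rw [X.basicOpen_mul]; exact inf_le_right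
    refine exists_pow_smul_mem hV _ r _ (mem_span_pi_of_locally (hV.basicOpen _) _ _ fun y hy => ?_)
    obtain ⟨W', hW1, hW2, hyW', hm⟩ := hcomp (jy a.1) (jy a'.1) y (hfy _ (h1 hy)) (hfy _ (h2 hy))
    let W'' : X.Opens := W' ⊓ X.basicOpen (fy a.1 * fy a'.1)
    have hl : W'' ≤ W' := inf_le_left
    have hr : W'' ≤ X.basicOpen (fy a.1 * fy a'.1) := inf_le_right
    refine ⟨W'', hr, ⟨hyW', hy⟩, ?_⟩
    have e : (fun i => X.presheaf.map (homOfLE hr).op (vRes (X.basicOpen_le _) (g a' • b a - g a • b a') i)) =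
        X.presheaf.map (homOfLE (hr.trans hD)).op (g a * g a') •
          vRes hl (vRes hW1 (c (jy a.1)) - vRes hW2 (c (jy a'.1))) := by
      funext i
      have ea := congrArg (fun z => X.presheaf.map (homOfLE (hr.trans h1)).op z) (hgb a i)
      have ea' := congrArg (fun z => X.presheaf.map (homOfLE (hr.trans h2)).op z) (hgb a' i)
      simp only [map_mul, ← ConcreteCategory.comp_apply, ← Functor.map_comp, ← op_comp, homOfLE_comp] at ea ea'
      simp only [Pi.sub_apply, Pi.smul_apply, smul_eq_mul, map_sub, map_mul, vRes, ← ConcreteCategory.comp_apply,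
        ← Functor.map_comp, ← op_comp, homOfLE_comp, ea, ea']
      ring
    rw [e]
    refine Submodule.smul_mem _ _ (Submodule.span_mono ?_ (vRes_mem_span hl _ hm))
    rintro _ ⟨k, rfl⟩
    exact ⟨k, ((vRes_vRes (hD) hr (r k))).trans (vRes_vRes (hW1.trans (hW _)) hl (r k)).symm⟩
  choose M hM using hpair
  let N := Finset.univ.sup fun p : t × t => M p.1 p.2
  let g' : t → Γ(X, V) := fun a => fy a.1 ^ N * g a
  let b' : t → ι → Γ(X, V) := fun a => fy a.1 ^ N • b a
  have hR : ∀ a a', g' a' • b' a - g' a • b' a' ∈ Submodule.span Γ(X, V) (Set.range r) := by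
    intro a a'
    obtain ⟨d, hd⟩ := Nat.exists_eq_add_of_le (Finset.le_sup (f := fun p : t × t => M p.1 p.2)
      (Finset.mem_univ (a, a')))
    have : g' a' • b' a - g' a • b' a' =
        (fy a.1 * fy a'.1) ^ d • ((fy a.1 * fy a'.1) ^ M a a' • (g a' • b a - g a • b a')) := by
      have hN : N = M a a' + d := hd
      funext i
      simp only [g', b', hN, Pi.sub_apply, Pi.smul_apply, smul_eq_mul]
      ring
    rw [this]
    exact Submodule.smul_mem _ _ (hM a a')
  have hunit : ∀ a, IsUnit (X.presheaf.map (homOfLE (X.basicOpen_le (fy a.1))).op (g' a)) := by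
    intro a
    obtain ⟨p, hp⟩ := hg a
    haveI := hV.isLocalization_basicOpen (fy a.1)
    have : g' a = fy a.1 ^ (N + p) := by rw [pow_add, ← hp]
    rw [this, map_pow]
    exact (IsLocalization.Away.algebraMap_isUnit (fy a.1) (S := Γ(X, X.basicOpen (fy a.1)))).pow _
  have htop : Ideal.span (Set.range g') = ⊤ := by
    rw [← hV.self_le_iSup_basicOpen_iff]
    intro y hy
    obtain ⟨z, hz, hyz⟩ := Set.mem_iUnion₂.1 (ht hy)
    refine Opens.mem_iSup.2 ⟨⟨g' ⟨z, hz⟩, ⟨⟨z, hz⟩, rfl⟩⟩, ?_⟩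
    show y ∈ X.basicOpen (g' ⟨z, hz⟩)
    refine (Scheme.mem_basicOpen'' _ _ y).2 ⟨hy, ?_⟩
    rw [← TopCat.Presheaf.germ_res_apply X.presheaf (homOfLE (X.basicOpen_le (fy z))) y hyz]
    exact (hunit ⟨z, hz⟩).map _
  obtain ⟨u, hu⟩ := (Ideal.mem_span_range_iff_exists_fun).1 (htop.symm ▸ Submodule.mem_top :
    (1 : Γ(X, V)) ∈ Ideal.span (Set.range g'))
  let A : ι → Γ(X, V) := ∑ a, u a • b' a
  have hA : ∀ a, g' a • A - b' a ∈ Submodule.span Γ(X, V) (Set.range r) := by
    intro a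
    have : g' a • A - b' a = ∑ a', u a' • (g' a • b' a' - g' a' • b' a) := by
      simp only [A, smul_sub, Finset.sum_sub_distrib, Finset.smul_sum]
      congr 1
      · exact Finset.sum_congr rfl fun a' _ => smul_comm _ _ _
      · simp only [smul_smul, ← Finset.sum_smul]
        rw [hu, one_smul]
    rw [this]
    exact Submodule.sum_mem _ fun a' _ => Submodule.smul_mem _ _ (hR a' a)
  refine ⟨A, fun j y hy => ?_⟩
  obtain ⟨z, hz, hyz⟩ := Set.mem_iUnion₂.1 (ht (hW j hy))
  obtain ⟨W', hW1, hW2, hyW', hm⟩ := hcomp (jy z) j y (hfy z hyz) hy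
  let W'' : X.Opens := W' ⊓ X.basicOpen (fy z)
  have hl : W'' ≤ W' := inf_le_left
  have hr : W'' ≤ X.basicOpen (fy z) := inf_le_right
  refine ⟨W'', hl.trans hW2, ⟨hyW', hyz⟩, ?_⟩
  have hgu := (hunit ⟨z, hz⟩).map (X.presheaf.map (homOfLE hr).op).hom
  obtain ⟨v, hv⟩ := hgu
  have e1 : vRes ((hl.trans hW2).trans (hW j)) A - vRes (hl.trans hW2) (c j) =
      (↑v⁻¹ : Γ(X, W'')) • vRes ((hl.trans hW2).trans (hW j)) (g' ⟨z, hz⟩ • A - b' ⟨z, hz⟩) +
        vRes hl (vRes hW1 (c (jy z)) - vRes hW2 (c j)) := by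
    funext i
    have ea := congrArg (fun w => X.presheaf.map (homOfLE hr).op w) (hgb ⟨z, hz⟩ i)
    simp only [g', map_mul, map_pow, ← ConcreteCategory.comp_apply, ← Functor.map_comp, ← op_comp, homOfLE_comp]
      at ea hv
    simp only [Pi.add_apply, Pi.sub_apply, Pi.smul_apply, smul_eq_mul, map_sub, map_mul, map_pow, vRes, g', b',
      ← ConcreteCategory.comp_apply, ← Functor.map_comp, ← op_comp, homOfLE_comp, ea]
    have hvv := v.inv_mul
    rw [hv] at hvv
    linear_combination -(X.presheaf.map (homOfLE ((hl.trans hW2).trans (hW j))).op (A i) -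
      X.presheaf.map (homOfLE (hr.trans (hfy z))).op (c (jy z) i)) * hvv
  rw [e1]
  refine add_mem (Submodule.smul_mem _ _ ?_) (Submodule.span_mono ?_ (vRes_mem_span hl _ hm))
  · exact vRes_mem_span _ r (hA ⟨z, hz⟩)
  · rintro _ ⟨k, rfl⟩
    exact ⟨k, (vRes_vRes (hW1.trans (hW _)) hl (r k)).symm⟩

end GrothLib.FCat7
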