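import Groth.Agent.Lib.FCat7.IndQC
import Mathlib.CategoryTheory.Limits.Constructions.Filtered
import Mathlib.CategoryTheory.Abelian.Images
import Mathlib.CategoryTheory.Limits.Shapes.Biproducts

/-!
# Ind-coherent modules: quotients, coproducts and colimits
-/

set_option autoImplicit false
set_option linter.style.haveILetI false
set_option linter.unusedSectionVars false
universe u

open CategoryTheory CategoryTheory.Limits AlgebraicGeometry TopologicalSpace Opposite

noncomputable section

namespace GrothLib.FCat7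

open GrothLib.FMod7

section Abstract

variable {C : Type*} [Category C] [Abelian C] {P M : C} {J : Type*} [Category J] (pres : ColimitPresentation J P)
  (q : P ⟶ M)

/-- The coimages of the stages in a quotient. -/
def coimageDiag : J ⥤ C where
  obj j := Abelian.coimage (pres.ι.app j ≫ q)
  map {j k} f := cokernel.desc _ (pres.diag.map f ≫ Abelian.coimage.π (pres.ι.app k ≫ q)) (by
    refine zero_of_comp_mono (Abelian.factorThruCoimage (pres.ι.app k ≫ q)) ?_
    simp only [Category.assoc, Abelian.coimage.fac]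
    rw [pres.w_assoc f, kernel.condition])
  map_id j := by
    refine (cancel_epi (Abelian.coimage.π (pres.ι.app j ≫ q))).1 ?_
    simp
  map_comp {j k l} f g := by
    refine (cancel_epi (Abelian.coimage.π (pres.ι.app j ≫ q))).1 ?_
    simp

theorem π_coimageDiag_map {j k : J} (f : j ⟶ k) :
    Abelian.coimage.π (pres.ι.app j ≫ q) ≫ (coimageDiag pres q).map f =
      pres.diag.map f ≫ Abelian.coimage.π (pres.ι.app k ≫ q) :=
  cokernel.π_desc _ _ _

theorem π_coimageDiag_map' {j k : J} (f : j ⟶ k) {Z : C} (g : Abelian.coimage (pres.ι.app k ≫ q) ⟶ Z) :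
    Abelian.coimage.π (pres.ι.app j ≫ q) ≫ (coimageDiag pres q).map f ≫ g =
      pres.diag.map f ≫ Abelian.coimage.π (pres.ι.app k ≫ q) ≫ g :=
  (Category.assoc _ _ _).symm.trans ((π_coimageDiag_map pres q f =≫ g).trans (Category.assoc _ _ _))

/-- The coimages of the stages map to the quotient. -/
def coimageCocone : Cocone (coimageDiag pres q) where
  pt := M
  ι :=
    { app := fun j => Abelian.factorThruCoimage (pres.ι.app j ≫ q)
      naturality := fun j k f => by
        show (coimageDiag pres q).map f ≫ Abelian.factorThruCoimage (pres.ι.app k ≫ q) =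
          Abelian.factorThruCoimage (pres.ι.app j ≫ q) ≫ 𝟙 M
        refine (cancel_epi (Abelian.coimage.π (pres.ι.app j ≫ q))).1 ?_
        refine (π_coimageDiag_map' pres q f (Abelian.factorThruCoimage (pres.ι.app k ≫ q))).trans ?_
        refine ((pres.diag.map f ≫= Abelian.coimage.fac _).trans (pres.w_assoc f q)).trans ?_
        exact ((Abelian.coimage.π _ ≫= Category.comp_id _).trans (Abelian.coimage.fac _)).symm }

/-- The colimit of the coimages of the stages. -/
def coimagePres [Epi q] (hkill : ∀ {Z : C} (d : P ⟶ Z),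
    (∀ j, kernel.ι (pres.ι.app j ≫ q) ≫ pres.ι.app j ≫ d = 0) → kernel.ι q ≫ d = 0) :
    ColimitPresentation J M where
  diag := coimageDiag pres q
  ι := (coimageCocone pres q).ι
  isColimit :=
    have hex : ∀ s : Cocone (coimageDiag pres q), ∃ d : M ⟶ s.pt,
        ∀ j, Abelian.factorThruCoimage (pres.ι.app j ≫ q) ≫ d = s.ι.app j := fun s => by
      let sP : Cocone pres.diag :=
        { pt := s.pt
          ι :=
            { app := fun j => Abelian.coimage.π (pres.ι.app j ≫ q) ≫ s.ι.app j
              naturality := fun j k f => by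
                show pres.diag.map f ≫ Abelian.coimage.π (pres.ι.app k ≫ q) ≫ s.ι.app k =
                  (Abelian.coimage.π (pres.ι.app j ≫ q) ≫ s.ι.app j) ≫ 𝟙 s.pt
                refine Eq.trans ?_ (Category.comp_id _).symm
                refine (π_coimageDiag_map' pres q f (s.ι.app k)).symm.trans ?_
                exact congrArg _ (s.w f) } }
      have h0 : kernel.ι q ≫ pres.isColimit.desc sP = 0 := hkill _ fun j => by
        have e := pres.isColimit.fac sP j
        have e' : pres.ι.app j ≫ pres.isColimit.desc sP = Abelian.coimage.π (pres.ι.app j ≫ q) ≫ s.ι.app j := e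
        rw [e']
        exact cokernel.condition_assoc _ _ |>.trans zero_comp
      refine ⟨Abelian.epiDesc q _ h0, fun j => ?_⟩
      refine (cancel_epi (Abelian.coimage.π (pres.ι.app j ≫ q))).1 ?_
      rw [← Category.assoc, Abelian.coimage.fac, Category.assoc, Abelian.comp_epiDesc]
      exact pres.isColimit.fac sP j
    { desc := fun s => (hex s).choose
      fac := fun s j => (hex s).choose_spec j
      uniq := fun s m hm => by
        refine (cancel_epi q).1 (pres.isColimit.hom_ext fun j => ?_)
        show pres.ι.app j ≫ q ≫ m = pres.ι.app j ≫ q ≫ (hex s).choose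
        have hm' : Abelian.factorThruCoimage (pres.ι.app j ≫ q) ≫ m = s.ι.app j := hm j
        rw [← Category.assoc, ← Category.assoc, ← Abelian.coimage.fac (pres.ι.app j ≫ q), Category.assoc,
          Category.assoc, (hex s).choose_spec j, hm'] }

end Abstract

variable {𝔛 : FSch.Sys.{u}} {h : 𝔛.IsFormal} (hN : 𝔛.IsLocNoethFormal)
include hN

theorem exists_affine_mem {p : 𝔛.X 0} {U : (𝔛.X 0).Opens} (hp : p ∈ U) :
    ∃ W : (𝔛.X 0).Opens, IsAffineOpen W ∧ p ∈ W ∧ W ≤ U := by
  obtain ⟨W, hW, hpW, hWU⟩ := exists_isAffineOpen_mem_and_subset (x := p) (U := U) hp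
  exact ⟨W, hW, hpW, hWU⟩

/-- The coimage of a map from a coherent to a quasi-coherent module is coherent. -/
theorem isCohF_coimage {F M : FSch.ModF 𝔛 h} [FSch.IsCohF 𝔛 h F] [SheafOfModules.IsQuasicoherent.{u} M]
    (φ : F ⟶ M) : FSch.IsCohF 𝔛 h (Abelian.coimage φ) := by
  haveI : SheafOfModules.IsQuasicoherent.{u} (kernel φ) := isQuasicoherent_of_isQC fun p => by
    obtain ⟨W, hW, hp, -, hM⟩ := exists_isQC hN M (U := ⊤) (p := p) trivial
    exact ⟨W, hp, (isQC_of_isCohF hN hW).kernel φ hM⟩
  haveI := isCohF_of_mono hN (kernel.ι φ)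
  exact isCohF_cokernel hN (kernel.ι φ)

section Quot

variable {P M : FSch.ModF 𝔛 h} {J : Type u} [SmallCategory J] [IsFiltered J] (pres : ColimitPresentation J P)
  (q : P ⟶ M) [Epi q]

/-- Maps out of the stages that kill the kernels kill the kernel of the colimit. -/
theorem kill_kernel {Z : FSch.ModF 𝔛 h} (d : P ⟶ Z)
    (hd : ∀ j, kernel.ι (pres.ι.app j ≫ q) ≫ pres.ι.app j ≫ d = 0) : kernel.ι q ≫ d = 0 :=
  hom_ext_basis fun U hU z => by
    obtain ⟨j, x, hx⟩ := colim_gen hN pres.isColimit hU.isCompact (sHom (kernel.ι q) U z)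
    have hx0 : sHom (pres.ι.app j ≫ q) U x = 0 :=
      (congrArg (sHom q U) hx).trans (sHom_eq_zero (kernel.condition q) U z)
    obtain ⟨x', hx'⟩ := exists_kernel_sect (pres.ι.app j ≫ q) U x hx0
    show sHom d U (sHom (kernel.ι q) U z) = 0
    rw [← hx, ← hx']
    exact sHom_eq_zero (hd j) U x'

include q in
/-- A quasi-coherent quotient of a filtered colimit of coherent modules is the union of coherent submodules. -/
theorem exists_mono_presentation [SheafOfModules.IsQuasicoherent.{u} M]
    (hp : ∀ j, FSch.IsCohF 𝔛 h (pres.diag.obj j)) :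
    ∃ (p : ColimitPresentation J M), (∀ j, FSch.IsCohF 𝔛 h (p.diag.obj j)) ∧ ∀ j, Mono (p.ι.app j) :=
  ⟨coimagePres pres q fun d hd => kill_kernel hN pres q d hd, fun j => (haveI := hp j; isCohF_coimage hN (pres.ι.app j ≫ q)),
    fun j => inferInstanceAs (Mono (Abelian.factorThruCoimage (pres.ι.app j ≫ q)))⟩

end Quot

/-- A quasi-coherent quotient of an ind-coherent module is ind-coherent. -/
theorem ind_of_epi {P M : FSch.ModF 𝔛 h}
    (hP : (ObjectProperty.ind.{u} fun G : FSch.ModF 𝔛 h => FSch.IsCohF 𝔛 h G) P)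
    [SheafOfModules.IsQuasicoherent.{u} M] (q : P ⟶ M) [Epi q] :
    (ObjectProperty.ind.{u} fun G : FSch.ModF 𝔛 h => FSch.IsCohF 𝔛 h G) M := by
  obtain ⟨J, _, _, pres, hp⟩ := hP
  obtain ⟨p, hp', -⟩ := exists_mono_presentation hN pres q hp
  exact ⟨J, inferInstance, inferInstance, p, hp'⟩

/-- Simultaneous relations in several coherent modules. -/
theorem relations_multi {I : Type u} {G : I → FSch.ModF 𝔛 h} (hG : ∀ i, FSch.IsCohF 𝔛 h (G i))
    {U V : (𝔛.X 0).Opens} (hU : IsAffineOpen U) (hV : IsAffineOpen V) (hVU : V ≤ U) {n : ℕ}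
    (m : ∀ i, Fin n → ModSite.sect (G i) U) : ∀ (S : Finset I) (y : Fin n → Sec 𝔛 h V),
      (∀ i ∈ S, ∑ k, y k • sres (G i) hVU (m i k) = 0) →
      y ∈ Submodule.span (Sec 𝔛 h V) ((fun b : Fin n → Sec 𝔛 h U => fun k => rRes hVU (b k)) ''
        {b | ∀ i ∈ S, ∑ k, b k • m i k = 0}) := by
  classical
  intro S
  induction S using Finset.induction_on with
  | empty =>
    intro y _
    rw [pi_eq_sum_univ' y]
    refine Submodule.sum_mem _ fun k _ => Submodule.smul_mem _ _ (Submodule.subset_span
      ⟨Pi.single k 1, fun i hi => absurd hi (Finset.notMem_empty i), funext fun j => ?_⟩)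
    simp only [Pi.single_apply]
    split <;> simp
  | insert i₀ S hi₀ ih =>
    intro y hy
    haveI := isNoetherianRing_Sec (h := h) hN hU
    haveI := hG i₀
    let B : Submodule (Sec 𝔛 h U) (Fin n → Sec 𝔛 h U) :=
      ⨅ i ∈ S, LinearMap.ker (Fintype.linearCombination (Sec 𝔛 h U) (m i))
    have hB : ∀ b, b ∈ B ↔ ∀ i ∈ S, ∑ k, b k • m i k = 0 := fun b => by
      simp [B, Submodule.mem_iInf, Fintype.linearCombination_apply]
    obtain ⟨l, a, ha⟩ := Submodule.fg_iff_exists_fin_generating_family.1 (IsNoetherian.noetherian B)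
    have ha0 : ∀ j, ∀ i ∈ S, ∑ k, a j k • m i k = 0 := fun j =>
      (hB _).1 (ha ▸ Submodule.subset_span ⟨j, rfl⟩)
    have hd1 : y ∈ Submodule.span (Sec 𝔛 h V) (Set.range fun j k => rRes hVU (a j k)) := by
      refine Submodule.span_le.2 ?_ (ih y fun i hi => hy i (Finset.mem_insert_of_mem hi))
      rintro _ ⟨b, hb, rfl⟩
      have hb' : b ∈ Submodule.span (Sec 𝔛 h U) (Set.range a) := ha.symm ▸ (hB b).2 hb
      exact wRes_mem_span hVU a hb'
    obtain ⟨u, hu⟩ := (Submodule.mem_span_range_iff_exists_fun _).1 hd1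
    have hu0 : ∑ j, u j • sres (G i₀) hVU (∑ k, a j k • m i₀ k) = 0 := by
      refine Eq.trans ?_ (hy i₀ (Finset.mem_insert_self _ _))
      simp only [sres_comb, Finset.smul_sum, smul_smul]
      rw [Finset.sum_comm]
      refine Finset.sum_congr rfl fun k _ => ?_
      rw [← Finset.sum_smul, ← congrFun hu k, Finset.sum_apply]
      rfl
    have key := relations_sres' hN hU hV hVU (fun j => ∑ k, a j k • m i₀ k) u hu0
    rw [← hu]
    let L : (Fin l → Sec 𝔛 h V) →ₗ[Sec 𝔛 h V] Fin n → Sec 𝔛 h V :=
      Fintype.linearCombination (Sec 𝔛 h V) fun j k => rRes hVU (a j k)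
    show L u ∈ _
    refine Submodule.span_le.2 ?_ (Submodule.map_span L _ ▸ Submodule.mem_map_of_mem (f := L) key)
    rintro _ ⟨_, ⟨c, hc, rfl⟩, rfl⟩
    refine Submodule.subset_span ⟨fun k => ∑ j, c j * a j k, fun i hi => ?_, ?_⟩
    · simp only [Finset.sum_smul, mul_smul]
      rw [Finset.sum_comm]
      rcases Finset.mem_insert.1 hi with rfl | hi
      · simp only [← Finset.smul_sum]
        exact hc
      · exact Finset.sum_eq_zero fun j _ => by rw [← Finset.smul_sum, ha0 j i hi, smul_zero]
    · funext k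
      simp [L, Fintype.linearCombination_apply, Finset.sum_apply, map_sum]

/-- A finite coproduct of coherent modules is coherent. -/
theorem isCohF_sigma {I : Type u} [Finite I] (G : I → FSch.ModF 𝔛 h) (hG : ∀ i, FSch.IsCohF 𝔛 h (G i)) :
    FSch.IsCohF 𝔛 h (∐ G) := by
  classical
  haveI : HasFiniteBiproducts (FSch.ModF 𝔛 h) := Abelian.hasFiniteBiproducts
  letI := Fintype.ofFinite I
  haveI : SheafOfModules.IsFinitePresentation.{u} (∐ G) := by
    suffices H : FSch.IsCohF 𝔛 h (⨁ G) by
      exact (SheafOfModules.isFinitePresentation.{u} (ModSite.ringSh (𝔛.Osh h))).prop_of_iso (biproduct.isoCoproduct G) H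
    refine isCohF_of_presentations fun p => ?_
    obtain ⟨U, hU, hpU, -⟩ := exists_affine_mem hN (p := p) (U := (⊤ : (𝔛.X 0).Opens)) trivial
    refine ⟨U, hpU, ?_⟩
    have hfg : ∀ i, ∃ (n : ℕ) (g : Fin n → ModSite.sect (G i) U),
        Submodule.span (Sec 𝔛 h U) (Set.range g) = ⊤ := fun i => by
      haveI := hG i
      haveI := moduleFinite_sect (F := G i) hN hU
      exact Submodule.fg_iff_exists_fin_generating_family.1
        (Module.Finite.fg_top (R := Sec 𝔛 h U) (M := ModSite.sect (G i) U))
    choose n g hg using hfg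
    let N := Σ i, Fin (n i)
    let e := Fintype.equivFin N
    let s : Fin (Fintype.card N) → ModSite.sect (⨁ G) U := fun k =>
      sHom (biproduct.ι G (e.symm k).1) U (g _ (e.symm k).2)
    have hdec : ∀ (V : (𝔛.X 0).Opens) (x : ModSite.sect (⨁ G) V),
        x = ∑ i, sHom (biproduct.ι G i) V (sHom (biproduct.π G i) V x) := fun V x => by
      refine Eq.trans ?_ (map_sum (AddMonoidHom.mk' (fun φ : ⨁ G ⟶ ⨁ G => (φ.val.app (op V)).hom x) fun _ _ => rfl)
        (fun i => biproduct.π G i ≫ biproduct.ι G i) Finset.univ)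
      have etot : ∑ i, biproduct.π G i ≫ biproduct.ι G i = 𝟙 (⨁ G) := by
        refine biproduct.hom_ext _ _ fun j => ?_
        rw [Preadditive.sum_comp, Finset.sum_eq_single j
          (fun i _ hij => by rw [Category.assoc, biproduct.ι_π_ne G hij, comp_zero]) (fun hj => absurd (Finset.mem_univ j) hj),
          Category.assoc, biproduct.ι_π_self, Category.comp_id, Category.id_comp]
      exact congrArg (fun φ : ⨁ G ⟶ ⨁ G => (φ.val.app (op V)).hom x) etot.symm
    refine exists_presentation_of_local hN hU s (fun V hV x q hq => ?_) (fun V hV y hy q hq => ?_)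
    · obtain ⟨W, hW, hqW, hWV⟩ := exists_affine_mem hN hq
      refine ⟨W, hWV, hqW, ?_⟩
      rw [hdec W (sres (⨁ G) hWV x)]
      refine Submodule.sum_mem _ fun i _ => ?_
      haveI := hG i
      have hz := (span_sres_eq_top hN hU hW (hWV.trans hV) (hg i)).symm ▸
        (Submodule.mem_top : sHom (biproduct.π G i) W (sres (⨁ G) hWV x) ∈
          (⊤ : Submodule (Sec 𝔛 h W) (ModSite.sect (G i) W)))
      refine Submodule.span_le.2 ?_ (Submodule.map_span (sHom (biproduct.ι G i) W) _ ▸
        Submodule.mem_map_of_mem (f := sHom (biproduct.ι G i) W) hz)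
      rintro _ ⟨_, ⟨l, rfl⟩, rfl⟩
      refine Submodule.subset_span ⟨e ⟨i, l⟩, ?_⟩
      have key : ∀ q : N, q = (⟨i, l⟩ : N) → sres (⨁ G) (hWV.trans hV) (sHom (biproduct.ι G q.1) U (g q.1 q.2)) =
          sHom (biproduct.ι G i) W (sres (G i) (hWV.trans hV) (g i l)) := by
        rintro _ rfl
        exact (sHom_res _ _ _).symm
      exact key _ (e.symm_apply_apply _)
    · obtain ⟨W, hW, hqW, hWV⟩ := exists_affine_mem hN hq
      refine ⟨W, hWV, hqW, ?_⟩
      have hWU := hWV.trans hV
      haveI := isNoetherianRing_Sec (h := h) hN hU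
      have h0 : ∀ i, ∑ k, wRes hWV y k • sres (G i) hWU (sHom (biproduct.π G i) U (s k)) = 0 := fun i => by
        have h1 := congrArg (sHom (biproduct.π G i) W) (congrArg (sres (⨁ G) hWV) hy)
        rw [sres_comb, map_sum] at h1
        refine Eq.trans (Finset.sum_congr rfl fun k _ => ?_)
          (h1.trans ((congrArg (sHom (biproduct.π G i) W) (map_zero ((⨁ G).val.map (homOfLE hWV).op).hom)).trans
            (map_zero _)))
        rw [map_smul, sres_sres, sHom_res]
      refine Submodule.span_mono (Set.image_mono fun b hb => ?_)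
        (relations_multi hN hG hU hW hWU (fun i k => sHom (biproduct.π G i) U (s k)) Finset.univ _ fun i _ => h0 i)
      show ∑ k, b k • s k = 0
      rw [hdec U (∑ k, b k • s k)]
      refine Finset.sum_eq_zero fun i _ => ?_
      rw [map_sum, show ∑ k, sHom (biproduct.π G i) U (b k • s k) = 0 from
        (Finset.sum_congr rfl fun k _ => (sHom (biproduct.π G i) U).map_smul _ _).trans (hb i (Finset.mem_univ i)),
        map_zero]
  exact this

end GrothLib.FCat7
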