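import Groth.Agent.Lib.FCat7.FinPres
import Groth.Agent.Lib.FMod7.Algz
import Groth.Agent.Lib.FMod7.ComplPull
import Groth.Agent.Lib.FMod7.ComplExact
import Groth.Agent.Lib.FFormal7.AlgzSupp
import Groth.Agent.Lib.FunMor20.CohInd
import Groth.Agent.Lib.QCoh.Abelian
import Groth.Agent.S13335
import Groth.Agent.Lib.K0Sub.Dev
import Groth.Agent.S3854

/-!
# Completion is an equivalence between quasi-coherent and ind-coherent modules over a complete base
-/

set_option autoImplicit false
set_option linter.style.haveILetI false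
set_option linter.unusedSectionVars false
universe u v v₁ v₂ w₁ w₂

open CategoryTheory CategoryTheory.Limits AlgebraicGeometry Opposite TopologicalSpace

noncomputable section

namespace GrothLib.FCat7

section Abstract

variable {C : Type w₁} [Category.{v₁} C] {D : Type w₂} [Category.{v₂} D] (F : C ⥤ D)
  {J K : Type u} [SmallCategory J] [SmallCategory K] [IsFiltered K]
  {A : J ⥤ C} {a : Cocone A} {B : K ⥤ C} {b : Cocone B}

/-- Fullness and faithfulness on compact objects propagate to their filtered colimits. -/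
theorem map_bijective_of_colim (ha : IsColimit a) (hFa : IsColimit (F.mapCocone a))
    (hbij : ∀ j k, Function.Bijective (fun φ : A.obj j ⟶ B.obj k => F.map φ))
    (stC : ∀ j (φ : A.obj j ⟶ b.pt), ∃ (k : K) (ψ : A.obj j ⟶ B.obj k), ψ ≫ b.ι.app k = φ)
    (stD : ∀ j (φ : F.obj (A.obj j) ⟶ F.obj b.pt),
      ∃ (k : K) (ψ : F.obj (A.obj j) ⟶ F.obj (B.obj k)), ψ ≫ F.map (b.ι.app k) = φ)
    (killD : ∀ j k (g g' : F.obj (A.obj j) ⟶ F.obj (B.obj k)),
      g ≫ F.map (b.ι.app k) = g' ≫ F.map (b.ι.app k) →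
        ∃ (l : K) (f : k ⟶ l), g ≫ F.map (B.map f) = g' ≫ F.map (B.map f)) :
    Function.Bijective (fun φ : a.pt ⟶ b.pt => F.map φ) := by
  have inj : ∀ j (φ φ' : A.obj j ⟶ b.pt), F.map φ = F.map φ' → φ = φ' := by
    intro j φ φ' e
    obtain ⟨k, ψ, rfl⟩ := stC j φ
    obtain ⟨k', ψ', rfl⟩ := stC j φ'
    let s := IsFiltered.leftToMax k k'
    let s' := IsFiltered.rightToMax k k'
    have e' : F.map (ψ ≫ B.map s) ≫ F.map (b.ι.app _) = F.map (ψ' ≫ B.map s') ≫ F.map (b.ι.app _) := by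
      rw [← F.map_comp, ← F.map_comp, Category.assoc, Category.assoc, b.w, b.w]
      exact e
    obtain ⟨l, f, hf⟩ := killD j _ _ _ e'
    rw [← F.map_comp, ← F.map_comp] at hf
    have h2 := (hbij j l).1 hf
    rw [← b.w s, ← b.w s', ← b.w f, ← Category.assoc, ← Category.assoc, ← Category.assoc, ← Category.assoc]
    exact congrArg (· ≫ b.ι.app l) h2
  have surj : ∀ j (ψ : F.obj (A.obj j) ⟶ F.obj b.pt), ∃ φ : A.obj j ⟶ b.pt, F.map φ = ψ := by
    intro j ψ
    obtain ⟨k, χ, rfl⟩ := stD j ψ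
    obtain ⟨φ, hφ⟩ := (hbij j k).2 χ
    exact ⟨φ ≫ b.ι.app k, by rw [F.map_comp]; exact congrArg (· ≫ F.map (b.ι.app k)) hφ⟩
  refine ⟨fun φ φ' e => ha.hom_ext fun j => inj j _ _ ?_, fun ψ => ?_⟩
  · rw [F.map_comp, F.map_comp]
    exact congrArg (F.map (a.ι.app j) ≫ ·) e
  choose χ hχ using fun j => surj j (F.map (a.ι.app j) ≫ ψ)
  let c : Cocone A := ⟨b.pt, ⟨χ, fun i j f => inj i _ _ (by
    simp only [Functor.const_obj_map]
    refine Eq.trans ?_ (congrArg F.map (Category.comp_id _).symm)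
    rw [F.map_comp, hχ, hχ, ← Category.assoc, ← F.map_comp, a.w])⟩⟩
  refine ⟨ha.desc c, hFa.hom_ext fun j => ?_⟩
  change F.map (a.ι.app j) ≫ F.map (ha.desc c) = F.map (a.ι.app j) ≫ ψ
  rw [← F.map_comp, ha.fac, hχ]

/-- A diagram in the essential image of a functor fully faithful on some objects lifts. -/
theorem exists_lift (P : C → Prop) (hP : ∀ X Y, P X → P Y → Function.Bijective (fun φ : X ⟶ Y => F.map φ))
    (E : J ⥤ D) (G : J → C) (hG : ∀ j, P (G j)) (e : ∀ j, F.obj (G j) ≅ E.obj j) :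
    ∃ A : J ⥤ C, (∀ j, P (A.obj j)) ∧ Nonempty (A ⋙ F ≅ E) := by
  choose m hm using fun (i j : J) (f : i ⟶ j) =>
    (hP _ _ (hG i) (hG j)).2 ((e i).hom ≫ E.map f ≫ (e j).inv)
  simp only at hm
  refine ⟨{ obj := G, map := fun {i j} f => m i j f
            map_id := fun i => (hP _ _ (hG i) (hG i)).1 (by simp [hm])
            map_comp := fun {i j l} f g => (hP _ _ (hG i) (hG l)).1 (by simp [hm]) }, hG,
    ⟨NatIso.ofComponents e fun {i j} f => by simp [hm]⟩⟩

/-- A family of maps conjugate to a bijection is bijective. -/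
theorem bijective_of_natural {S : Type*} {D : Type*} [Category D] {a b a' b' : D} (f : S → (a ⟶ b))
    (g : S → (a' ⟶ b')) (ca : a ⟶ a') (cb : b ⟶ b') [IsIso ca] [IsIso cb]
    (hnat : ∀ s, f s ≫ cb = ca ≫ g s) (hg : Function.Bijective g) : Function.Bijective f := by
  refine ⟨fun s t e => hg.1 ((cancel_epi ca).1 ?_), fun ψ => ?_⟩
  · rw [← hnat, ← hnat, e]
  · obtain ⟨s, hs⟩ := hg.2 (inv ca ≫ ψ ≫ cb)
    refine ⟨s, (cancel_mono cb).1 ?_⟩
    rw [hnat, hs, IsIso.hom_inv_id_assoc]

end Abstract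

section QC

variable {X : Scheme.{u}} [IsNoetherian X]

/-- A quasi-coherent module on a Noetherian scheme is a filtered colimit of coherent modules. -/
theorem exists_coh_colimit (M : X.Modules) [M.IsQuasicoherent] :
    ∃ (J : Type u) (_ : SmallCategory J) (_ : IsFiltered J) (A : J ⥤ X.Modules) (a : Cocone A),
      (∀ j, Coh.IsCoh (A.obj j)) ∧ a.pt = M ∧ Nonempty (IsColimit a) := by
  let N : QCohCat.QCoh X := ⟨M, ‹M.IsQuasicoherent›⟩
  let K := FunMor20.cohι X
  let e := equivSmallModel.{u} (CostructuredArrow K N)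
  haveI : IsFiltered (SmallModel.{u} (CostructuredArrow K N)) := IsFiltered.of_equivalence e
  have hc := (K.denseAt N).whiskerEquivalence e.symm
  haveI := QCohCat20.preservesColimit_ι (e.symm.functor ⋙ CostructuredArrow.proj K N ⋙ K)
  refine ⟨SmallModel.{u} (CostructuredArrow K N), inferInstance, inferInstance, _, _, fun j => ?_, ?_,
    ⟨isColimitOfPreserves (QCohCat.isQCoh X).ι hc⟩⟩
  · exact (e.symm.functor.obj j).left.property
  · rfl

end QC

section Completion

open GrothLib.FMod7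

variable {A : Type u} [CommRing A] [IsNoetherianRing A] (J : Ideal A) [IsAdicComplete J A]
  {X : Scheme.{u}} [X.Over (Spec (CommRingCat.of A))] [IsProper (X ↘ Spec (CommRingCat.of A))]
  {𝓘 : X.IdealSheafData}

theorem properSupp_of_isCoh {M : X.Modules} (hM : Coh.IsCoh M) : FormalExist7.ProperSupp A M :=
  ⟨QCoh.isClosed_support_of_isCoh hM, inferInstance⟩

theorem isNoetherian_base (A : Type u) [CommRing A] [IsNoetherianRing A] (X : Scheme.{u})
    [X.Over (Spec (CommRingCat.of A))] [IsProper (X ↘ Spec (CommRingCat.of A))] : IsNoetherian X := by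
  haveI := LocallyOfFiniteType.isLocallyNoetherian (X ↘ Spec (CommRingCat.of A))
  haveI : CompactSpace X := QuasiCompact.compactSpace_of_compactSpace (X ↘ Spec (CommRingCat.of A))
  exact {}

include J in
theorem pull_bijective_coh (h : (FSch.completionAlong X 𝓘).IsFormal) (h𝓘 : 𝓘 = FFormal7.baseIdeal J X)
    {M N : ModSite.Mod X.sheaf} (hM : Coh.IsCoh (show X.Modules from M)) (hN : Coh.IsCoh (show X.Modules from N)) :
    Function.Bijective (fun φ : M ⟶ N => (complMor h).pull.map φ) := by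
  haveI := isNoetherian_base A X
  haveI := isIso_comparison h (show X.Modules from M) (Groth.Agent.S3854.result X 𝓘) hM (isCoh_complMod hM)
  haveI := isIso_comparison h (show X.Modules from N) (Groth.Agent.S3854.result X 𝓘) hN (isCoh_complMod hN)
  exact bijective_of_natural (fun φ => (complMor h).pull.map φ)
    (fun φ : M ⟶ N => hatMap h (M := (show X.Modules from M)) (N := (show X.Modules from N)) φ)
    (comparison h (show X.Modules from M)) (comparison h (show X.Modules from N))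
    (fun φ => comparison_naturality h (F := (show X.Modules from M)) (G := (show X.Modules from N)) φ)
    (hatMap_bijective J h h𝓘 hM hN (properSupp_of_isCoh hM))

/-- Completion is fully faithful on quasi-coherent modules. -/
theorem pull_bijective_qcoh (h : (FSch.completionAlong X 𝓘).IsFormal) (h𝓘 : 𝓘 = FFormal7.baseIdeal J X)
    (G H : X.Modules) [G.IsQuasicoherent] [H.IsQuasicoherent] :
    Function.Bijective (fun φ : G ⟶ H => (complMor h).pull.map
      (show (show ModSite.Mod X.sheaf from G) ⟶ H from φ)) := by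
  haveI := isNoetherian_base A X
  obtain ⟨J₁, _, _, D₁, c₁, hD₁, rfl, ⟨hc₁⟩⟩ := exists_coh_colimit G
  obtain ⟨J₂, _, _, D₂, c₂, hD₂, rfl, ⟨hc₂⟩⟩ := exists_coh_colimit H
  let hN := Groth.Agent.S3854.result X 𝓘
  haveI : CompactSpace ((FSch.completionAlong X 𝓘).X 0) :=
    (FSch.completionToX X 𝓘 0).isClosedEmbedding.compactSpace
  let F : X.Modules ⥤ FSch.ModF (FSch.completionAlong X 𝓘) h := (complMor h).pull
  haveI : F.IsLeftAdjoint := (complMor h).adj.isLeftAdjoint
  refine map_bijective_of_colim F hc₁ (isColimitOfPreserves F hc₁)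
    (fun j k => pull_bijective_coh J h h𝓘 (hD₁ j) (hD₂ k))
    (fun j φ => HomColim20.exists_factor (FunMor20.isFP_of_isCoh (hD₁ j)) hc₂ φ)
    (fun j φ => ?_) (fun j k g g' e => ?_)
  · haveI := isCohF_complMor_pull h (D₁.obj j) (hD₁ j)
    exact coh_hom_stage hN (isColimitOfPreserves F hc₂) φ
  · haveI := isCohF_complMor_pull h (D₁.obj j) (hD₁ j)
    obtain ⟨l, f, hf⟩ := coh_hom_kill hN (isColimitOfPreserves F hc₂) (g - g') (by
      rw [Preadditive.sub_comp]; exact sub_eq_zero.2 e)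
    exact ⟨l, f, sub_eq_zero.1 ((Preadditive.sub_comp _ _ _).symm.trans hf)⟩

/-- Ind-coherent modules are the completions of quasi-coherent modules. -/
theorem ind_iff_exists_iso_pull (h : (FSch.completionAlong X 𝓘).IsFormal) (h𝓘 : 𝓘 = FFormal7.baseIdeal J X)
    (𝔉 : FSch.ModF (FSch.completionAlong X 𝓘) h) :
    (ObjectProperty.ind.{u} fun 𝔊 : FSch.ModF (FSch.completionAlong X 𝓘) h =>
        FSch.IsCohF (FSch.completionAlong X 𝓘) h 𝔊) 𝔉 ↔
      ∃ G : X.Modules, G.IsQuasicoherent ∧ Nonempty ((complMor h).pull.obj G ≅ 𝔉) := by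
  haveI := isNoetherian_base A X
  let hN := Groth.Agent.S3854.result X 𝓘
  let F : X.Modules ⥤ FSch.ModF (FSch.completionAlong X 𝓘) h := (complMor h).pull
  haveI : F.IsLeftAdjoint := (complMor h).adj.isLeftAdjoint
  refine ⟨fun hi => ?_, fun ⟨G, hG, ⟨e⟩⟩ => ?_⟩
  · obtain ⟨K, _, _, pres, hpres⟩ := hi
    have hG : ∀ k, ∃ G : X.Modules, Coh.IsCoh G ∧ Nonempty (F.obj G ≅ pres.diag.obj k) := fun k => by
      obtain ⟨𝔐, h𝔐, ⟨e⟩⟩ := Groth.Agent.S13335.result _ hN _ (hpres k)
      obtain ⟨M, hM, -, ⟨e'⟩⟩ := FFormal7.exists_iso_complMod_supp J 𝓘 h𝓘 𝔐 h𝔐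
        (properSupp_of_isCoh (K0Sub.isCoh_push (i := FSch.completionToX X 𝓘 0) (h𝔐 0)))
      haveI := isIso_comparison h M hN hM (isCoh_complMod hM)
      exact ⟨M, hM, ⟨asIso (comparison h M) ≪≫
        { hom := FSch.ModSys.realModMap h e'.inv
          inv := FSch.ModSys.realModMap h e'.hom
          hom_inv_id := by rw [← realModMap_comp, Iso.inv_hom_id, realModMap_id]
          inv_hom_id := by rw [← realModMap_comp, Iso.hom_inv_id, realModMap_id] } ≪≫ e.symm⟩⟩
    choose G hGc hGi using hG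
    obtain ⟨D, hD, ⟨η⟩⟩ := exists_lift F (fun M => Coh.IsCoh M)
      (fun M N hM hN' => pull_bijective_coh J h h𝓘 hM hN') pres.diag G hGc (fun k => (hGi k).some)
    refine ⟨colimit D, QCoh.isQuasicoherent_colimit D (fun k => (hD k).1), ⟨?_⟩⟩
    exact ((isColimitOfPreserves F (colimit.isColimit D)).coconePointsIsoOfNatIso pres.isColimit η)
  · haveI := hG
    obtain ⟨K, _, _, D, c, hD, rfl, ⟨hc⟩⟩ := exists_coh_colimit G
    refine ObjectProperty.prop_of_iso _ e ⟨K, inferInstance, inferInstance,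
      { diag := D ⋙ F, ι := (F.mapCocone c).ι, isColimit := isColimitOfPreserves F hc }, fun k => ?_⟩
    exact isCohF_complMor_pull h (D.obj k) (hD k)

end Completion

end GrothLib.FCat7
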