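import Groth.Agent.Lib.FCat7.QCPres
import Groth.Agent.Lib.ColimCoh.Top
import Groth.Agent.Lib.SheafCoh.ModColim
import Mathlib.CategoryTheory.ObjectProperty.Ind
import Mathlib.AlgebraicGeometry.Noetherian

/-!
# Filtered colimits of coherent modules are quasi-coherent
-/

set_option autoImplicit false
set_option linter.style.haveILetI false
set_option linter.unusedSectionVars false
universe u

open CategoryTheory CategoryTheory.Limits AlgebraicGeometry TopologicalSpace Opposite

noncomputable section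

namespace GrothLib.FCat7

open GrothLib.FMod7

variable {𝔛 : FSch.Sys.{u}} {h : 𝔛.IsFormal} (hN : 𝔛.IsLocNoethFormal)
include hN

/-- A section of a filtered colimit over a compact open comes from a stage. -/
theorem colim_gen {J : Type u} [SmallCategory J] [IsFiltered J] {D : J ⥤ FSch.ModF 𝔛 h} {c : Cocone D}
    (hc : IsColimit c) {U : (𝔛.X 0).Opens} (hU : IsCompact (U : Set (𝔛.X 0))) (m : ModSite.sect c.pt U) :
    ∃ (j : J) (x : ModSite.sect (D.obj j) U), sHom (c.ι.app j) U x = m := by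
  haveI := hN.2.2 0
  haveI hpc := SheafCoh.preservesColimitsOfSize_toSheaf (ModSite.ringSh (𝔛.Osh h))
  let S := SheafOfModules.toSheaf.{u} (ModSite.ringSh (𝔛.Osh h))
  obtain ⟨hg, -⟩ := ColimCoh.sections_colimit ColimCoh.compactCov_h1 ColimCoh.compactCov_h2 (D ⋙ S)
    (isColimitOfPreserves S hc) (U := U) hU
  obtain ⟨j, x, hx⟩ := hg m
  exact ⟨j, x, hx⟩

/-- A stage section vanishing in a filtered colimit over a compact open vanishes at a later stage. -/
theorem colim_kill {J : Type u} [SmallCategory J] [IsFiltered J] {D : J ⥤ FSch.ModF 𝔛 h} {c : Cocone D}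
    (hc : IsColimit c) {U : (𝔛.X 0).Opens} (hU : IsCompact (U : Set (𝔛.X 0))) {j : J}
    (x : ModSite.sect (D.obj j) U) (hx : sHom (c.ι.app j) U x = 0) :
    ∃ (k : J) (f : j ⟶ k), sHom (D.map f) U x = 0 := by
  haveI := hN.2.2 0
  haveI hpc := SheafCoh.preservesColimitsOfSize_toSheaf (ModSite.ringSh (𝔛.Osh h))
  let S := SheafOfModules.toSheaf.{u} (ModSite.ringSh (𝔛.Osh h))
  obtain ⟨-, hk⟩ := ColimCoh.sections_colimit ColimCoh.compactCov_h1 ColimCoh.compactCov_h2 (D ⋙ S)
    (isColimitOfPreserves S hc) (U := U) hU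
  exact hk j x hx

/-- Finite families in a coherent module have generated relations. -/
theorem relGen_of_isCohF {F : FSch.ModF 𝔛 h} [FSch.IsCohF 𝔛 h F] {W : (𝔛.X 0).Opens} (hW : IsAffineOpen W)
    {α : Type u} [Fintype α] (s : α → ModSite.sect F W) : RelGen F W s := by
  intro V hV y hy p hp
  obtain ⟨W', hW', hpW', hW'V'⟩ := exists_isAffineOpen_mem_and_subset (x := p) (U := V) hp
  have hW'V : W' ≤ V := hW'V'
  refine ⟨W', hW'V, hpW', ?_⟩
  let e := Fintype.equivFin α
  have h1 : ∑ i, wRes hW'V y (e.symm i) • sres F (hW'V.trans hV) (s (e.symm i)) = 0 := by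
    refine (e.symm.sum_comp fun a => wRes hW'V y a • sres F (hW'V.trans hV) (s a)).trans ?_
    refine Eq.trans ?_ ((congrArg (sres F hW'V) hy).trans (map_zero (F.val.map (homOfLE hW'V).op).hom))
    rw [sres_comb]
    simp only [sres_sres]
  have key := relations_sres' hN hW hW' (hW'V.trans hV) (fun i => s (e.symm i)) _ h1
  let L : (Fin (Fintype.card α) → Sec 𝔛 h W') →ₗ[Sec 𝔛 h W'] α → Sec 𝔛 h W' := LinearMap.funLeft _ _ e
  have e' : wRes hW'V y = L fun i => wRes hW'V y (e.symm i) :=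
    funext fun a => (congrArg (wRes hW'V y) (e.symm_apply_apply a)).symm
  rw [e']
  refine Submodule.span_le.2 ?_ (Submodule.map_span L _ ▸ Submodule.mem_map_of_mem (f := L) key)
  rintro _ ⟨_, ⟨b, hb, rfl⟩, rfl⟩
  refine Submodule.subset_span ⟨fun a => b (e a), ?_, rfl⟩
  refine Eq.trans ?_ hb
  refine Eq.trans ?_ (e.sum_comp fun i => b i • s (e.symm i))
  exact Finset.sum_congr rfl fun a _ => congrArg (b (e a) • s ·) (e.symm_apply_apply a).symm

/-- A coherent module is presented by sections on every affine open. -/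
theorem isQC_of_isCohF {F : FSch.ModF 𝔛 h} [FSch.IsCohF 𝔛 h F] {W : (𝔛.X 0).Opens} (hW : IsAffineOpen W) :
    IsQC F W where
  gen V hV m p hp := by
    haveI := moduleFinite_sect (F := F) hN hW
    obtain ⟨n, g, hg⟩ := Submodule.fg_iff_exists_fin_generating_family.1
      (Module.Finite.fg_top (R := Sec 𝔛 h W) (M := ModSite.sect F W))
    obtain ⟨W', hW', hpW', hW'V'⟩ := exists_isAffineOpen_mem_and_subset (x := p) (U := V) hp
    have hW'V : W' ≤ V := hW'V'
    refine ⟨W', hW'V, hpW', Submodule.span_mono ?_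
      ((span_sres_eq_top hN hW hW' (hW'V.trans hV) hg).symm ▸ Submodule.mem_top : sres F hW'V m ∈ _)⟩
    rintro _ ⟨i, rfl⟩
    exact ⟨g i, rfl⟩
  rel _ _ s := relGen_of_isCohF hN hW s

/-- A filtered colimit of coherent modules is presented by sections on every affine open. -/
theorem isQC_of_colimit {J : Type u} [SmallCategory J] [IsFiltered J] {D : J ⥤ FSch.ModF 𝔛 h} {c : Cocone D}
    (hc : IsColimit c) (hD : ∀ j, FSch.IsCohF 𝔛 h (D.obj j)) {W : (𝔛.X 0).Opens} (hW : IsAffineOpen W) :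
    IsQC c.pt W where
  gen V hV m p hp := by
    obtain ⟨W₁, hW₁, hpW₁, hW₁V'⟩ := exists_isAffineOpen_mem_and_subset (x := p) (U := V) hp
    have hW₁V : W₁ ≤ V := hW₁V'
    obtain ⟨j, x, hx⟩ := colim_gen hN hc hW₁.isCompact (sres c.pt hW₁V m)
    haveI := hD j
    obtain ⟨W', hW', hpW', hm⟩ := (isQC_of_isCohF hN (F := D.obj j) hW).gen W₁ (hW₁V.trans hV) x p hpW₁
    refine ⟨W', hW'.trans hW₁V, hpW', ?_⟩
    rw [← sres_sres hW₁V hW', ← hx, ← sHom_res]
    refine Submodule.span_le.2 ?_ (Submodule.map_span (sHom (c.ι.app j) W') _ ▸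
      Submodule.mem_map_of_mem (f := sHom (c.ι.app j) W') hm)
    rintro _ ⟨_, ⟨g, rfl⟩, rfl⟩
    exact Submodule.subset_span ⟨sHom (c.ι.app j) W g, (sHom_res _ _ g).symm⟩
  rel α _ s := by
    classical
    intro V hV y hy p hp
    choose ja xa hxa using fun a => colim_gen hN hc hW.isCompact (s a)
    obtain ⟨j, hj⟩ := IsFiltered.sup_objs_exists (Finset.univ.image ja)
    let f : ∀ a, ja a ⟶ j := fun a => (hj (Finset.mem_image_of_mem ja (Finset.mem_univ a))).some
    let x : α → ModSite.sect (D.obj j) W := fun a => sHom (D.map (f a)) W (xa a)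
    have hx : ∀ a, sHom (c.ι.app j) W (x a) = s a := fun a => by
      refine Eq.trans ?_ (hxa a)
      exact congrArg (fun φ : D.obj (ja a) ⟶ c.pt => (φ.val.app (op W)).hom (xa a)) (c.w (f a))
    obtain ⟨W₁, hW₁, hpW₁, hW₁V'⟩ := exists_isAffineOpen_mem_and_subset (x := p) (U := V) hp
    have hW₁V : W₁ ≤ V := hW₁V'
    let z := ∑ a, wRes hW₁V y a • sres (D.obj j) (hW₁V.trans hV) (x a)
    have hz : sHom (c.ι.app j) W₁ z = 0 := by
      refine Eq.trans ?_ ((congrArg (sres c.pt hW₁V) hy).trans (map_zero (c.pt.val.map (homOfLE hW₁V).op).hom))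
      rw [map_sum, sres_comb]
      refine Finset.sum_congr rfl fun a _ => ?_
      refine ((sHom (c.ι.app j) W₁).map_smul _ _).trans (congrArg (wRes hW₁V y a • ·) ?_)
      rw [sHom_res, hx, sres_sres]
      rfl
    obtain ⟨k, g, hk⟩ := colim_kill hN hc hW₁.isCompact z hz
    haveI := hD k
    have h0 : ∑ a, wRes hW₁V y a • sres (D.obj k) (hW₁V.trans hV) (sHom (D.map g) W (x a)) = 0 := by
      refine Eq.trans ?_ hk
      rw [map_sum]
      exact Finset.sum_congr rfl fun a _ =>
        Eq.trans (congrArg (wRes hW₁V y a • ·) (sHom_res _ _ _).symm) ((sHom (D.map g) W₁).map_smul _ _).symm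
    obtain ⟨W', hW', hpW', hm⟩ := relGen_of_isCohF hN hW (fun a => sHom (D.map g) W (x a)) W₁
      (hW₁V.trans hV) (wRes hW₁V y) h0 p hpW₁
    refine ⟨W', hW'.trans hW₁V, hpW', ?_⟩
    rw [← wRes_wRes hW₁V hW']
    refine Submodule.span_mono (Set.image_mono fun b hb => ?_) hm
    show ∑ a, b a • s a = 0
    refine Eq.trans ?_ ((congrArg (sHom (c.ι.app k) W) hb).trans (map_zero _))
    rw [map_sum]
    refine Finset.sum_congr rfl fun a _ => ?_
    refine Eq.trans ?_ ((sHom (c.ι.app k) W).map_smul _ _).symm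
    refine congrArg (b a • ·) ((hx a).symm.trans ?_)
    exact congrArg (fun φ : D.obj j ⟶ c.pt => (φ.val.app (op W)).hom (x a)) (c.w g).symm

/-- An ind-coherent module is presented by sections on every affine open. -/
theorem isQC_of_ind {M : FSch.ModF 𝔛 h}
    (hM : (ObjectProperty.ind.{u} fun G : FSch.ModF 𝔛 h => FSch.IsCohF 𝔛 h G) M) {W : (𝔛.X 0).Opens}
    (hW : IsAffineOpen W) : IsQC M W := by
  obtain ⟨J, _, _, pres, hp⟩ := hM
  exact isQC_of_colimit hN pres.isColimit hp hW

/-- Ind-coherent modules are quasi-coherent. -/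
theorem isQuasicoherent_of_ind {M : FSch.ModF 𝔛 h}
    (hM : (ObjectProperty.ind.{u} fun G : FSch.ModF 𝔛 h => FSch.IsCohF 𝔛 h G) M) :
    SheafOfModules.IsQuasicoherent.{u} M :=
  isQuasicoherent_of_isQC fun p => by
    obtain ⟨W, hW, hp, -⟩ := exists_isAffineOpen_mem_and_subset (x := p) (U := (⊤ : (𝔛.X 0).Opens)) trivial
    exact ⟨W, hp, isQC_of_ind hN hM hW⟩

end GrothLib.FCat7
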