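import Groth.Agent.Lib.FCat7.FreeSect

/-!
# Generators and relations with arbitrary index sets
-/

set_option autoImplicit false
set_option linter.style.haveILetI false
set_option linter.unusedSectionVars false
universe u

open CategoryTheory CategoryTheory.Limits Opposite TopologicalSpace

noncomputable section

namespace GrothLib.FCat7

open GrothLib.FMod7 GrothLib.LocFac25

variable {T : TopCat.{u}} {O : Sheaf (Opens.grothendieckTopology T) CommRingCat.{u}} {ι κ : Type u}

/-- Restriction of a finitely supported family of functions. -/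
abbrev fRes {V W : Opens T} (h : W ≤ V) (x : ι →₀ O.obj.obj (op V)) : ι →₀ O.obj.obj (op W) :=
  Finsupp.mapRange (O.obj.map (homOfLE h).op).hom (map_zero _) x

/-- `M` is presented over `U` by arbitrarily many generators and relations. -/
structure IsInfPres (M : ModSite.Mod O) (U : Opens T) (e : ι → ModSite.sect M U)
    (r : κ → ι →₀ O.obj.obj (op U)) : Prop where
  rel : ∀ k, Finsupp.linearCombination (O.obj.obj (op U)) e (r k) = 0
  gen : ∀ (V : Opens T) (hV : V ≤ U) (m : ModSite.sect M V), ∀ p ∈ V, ∃ (W : Opens T) (hW : W ≤ V),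
      p ∈ W ∧ sres M hW m ∈ Submodule.span (O.obj.obj (op W)) (Set.range fun i => sres M (hW.trans hV) (e i))
  relGen : ∀ (V : Opens T) (hV : V ≤ U) (y : ι →₀ O.obj.obj (op V)),
      Finsupp.linearCombination (O.obj.obj (op V)) (fun i => sres M hV (e i)) y = 0 →
      ∀ p ∈ V, ∃ (W : Opens T) (hW : W ≤ V), p ∈ W ∧
        fRes hW y ∈ Submodule.span (O.obj.obj (op W)) (Set.range fun k => fRes (hW.trans hV) (r k))

variable {U : Opens T}

theorem sres_valAt {M : ModSite.Mod O} (α : SheafOfModules.unit _ ⟶ (ModSite.restr O U).obj M) {W W' : Opens T}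
    (hW : W ≤ U) (hW' : W' ≤ W) :
    sres M hW' (valAt α (Over.mk (homOfLE hW)) : ModSite.sect M W) = valAt α (Over.mk (homOfLE (hW'.trans hW))) :=
  map_evAt α (Over.homMk (homOfLE hW') (Subsingleton.elim _ _) :
    Over.mk (homOfLE (hW'.trans hW)) ⟶ Over.mk (homOfLE hW))

theorem oHom_comb {N : ModSite.Mod (O.over U)} (g : freeO O U ι ⟶ N) (W : Over U)
    (x : ι →₀ O.obj.obj (op W.left)) :
    oHom g W (comb ι W x) =
      Finsupp.linearCombination (O.obj.obj (op W.left)) (fun i : ι => valAt (SheafOfModules.ιFree i ≫ g) W) x :=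
  Finsupp.apply_linearCombination _ _ _ _

theorem comb_injective (W : Over U) : Function.Injective (comb (O := O) ι W) := fun x y hxy =>
  Finsupp.ext fun i => by rw [← coord_comb W x i, ← coord_comb W y i, hxy]

/-- A cokernel of free modules gives generators and relations over compact opens. -/
theorem exists_isInfPres {M : ModSite.Mod O}
    (f : SheafOfModules.free (R := ModSite.ringSh (O.over U)) κ ⟶ freeO O U ι)
    (g : freeO O U ι ⟶ (ModSite.restr O U).obj M) (hfg : f ≫ g = 0)
    (hc : IsColimit (CokernelCofork.ofπ g hfg)) {U' : Opens T} (hU' : U' ≤ U) (hcpt : IsCompact (U' : Set T)) :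
    ∃ (e : ι → ModSite.sect M U') (r : κ → ι →₀ O.obj.obj (op U')), IsInfPres M U' e r := by
  let W₀ : Over U := Over.mk (homOfLE hU')
  haveI : Epi g := Cofork.IsColimit.epi hc
  have hex : Epi (kernel.lift g f hfg) :=
    (ShortComplex.exact_iff_epi_kernel_lift (ShortComplex.mk f g hfg)).1 (ShortComplex.exact_of_g_is_cokernel _ hc)
  choose r hr using fun k : κ => exists_comb W₀ hcpt (valAt (SheafOfModules.ιFree k ≫ f) W₀)
  refine ⟨fun i => valAt (SheafOfModules.ιFree i ≫ g) W₀, r, fun k => ?_, fun V hV m p hp => ?_,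
    fun V hV y hy p hp => ?_⟩
  · refine (oHom_comb g W₀ (r k)).symm.trans ((congrArg (oHom g W₀) (hr k)).trans ?_)
    refine (oHom_valAt _ g W₀).trans ?_
    rw [Category.assoc, hfg, comp_zero]
    rfl
  · obtain ⟨W, k, hpW, hm⟩ := exists_local_span_of_epi g (Over.mk (homOfLE (hV.trans hU'))) m hp
    obtain ⟨x, hx⟩ := (Finsupp.mem_span_range_iff_exists_finsupp).1 hm
    refine ⟨W, k, hpW, (Finsupp.mem_span_range_iff_exists_finsupp).2 ⟨x, ?_⟩⟩
    refine Eq.trans ?_ hx
    refine Finsupp.sum_congr fun i _ => ?_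
    exact congrArg (fun v : ModSite.sect M W => (show O.obj.obj (op W) from x i) • v)
      (sres_valAt (SheafOfModules.ιFree i ≫ g) hU' _)
  · let W₁ : Over U := Over.mk (homOfLE (hV.trans hU'))
    have hy0 : (g.val.app (op W₁)).hom (comb ι W₁ y) = 0 := by
      refine (oHom_comb g W₁ y).trans (Eq.trans ?_ hy)
      exact congrArg (fun v : ι → ModSite.sect M V => Finsupp.linearCombination (O.obj.obj (op V)) v y)
        (funext fun i => (sres_valAt (SheafOfModules.ιFree i ≫ g) hU' hV).symm)
    let S := ShortComplex.mk (kernel.ι g) g (kernel.condition g)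
    have hS : S.ShortExact := ShortComplex.ShortExact.mk' (ShortComplex.exact_kernel g) inferInstance inferInstance
    obtain ⟨z, hz⟩ := PullLoc25.exists_kernel_section hS (comb ι W₁ y) hy0
    obtain ⟨W, k, hpW, hm⟩ := exists_local_span_of_epi (kernel.lift g f hfg) W₁ z hp
    obtain ⟨c, hc'⟩ := (Finsupp.mem_span_range_iff_exists_finsupp).1 hm
    refine ⟨W, k, hpW, (Finsupp.mem_span_range_iff_exists_finsupp).2 ⟨c, comb_injective (overLE W₁ k) ?_⟩⟩
    have h1 : oHom (kernel.ι g) (overLE W₁ k) (oRes _ W₁ k z) = comb ι (overLE W₁ k) (fRes k y) :=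
      (oHom_res (kernel.ι g) W₁ k z).trans ((congrArg (oRes _ W₁ k) hz).trans (comb_res W₁ k y))
    refine Eq.trans ?_ h1
    rw [← hc', map_finsuppSum, map_finsuppSum]
    refine Finsupp.sum_congr fun j _ => ?_
    refine (map_smul (comb ι (overLE W₁ k)) _ _).trans
      (Eq.trans ?_ ((oHom (kernel.ι g) (overLE W₁ k)).map_smul _ _).symm)
    refine congrArg (c j • ·) ?_
    refine Eq.trans ?_ (oHom_valAt (SheafOfModules.ιFree j ≫ kernel.lift g f hfg) (kernel.ι g) (overLE W₁ k)).symm
    rw [Category.assoc, kernel.lift_ι]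
    refine Eq.trans ?_ (map_evAt (SheafOfModules.ιFree j ≫ f) (Over.homMk (homOfLE (k.trans hV))
      (Subsingleton.elim _ _) : overLE W₁ k ⟶ W₀))
    refine Eq.trans ?_ (congrArg ((freeO O U ι).val.map (Over.homMk (homOfLE (k.trans hV))
      (Subsingleton.elim _ _) : overLE W₁ k ⟶ W₀).op) (hr j))
    exact (comb_res W₀ (k.trans hV) (r j)).symm

end GrothLib.FCat7
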