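import Groth.Agent.Lib.FCat7.FinPres
import Groth.Agent.Lib.FCat7.ExtInd
import Groth.Agent.Lib.FunMor20.Ind
import Mathlib.CategoryTheory.Abelian.Subcategory
import Mathlib.CategoryTheory.Abelian.GrothendieckAxioms.Basic

/-!
# Extensions of exact functors on coherent modules to ind-coherent modules are exact
-/

set_option autoImplicit false
set_option linter.style.haveILetI false
set_option linter.unusedSectionVars false
set_option backward.isDefEq.respectTransparency.types false
universe u v' u'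

open CategoryTheory CategoryTheory.Limits AlgebraicGeometry TopologicalSpace Opposite

noncomputable section

namespace GrothLib.FCat7

open GrothLib.FMod7 GrothLib.FunMor20

/-- Coherent modules as a property. -/
abbrev cohFP' (𝔛 : FSch.Sys.{u}) (h : 𝔛.IsFormal) : ObjectProperty (FSch.ModF 𝔛 h) := fun G => FSch.IsCohF 𝔛 h G

/-- Ind-coherent modules as a property. -/
abbrev indFP (𝔛 : FSch.Sys.{u}) (h : 𝔛.IsFormal) : ObjectProperty (FSch.ModF 𝔛 h) :=
  ObjectProperty.ind.{u} (cohFP' 𝔛 h)

/-- The inclusion of coherent into ind-coherent modules. -/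
abbrev cohIncl (𝔛 : FSch.Sys.{u}) (h : 𝔛.IsFormal) : (cohFP' 𝔛 h).FullSubcategory ⥤ (indFP 𝔛 h).FullSubcategory :=
  ObjectProperty.ιOfLE (ObjectProperty.le_ind (cohFP' 𝔛 h))

variable {𝔛 : FSch.Sys.{u}} {h : 𝔛.IsFormal} (hN : 𝔛.IsLocNoethFormal)
include hN

theorem closedUnderColimits_ind (J : Type u) [SmallCategory J] :
    (indFP 𝔛 h).IsClosedUnderColimitsOfShape J :=
  ⟨fun M ⟨hM⟩ => ind_of_colimit hN hM.toColimitPresentation hM.prop_diag_obj⟩

theorem hasColimits_ind : HasColimitsOfSize.{u, u} (indFP 𝔛 h).FullSubcategory :=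
  ⟨fun J _ => haveI := closedUnderColimits_ind (h := h) hN J
    hasColimitsOfShape_of_closedUnderColimits J _⟩

theorem preservesColimits_ind_ι : PreservesColimitsOfSize.{u, u} (indFP 𝔛 h).ι :=
  ⟨fun {J} _ => ⟨fun {K} => by
    haveI := closedUnderColimits_ind (h := h) hN J
    haveI := createsColimitFullSubcategoryInclusionOfClosed J (indFP 𝔛 h) K
    infer_instance⟩⟩

theorem essentiallySmall_coh : EssentiallySmall.{u} (cohFP' 𝔛 h).FullSubcategory := by
  obtain ⟨S, G, hG, hF⟩ := exists_small_coherent hN (h := h)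
  haveI : (cohFP' 𝔛 h).IsClosedUnderIsomorphisms :=
    ⟨fun e hM => (SheafOfModules.isFinitePresentation.{u} (ModSite.ringSh (𝔛.Osh h))).prop_of_iso e hM⟩
  haveI : ObjectProperty.EssentiallySmall.{u} (cohFP' 𝔛 h) :=
    ⟨ObjectProperty.ofObj G, inferInstance, fun F hF' => by
      obtain ⟨s, ⟨e⟩⟩ := hF F hF'
      exact ⟨G s, ObjectProperty.ofObj_apply G s, ⟨e.symm⟩⟩⟩
  infer_instance

variable [CompactSpace (𝔛.X 0)]

theorem closedUnderFiniteProducts_ind : (indFP 𝔛 h).IsClosedUnderFiniteProducts := by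
  haveI : (indFP 𝔛 h).ContainsZero := ⟨by
    obtain ⟨Z, hZ⟩ := HasZeroObject.zero (C := FSch.ModF 𝔛 h)
    haveI := closedUnderColimits_ind (h := h) hN (Discrete (ULift.{u} PEmpty.{1}))
    exact ⟨Z, hZ, (indFP 𝔛 h).prop_of_isColimit (c := Cofan.mk Z (fun i : ULift.{u} PEmpty.{1} =>
      (i.down.elim : PEmpty.elim i.down ⟶ Z)))
      { desc := fun s => hZ.to_ s.pt, fac := fun s j => j.as.down.elim, uniq := fun s m _ => hZ.eq_of_src _ _ }
      fun j => j.as.down.elim⟩⟩
  haveI : (indFP 𝔛 h).IsClosedUnderBinaryProducts := ⟨by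
    rintro M ⟨p⟩
    let A := p.diag.obj ⟨WalkingPair.left⟩
    let B := p.diag.obj ⟨WalkingPair.right⟩
    have hA : indFP 𝔛 h A := p.prop_diag_obj _
    have hB : indFP 𝔛 h B := p.prop_diag_obj _
    have hAB : indFP 𝔛 h (A ⊞ B) :=
      ind_extension hN (S := ShortComplex.mk (biprod.inl : A ⟶ A ⊞ B) (biprod.snd : A ⊞ B ⟶ B) biprod.inl_snd)
        (ShortComplex.Splitting.ofHasBinaryBiproduct A B).shortExact hA hB
    exact (indFP 𝔛 h).prop_of_iso (biprod.isoProd A B ≪≫
      HasLimit.isoOfNatIso (diagramIsoPair p.diag).symm ≪≫ (limit.isLimit _).conePointUniqueUpToIso p.isLimit) hAB⟩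
  exact ObjectProperty.IsClosedUnderFiniteProducts.mk'

theorem closedUnderKernels_ind : (indFP 𝔛 h).IsClosedUnderKernels where
  kernels_le := by
    rintro Z ⟨f, k, hk, hf⟩
    exact (indFP 𝔛 h).prop_of_iso ((kernelIsKernel f).conePointUniqueUpToIso hk) (ind_kernel' hN f hf.1 hf.2)

theorem closedUnderCokernels_ind : (indFP 𝔛 h).IsClosedUnderCokernels where
  cokernels_le := by
    rintro Z ⟨f, k, hk, hf⟩
    exact (indFP 𝔛 h).prop_of_iso ((cokernelIsCokernel f).coconePointUniqueUpToIso hk) (ind_cokernel' hN f hf.1 hf.2)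

theorem isFinitelyPresentable_cohIncl (a : (cohFP' 𝔛 h).FullSubcategory) :
    IsFinitelyPresentable.{u} ((cohIncl 𝔛 h).obj a) := by
  haveI : FSch.IsCohF 𝔛 h a.obj := a.property
  haveI := preservesColimits_ind_ι (h := h) hN
  rw [isFinitelyPresentable_iff_preservesFilteredColimitsOfSize]
  refine ⟨fun J _ _ => ⟨fun {D} => ⟨fun {c} hc => ⟨?_⟩⟩⟩⟩
  let hc' := isColimitOfPreserves (indFP 𝔛 h).ι hc
  refine Types.FilteredColimit.isColimitOf' _ _ (fun (φ : (cohIncl 𝔛 h).obj a ⟶ c.pt) => ?_)
    (fun i (g g' : (cohIncl 𝔛 h).obj a ⟶ D.obj i) e => ?_)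
  · obtain ⟨j, g, hg⟩ := coh_hom_stage hN hc' (F := a.obj) φ.hom
    exact ⟨j, ObjectProperty.homMk g, (ObjectProperty.hom_ext _ hg).symm⟩
  · have e' : g.hom ≫ (c.ι.app i).hom = g'.hom ≫ (c.ι.app i).hom :=
      congrArg (fun ψ : (cohIncl 𝔛 h).obj a ⟶ c.pt => ψ.hom) e
    obtain ⟨k, f, hf⟩ := coh_hom_kill hN hc' (F := a.obj) (j := i) (g.hom - g'.hom) (by
      rw [Preadditive.sub_comp]; exact sub_eq_zero.2 e')
    refine ⟨k, f, ObjectProperty.hom_ext _ (sub_eq_zero.1 ?_)⟩
    rw [Preadditive.sub_comp] at hf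
    exact hf

theorem exists_final_presentation (M : (indFP 𝔛 h).FullSubcategory) :
    ∃ (J : Type u) (_ : SmallCategory J) (_ : IsFiltered J) (T : J ⥤ CostructuredArrow (cohIncl 𝔛 h) M)
      (_ : T.Final), Nonempty (IsColimit ((Ind.canonical (cohIncl 𝔛 h) M).whisker T)) := by
  haveI := preservesColimits_ind_ι (h := h) hN
  obtain ⟨J, _, _, p, hp⟩ := M.property
  let D : J ⥤ (cohFP' 𝔛 h).FullSubcategory := (cohFP' 𝔛 h).lift p.diag hp
  let T : J ⥤ CostructuredArrow (cohIncl 𝔛 h) M :=
    { obj := fun j => CostructuredArrow.mk (Y := D.obj j) (ObjectProperty.homMk (p.ι.app j))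
      map := fun f => CostructuredArrow.homMk (D.map f) (ObjectProperty.hom_ext _ (p.w f)) }
  have hT : T.Final := by
    rw [Functor.final_iff_of_isFiltered]
    refine ⟨fun X => ?_, fun {X j} s₁ s₂ => ?_⟩
    · haveI : FSch.IsCohF 𝔛 h X.left.obj := X.left.property
      obtain ⟨j, g, hg⟩ := coh_hom_stage hN p.isColimit (F := X.left.obj) X.hom.hom
      exact ⟨j, ⟨CostructuredArrow.homMk (ObjectProperty.homMk g) (ObjectProperty.hom_ext _ hg)⟩⟩
    · haveI : FSch.IsCohF 𝔛 h X.left.obj := X.left.property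
      have e : s₁.left.hom ≫ p.ι.app j = s₂.left.hom ≫ p.ι.app j :=
        congrArg (fun ψ : (cohIncl 𝔛 h).obj X.left ⟶ M => ψ.hom) ((CostructuredArrow.w s₁).trans (CostructuredArrow.w s₂).symm)
      obtain ⟨k, f, hf⟩ := coh_hom_kill hN p.isColimit (F := X.left.obj) (j := j) (s₁.left.hom - s₂.left.hom) (by
        rw [Preadditive.sub_comp]; exact sub_eq_zero.2 e)
      rw [Preadditive.sub_comp, sub_eq_zero] at hf
      exact ⟨k, f, CostructuredArrow.hom_ext _ _ (ObjectProperty.hom_ext _ hf)⟩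
  refine ⟨J, inferInstance, inferInstance, T, hT, ⟨isColimitOfReflects (indFP 𝔛 h).ι ?_⟩⟩
  refine IsColimit.ofIsoColimit p.isColimit (Cocone.ext (Iso.refl _) fun j => ?_)
  refine (Category.comp_id _).trans ?_
  simp [Ind.canonical, T]
  rfl

theorem isFiltered_over (M : (indFP 𝔛 h).FullSubcategory) : IsFiltered (CostructuredArrow (cohIncl 𝔛 h) M) := by
  obtain ⟨J, _, _, T, _, -⟩ := exists_final_presentation hN M
  exact IsFiltered.of_final T

theorem isDense_cohIncl : (cohIncl 𝔛 h).IsDense where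
  isDenseAt M := by
    obtain ⟨J, _, _, T, _, ⟨hT⟩⟩ := exists_final_presentation hN M
    exact ⟨(Functor.Final.isColimitWhiskerEquiv T _).1 hT⟩

set_option maxHeartbeats 1000000 in
/-- Pointwise extensions of exact functors are exact. -/
theorem exact_kan [ObjectProperty.ContainsZero (cohFP' 𝔛 h)] [(cohFP' 𝔛 h).IsClosedUnderKernels]
    [(cohFP' 𝔛 h).IsClosedUnderCokernels] [(cohFP' 𝔛 h).IsClosedUnderFiniteProducts]
    {B : Type u'} [Category.{v'} B] [Abelian B] [HasFilteredColimitsOfSize.{u, u} B] [AB5OfSize.{u, u} B]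
    (G : (cohFP' 𝔛 h).FullSubcategory ⥤ B) [PreservesFiniteLimits G] [PreservesFiniteColimits G]
    [(cohIncl 𝔛 h).HasPointwiseLeftKanExtension G] :
    PreservesFiniteLimits ((cohIncl 𝔛 h).pointwiseLeftKanExtension G) ∧
      PreservesFiniteColimits ((cohIncl 𝔛 h).pointwiseLeftKanExtension G) := by
  let K := cohIncl 𝔛 h
  haveI := hasColimits_ind (h := h) hN
  haveI := preservesColimits_ind_ι (h := h) hN
  haveI := closedUnderFiniteProducts_ind (h := h) hN
  haveI := closedUnderKernels_ind (h := h) hN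
  haveI := closedUnderCokernels_ind (h := h) hN
  haveI : (indFP 𝔛 h).ContainsZero := ⟨by
    obtain ⟨Z, hZ, hq⟩ := ObjectProperty.ContainsZero.exists_zero (P := cohFP' 𝔛 h)
    exact ⟨Z, hZ, ObjectProperty.le_ind _ _ hq⟩⟩
  letI : Abelian (cohFP' 𝔛 h).FullSubcategory := inferInstance
  letI : Abelian (indFP 𝔛 h).FullSubcategory := inferInstance
  haveI : K.Additive := ⟨rfl⟩
  haveI hι1 : PreservesFiniteLimits (indFP 𝔛 h).ι :=
    haveI : ∀ {a b : (indFP 𝔛 h).FullSubcategory} (f : a ⟶ b), PreservesLimit (parallelPair f 0) (indFP 𝔛 h).ι :=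
      fun f => (indFP 𝔛 h).preservesKernels_ι f
    Functor.preservesFiniteLimits_of_preservesKernels _
  haveI hι2 : ReflectsFiniteLimits (indFP 𝔛 h).ι := inferInstance
  haveI := essentiallySmall_coh (h := h) hN
  haveI := isDense_cohIncl (h := h) hN
  haveI := fun M => isFiltered_over (h := h) hN M
  haveI := fun a => isFinitelyPresentable_cohIncl (h := h) hN a
  haveI : ∀ M : (indFP 𝔛 h).FullSubcategory, EssentiallySmall.{u} (CostructuredArrow K M) := fun M => inferInstance
  haveI : HasFilteredColimitsOfSize.{u, u} (indFP 𝔛 h).FullSubcategory := ⟨fun J _ _ => inferInstance⟩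
  let E := K.pointwiseLeftKanExtension G
  let α := K.pointwiseLeftKanExtensionUnit G
  let hE := K.pointwiseLeftKanExtensionIsPointwiseLeftKanExtension G
  haveI : IsIso (Functor.LeftExtension.mk E α).hom := hE.isIso_hom
  let e : K ⋙ E ≅ G := (asIso (Functor.LeftExtension.mk E α).hom).symm
  haveI : PreservesFilteredColimitsOfSize.{u, u} E := Ind.preservesFilteredColimits.{u} K α hE
  haveI : G.Additive := Functor.additive_of_preserves_binary_products G
  haveI : (K ⋙ E).Additive := Functor.additive_of_iso e.symm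
  haveI : E.Additive := Ind.additive_of_restriction.{u} K E
  haveI : PreservesFiniteLimits (K ⋙ E) := preservesFiniteLimits_of_natIso e.symm
  haveI : PreservesFiniteColimits (K ⋙ E) := preservesFiniteColimits_of_natIso e.symm
  haveI hK1 : PreservesFiniteLimits K :=
    haveI : ∀ {a b : (cohFP' 𝔛 h).FullSubcategory} (f : a ⟶ b), PreservesLimit (parallelPair f 0) K := fun f => by
      haveI : PreservesLimit (parallelPair f 0) (K ⋙ (indFP 𝔛 h).ι) :=
        haveI := (cohFP' 𝔛 h).preservesKernels_ι f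
        ‹PreservesLimit (parallelPair f 0) (cohFP' 𝔛 h).ι›
      exact preservesLimit_of_reflects_of_preserves K (indFP 𝔛 h).ι
    Functor.preservesFiniteLimits_of_preservesKernels _
  haveI hK2 : PreservesFiniteColimits K :=
    haveI : ∀ {a b : (cohFP' 𝔛 h).FullSubcategory} (f : a ⟶ b), PreservesColimit (parallelPair f 0) K := fun f => by
      haveI : PreservesColimit (parallelPair f 0) (K ⋙ (indFP 𝔛 h).ι) :=
        haveI := (cohFP' 𝔛 h).preservesCokernels_ι f
        ‹PreservesColimit (parallelPair f 0) (cohFP' 𝔛 h).ι›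
      exact preservesColimit_of_reflects_of_preserves K (indFP 𝔛 h).ι
    Functor.preservesFiniteColimits_of_preservesCokernels _
  have hker : ∀ {M N : (indFP 𝔛 h).FullSubcategory} (f : M ⟶ N), PreservesLimit (parallelPair f 0) E := by
    intro M N f
    refine Ind.induction_on_morphisms.{u} K (P := fun g => PreservesLimit (parallelPair g 0) E)
      (fun {a b} g => ?_) (fun φ c₁ c₂ h₁ h₂ f hf H => ?_) f
    · have hl := isLimitOfHasKernelOfPreservesLimit K g
      exact preservesLimit_of_preserves_limit_cone hl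
        ((isLimitMapConeForkEquiv' E (show K.map (kernel.ι g) ≫ K.map g = 0 by
          rw [← Functor.map_comp, kernel.condition, Functor.map_zero])).symm
          (isLimitOfHasKernelOfPreservesLimit (K ⋙ E) g))
    · refine (Ind.preserves_of_colimit.{u} E φ h₁ h₂ f hf).1 (fun L _ _ _ => inferInstance) (fun L _ _ _ => ?_) H
      haveI : HasExactColimitsOfShape L (indFP 𝔛 h).FullSubcategory :=
        HasExactColimitsOfShape.domain_of_functor L (indFP 𝔛 h).ι
      infer_instance
  have hcok : ∀ {M N : (indFP 𝔛 h).FullSubcategory} (f : M ⟶ N), PreservesColimit (parallelPair f 0) E := by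
    intro M N f
    refine Ind.induction_on_morphisms.{u} K (P := fun g => PreservesColimit (parallelPair g 0) E)
      (fun {a b} g => ?_) (fun φ c₁ c₂ h₁ h₂ f hf H => ?_) f
    · have hl := isColimitOfHasCokernelOfPreservesColimit K g
      exact preservesColimit_of_preserves_colimit_cocone hl
        ((isColimitMapCoconeCoforkEquiv' E (show K.map g ≫ K.map (cokernel.π g) = 0 by
          rw [← Functor.map_comp, cokernel.condition, Functor.map_zero])).symm
          (isColimitOfHasCokernelOfPreservesColimit (K ⋙ E) g))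
    · exact (Ind.preserves_of_colimit.{u} E φ h₁ h₂ f hf).2 H
  haveI := fun {M N : (indFP 𝔛 h).FullSubcategory} (f : M ⟶ N) => hker f
  haveI := fun {M N : (indFP 𝔛 h).FullSubcategory} (f : M ⟶ N) => hcok f
  exact ⟨Functor.preservesFiniteLimits_of_preservesKernels E, Functor.preservesFiniteColimits_of_preservesCokernels E⟩

end GrothLib.FCat7
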