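import Groth.Agent.Lib.FCat7.Bridge

/-!
# Relations of arbitrary finite families over a smaller affine open
-/

set_option autoImplicit false
set_option linter.style.haveILetI false
set_option linter.unusedSectionVars false
universe u

open CategoryTheory CategoryTheory.Limits AlgebraicGeometry TopologicalSpace Opposite

noncomputable section

namespace GrothLib.FCat7

open GrothLib.FMod7

variable {𝔛 : FSch.Sys.{u}} {h : 𝔛.IsFormal} {U V : (𝔛.X 0).Opens}
  (hN : 𝔛.IsLocNoethFormal) (hU : IsAffineOpen U) (hV : IsAffineOpen V) (hVU : V ≤ U)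
  {ι : Type} [Fintype ι]

section Mods

variable {𝔐 : FSch.ModSys 𝔛} (h𝔐 : 𝔐.IsCoh) (m : ι → Mods h U 𝔐)
include hN hU hV h𝔐

/-- Relations of any finite family over a smaller affine open are generated by those over the larger one. -/
theorem relations_mRes' (y : ι → Sec 𝔛 h V) (hy : ∑ i, y i • mRes hVU (m i) = 0) :
    y ∈ Submodule.span (Sec 𝔛 h V) ((fun b : ι → Sec 𝔛 h U => fun i => rRes hVU (b i)) ''
      {b | ∑ i, b i • m i = 0}) := by
  classical
  haveI := isNoetherianRing_Sec (h := h) hN hU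
  haveI := isNoetherianRing_Sec (h := h) hN hV
  haveI := moduleFinite_mods (h := h) hN hU h𝔐
  obtain ⟨c₀, hc₀⟩ := (secIdeal 𝔛 h U).exists_pow_inf_eq_pow_smul
    (Submodule.span (Sec 𝔛 h U) (Set.range m))
  set T := Submodule.span (Sec 𝔛 h V) ((fun b : ι → Sec 𝔛 h U => fun i => rRes hVU (b i)) ''
      {b | ∑ i, b i • m i = 0})
  have hres : ∀ (k : ℕ) (c : Sec 𝔛 h U), c ∈ secIdeal 𝔛 h U ^ (k + 1) → rRes hVU c ∈ secIdeal 𝔛 h V ^ (k + 1) :=
    fun k c hc => (ker_proj hN hV k).le (RingHom.mem_ker.2 ((proj_res h U hVU k c).trans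
      ((congrArg _ ((ker_proj hN hU k).ge hc)).trans (map_zero _))))
  suffices key : ∀ k, ∃ s ∈ T, ∀ i, y i - s i ∈ secIdeal 𝔛 h V ^ (k + 1) by
    have hb := Ideal.iInf_pow_smul_eq_bot_of_le_jacobson (secIdeal 𝔛 h V) (M := (ι → Sec 𝔛 h V) ⧸ T)
      (secIdeal_le_jacobson hN hV)
    have : T.mkQ y ∈ (⨅ n : ℕ, secIdeal 𝔛 h V ^ n • ⊤ : Submodule (Sec 𝔛 h V) ((ι → Sec 𝔛 h V) ⧸ T)) := by
      refine Submodule.mem_iInf _ |>.2 fun n => ?_
      obtain ⟨s, hs, hsy⟩ := key n
      have hys : T.mkQ y = ∑ i, (y i - s i) • T.mkQ (Pi.single i 1) := by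
        rw [← sub_zero (T.mkQ y), ← (Submodule.Quotient.mk_eq_zero T).2 hs]
        show T.mkQ y - T.mkQ s = _
        rw [← map_sub]
        conv_lhs => rw [pi_eq_sum_univ (y - s)]
        rw [map_sum]
        refine Finset.sum_congr rfl fun i _ => ?_
        rw [map_smul]
        congr 2
        funext j
        simp [Pi.single_apply, eq_comm]
      rw [hys]
      refine Submodule.sum_mem _ fun i _ => Submodule.smul_mem_smul ?_ Submodule.mem_top
      exact Ideal.pow_le_pow_right (Nat.le_succ n) (hsy i)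
    rw [hb] at this
    exact (Submodule.Quotient.mk_eq_zero T).1 this
  intro k
  let n := k + c₀
  haveI := (h𝔐 n).1
  have h0 : ∑ i, proj 𝔛 h V n (y i) • (𝔐.F n).presheaf.map (homOfLE (lvU_mono (h := h) hVU n)).op
      (mProj h U 𝔐 n (m i)) = 0 := by
    have := congrArg (mProj h V 𝔐 n) hy
    rw [sum_smul_proj] at this
    refine Eq.trans (Finset.sum_congr rfl fun i _ => ?_)
      (this.trans (map_zero (AddMonoidHom.mk' (mProj h V 𝔐 n) (sProj_add h V _ _ n))))
    exact congrArg (proj 𝔛 h V n (y i) • ·) (sProj_res h _ _ hVU n (m i)).symm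
  suffices H : ∀ z ∈ Submodule.span (LSec 𝔛 h V n) ((fun b : ι → LSec 𝔛 h U n => fun i =>
      (𝔛.X n).presheaf.map (homOfLE (lvU_mono (h := h) hVU n)).op (b i)) ''
        {b | ∑ i, b i • mProj h U 𝔐 n (m i) = 0}),
      ∃ s ∈ T, ∃ w : ι → Sec 𝔛 h V, (∀ i, proj 𝔛 h V n (w i) = z i) ∧
        ∀ i, w i - s i ∈ secIdeal 𝔛 h V ^ (k + 1) by
    obtain ⟨s, hs, w, hw, hws⟩ := H _ (mem_span_relations (𝔐.F n) (FFormal7.isAffineOpen_lvU 𝔛 h hU n)
      (FFormal7.isAffineOpen_lvU 𝔛 h hV n) (lvU_mono (h := h) hVU n) _ (fun i => proj 𝔛 h V n (y i)) h0)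
    refine ⟨s, hs, fun i => ?_⟩
    have h1 : y i - w i ∈ secIdeal 𝔛 h V ^ (k + 1) :=
      Ideal.pow_le_pow_right (by omega) ((ker_proj hN hV n).le (RingHom.mem_ker.2 (by rw [map_sub, hw, sub_self])))
    simpa using add_mem h1 (hws i)
  intro z hz
  refine Submodule.span_induction ?_ ⟨0, zero_mem _, 0, fun i => map_zero _, fun i => by simp⟩ ?_ ?_ hz
  · rintro _ ⟨b, hb, rfl⟩
    choose a ha using fun i => proj_surjective hN hU n (b i)
    have h1 : mProj h U 𝔐 n (∑ i, a i • m i) = 0 := by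
      rw [sum_smul_proj]
      simpa [ha] using hb
    have h2 : ∑ i, a i • m i ∈ secIdeal 𝔛 h U ^ (k + 1) • Submodule.span (Sec 𝔛 h U) (Set.range m) := by
      have h3 := Submodule.mem_inf.2 ⟨(mProj_eq_zero_iff hN hU h𝔐 n _).1 h1,
        Submodule.sum_mem (Submodule.span (Sec 𝔛 h U) (Set.range m)) fun i (_ : i ∈ Finset.univ) =>
          Submodule.smul_mem _ (a i) (Submodule.subset_span ⟨i, rfl⟩)⟩
      rw [hc₀ (n + 1) (by omega), show n + 1 - c₀ = k + 1 by omega] at h3
      exact Submodule.smul_mono le_rfl inf_le_right h3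
    rw [Submodule.mem_ideal_smul_span_iff_exists_sum] at h2
    obtain ⟨c, hc, hcm⟩ := h2
    refine ⟨fun i => rRes hVU (a i - c i), Submodule.subset_span ⟨fun i => a i - c i, ?_, rfl⟩,
      fun i => rRes hVU (a i), fun i => (proj_res h U hVU n (a i)).trans (congrArg _ (ha i)), fun i => ?_⟩
    · show ∑ i, (a i - c i) • m i = 0
      simp only [sub_smul, Finset.sum_sub_distrib]
      rw [← hcm]
      exact sub_eq_zero.2 (Finsupp.sum_fintype c _ fun i => zero_smul (Sec 𝔛 h U) (m i))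
    · show rRes hVU (a i) - rRes hVU (a i - c i) ∈ _
      rw [← map_sub, sub_sub_cancel]
      exact hres k _ (hc i)
  · rintro a b _ _ ⟨s, hs, w, hw, hws⟩ ⟨s', hs', w', hw', hws'⟩
    exact ⟨s + s', add_mem hs hs', w + w', fun i => by rw [Pi.add_apply, map_add, hw, hw', Pi.add_apply],
      fun i => by simpa [add_sub_add_comm] using add_mem (hws i) (hws' i)⟩
  · rintro r b _ ⟨s, hs, w, hw, hws⟩
    obtain ⟨a, rfl⟩ := proj_surjective hN hV n r
    exact ⟨a • s, Submodule.smul_mem _ _ hs, a • w, fun i => by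
      rw [Pi.smul_apply, smul_eq_mul, map_mul, hw, Pi.smul_apply, smul_eq_mul], fun i => by
      simpa [← mul_sub] using Ideal.mul_mem_left _ a (hws i)⟩

end Mods

section Coh

variable {F : FSch.ModF 𝔛 h} [FSch.IsCohF 𝔛 h F] (m : ι → ModSite.sect F U)
include hN hU hV

/-- Relations of any finite family of sections over a smaller affine open. -/
theorem relations_sres' (y : ι → Sec 𝔛 h V) (hy : ∑ i, y i • sres F hVU (m i) = 0) :
    y ∈ Submodule.span (Sec 𝔛 h V) ((fun b : ι → Sec 𝔛 h U => fun i => rRes hVU (b i)) ''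
      {b | ∑ i, b i • m i = 0}) := by
  have h1 : ∑ i, y i • mRes hVU (ηSec F U (m i)) = 0 := by
    have e := congrArg (secEquiv F hN V) hy
    rw [map_sum, map_zero] at e
    refine Eq.trans (Finset.sum_congr rfl fun i _ => ?_) e
    rw [map_smul]
    exact congrArg (y i • ·) (ηSec_sres hN hVU (m i)).symm
  refine Submodule.span_mono (Set.image_mono fun b hb => ?_)
    (relations_mRes' (h := h) hN hU hV hVU isCoh_pullSys (fun i => ηSec F U (m i)) y h1)
  refine (secEquiv F hN U).injective ?_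
  rw [map_sum, map_zero]
  exact Eq.trans (Finset.sum_congr rfl fun i _ => map_smul _ _ _) hb

end Coh

end GrothLib.FCat7
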