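import Groth.Agent.Lib.FCat7.Crit
import Groth.Agent.Lib.FCat7.Rel

/-!
# Kernels and cokernels of morphisms of coherent modules are coherent
-/

set_option autoImplicit false
set_option linter.style.haveILetI false
set_option linter.unusedSectionVars false
universe u

open CategoryTheory CategoryTheory.Limits AlgebraicGeometry TopologicalSpace Opposite

noncomputable section

namespace GrothLib.FCat7

open GrothLib.FMod7

variable {𝔛 : FSch.Sys.{u}} {h : 𝔛.IsFormal} {F G : FSch.ModF 𝔛 h}

theorem exists_affine_nhd (p : 𝔛.X 0) : ∃ U : (𝔛.X 0).Opens, IsAffineOpen U ∧ p ∈ U := by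
  obtain ⟨U, hU, hp, -⟩ := exists_isAffineOpen_mem_and_subset (x := p) (U := (⊤ : (𝔛.X 0).Opens)) trivial
  exact ⟨U, hU, hp⟩

theorem sres_comb {U W : (𝔛.X 0).Opens} (hWU : W ≤ U) {ι : Type*} [Fintype ι] (b : ι → Sec 𝔛 h U)
    (g : ι → ModSite.sect F U) : sres F hWU (∑ i, b i • g i) = ∑ i, rRes hWU (b i) • sres F hWU (g i) :=
  sres_sum hWU b g

variable (hN : 𝔛.IsLocNoethFormal) [FSch.IsCohF 𝔛 h F] [FSch.IsCohF 𝔛 h G]
include hN

/-- Relations among sections of a submodule of a coherent module. -/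
theorem rel_of_mono {M : FSch.ModF 𝔛 h} (i : M ⟶ F) [Mono i] {U V W : (𝔛.X 0).Opens} (hU : IsAffineOpen U)
    (hW : IsAffineOpen W) (hV : V ≤ U) (hWV : W ≤ V) {n : ℕ} (s : Fin n → ModSite.sect M U)
    (y : Fin n → Sec 𝔛 h V) (hy : ∑ k, y k • sres M hV (s k) = 0) :
    (fun k => rRes hWV (y k)) ∈ Submodule.span (Sec 𝔛 h W)
      ((fun b : Fin n → Sec 𝔛 h U => fun k => rRes (hWV.trans hV) (b k)) '' {b | ∑ k, b k • s k = 0}) := by
  have h1 : ∑ k, rRes hWV (y k) • sres F (hWV.trans hV) (sHom i U (s k)) = 0 := by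
    have h2 : sres M hWV (∑ k, y k • sres M hV (s k)) = 0 :=
      (congrArg (sres M hWV) hy).trans (map_zero (M.val.map (homOfLE hWV).op).hom)
    rw [sres_comb] at h2
    have h3 := congrArg (sHom i W) h2
    rw [map_zero, map_sum] at h3
    refine Eq.trans (Finset.sum_congr rfl fun k _ => ?_) h3
    refine Eq.trans (congrArg (rRes hWV (y k) • ·) ?_) ((sHom i W).map_smul _ _).symm
    exact (sHom_res i _ (s k)).symm.trans (congrArg (sHom i W) (sres_sres hV hWV (s k)).symm)
  refine Submodule.span_mono (Set.image_mono fun b hb => ?_)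
    (relations_sres' hN hU hW (hWV.trans hV) (fun k => sHom i U (s k)) _ h1)
  refine sHom_injective i U ?_
  refine (map_sum (sHom i U) _ _).trans (Eq.trans ?_ (hb.trans (map_zero (sHom i U)).symm))
  exact Finset.sum_congr rfl fun k _ => (sHom i U).map_smul _ _

set_option maxHeartbeats 1000000 in
/-- The kernel of a morphism of coherent modules is coherent. -/
theorem isCohF_kernel (φ : F ⟶ G) : FSch.IsCohF 𝔛 h (kernel φ) := by
  classical
  refine isCohF_of_presentations fun p => ?_
  obtain ⟨U, hU, hpU⟩ := exists_affine_nhd (𝔛 := 𝔛) p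
  refine ⟨U, hpU, ?_⟩
  haveI := isNoetherianRing_Sec (h := h) hN hU
  haveI := moduleFinite_sect (F := F) hN hU
  obtain ⟨e, m, hm⟩ := Submodule.fg_iff_exists_fin_generating_family.1
    (Module.Finite.fg_top (R := Sec 𝔛 h U) (M := ModSite.sect F U))
  obtain ⟨n, t, ht⟩ := Submodule.fg_iff_exists_fin_generating_family.1
    (IsNoetherian.noetherian (LinearMap.ker (sHom φ U)))
  have ht0 : ∀ i, sHom φ U (t i) = 0 := fun i =>
    LinearMap.mem_ker.1 (ht ▸ Submodule.subset_span ⟨i, rfl⟩ : t i ∈ LinearMap.ker (sHom φ U))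
  choose s hs using fun i => exists_kernel_sect φ U (t i) (ht0 i)
  refine exists_presentation_of_local hN hU s (fun V hV x q hq => ?_) (fun V hV y hy q hq => ?_)
  · obtain ⟨W, hW, hqW, hWV'⟩ := exists_isAffineOpen_mem_and_subset (x := q) (U := V) hq
    have hWV : W ≤ V := hWV'
    have hWU : W ≤ U := hWV.trans hV
    refine ⟨W, hWV, hqW, ?_⟩
    let z := sHom (kernel.ι φ) W (sres (kernel φ) hWV x)
    obtain ⟨a, ha⟩ := (Submodule.mem_span_range_iff_exists_fun _).1
      ((span_sres_eq_top hN hU hW hWU hm).symm ▸ Submodule.mem_top : z ∈ _)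
    have hrel : ∑ i, a i • sres G hWU (sHom φ U (m i)) = 0 := by
      have h1 : sHom φ W z = 0 := sHom_eq_zero (kernel.condition φ) W _
      rw [← ha, map_sum] at h1
      refine Eq.trans (Finset.sum_congr rfl fun i _ => ?_) h1
      rw [map_smul, sHom_res]
    have hmem := relations_sres' (F := G) hN hU hW hWU (fun i => sHom φ U (m i)) a hrel
    let Λ : (Fin e → Sec 𝔛 h W) →ₗ[Sec 𝔛 h W] ModSite.sect F W :=
      Fintype.linearCombination (Sec 𝔛 h W) fun i => sres F hWU (m i)
    have hz : z ∈ Submodule.span (Sec 𝔛 h W) (Set.range fun i => sres F hWU (t i)) := by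
      have := Submodule.mem_map_of_mem (f := Λ) hmem
      rw [show Λ a = z from ha, Submodule.map_span, ← Set.image_comp] at this
      refine Submodule.span_le.2 ?_ this
      rintro _ ⟨b, hb, rfl⟩
      have hbk : ∑ i, b i • m i ∈ LinearMap.ker (sHom φ U) := by
        rw [LinearMap.mem_ker, map_sum]
        refine Eq.trans (Finset.sum_congr rfl fun i _ => map_smul _ _ _) hb
      rw [← ht] at hbk
      obtain ⟨c, hc⟩ := (Submodule.mem_span_range_iff_exists_fun _).1 hbk
      show Λ (fun i => rRes hWU (b i)) ∈ _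
      rw [show Λ (fun i => rRes hWU (b i)) = sres F hWU (∑ i, b i • m i) from
        (sres_comb hWU b m).symm, ← hc, sres_comb]
      exact Submodule.sum_mem _ fun i _ => Submodule.smul_mem _ _ (Submodule.subset_span ⟨i, rfl⟩)
    have hspan : Submodule.span (Sec 𝔛 h W) (Set.range fun i => sres F hWU (t i)) =
        Submodule.map (sHom (kernel.ι φ) W) (Submodule.span (Sec 𝔛 h W) (Set.range fun i => sres (kernel φ) hWU (s i))) := by
      rw [Submodule.map_span, ← Set.range_comp]
      exact congrArg _ (congrArg Set.range (funext fun i =>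
        ((sHom_res (kernel.ι φ) hWU (s i)).trans (congrArg (sres F hWU) (hs i))).symm))
    rw [hspan] at hz
    obtain ⟨w, hw, hwz⟩ := hz
    have ew : w = sres (kernel φ) hWV x := sHom_injective (kernel.ι φ) W hwz
    exact Eq.subst (motive := fun v => v ∈ _) ew hw
  · obtain ⟨W, hW, hqW, hWV'⟩ := exists_isAffineOpen_mem_and_subset (x := q) (U := V) hq
    exact ⟨W, hWV', hqW, rel_of_mono hN (kernel.ι φ) hU hW hV hWV' s y hy⟩

set_option maxHeartbeats 400000 in
/-- The cokernel of a morphism of coherent modules is coherent. -/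
theorem isCohF_cokernel (φ : F ⟶ G) : FSch.IsCohF 𝔛 h (cokernel φ) := by
  classical
  refine isCohF_of_presentations fun p => ?_
  obtain ⟨U, hU, hpU⟩ := exists_affine_nhd (𝔛 := 𝔛) p
  refine ⟨U, hpU, ?_⟩
  haveI := isNoetherianRing_Sec (h := h) hN hU
  haveI := moduleFinite_sect (F := F) hN hU
  haveI := moduleFinite_sect (F := G) hN hU
  obtain ⟨e, m, hm⟩ := Submodule.fg_iff_exists_fin_generating_family.1
    (Module.Finite.fg_top (R := Sec 𝔛 h U) (M := ModSite.sect F U))
  obtain ⟨n, g, hg⟩ := Submodule.fg_iff_exists_fin_generating_family.1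
    (Module.Finite.fg_top (R := Sec 𝔛 h U) (M := ModSite.sect G U))
  choose A hA using fun j => (Submodule.mem_span_range_iff_exists_fun _).1
    (hg.symm ▸ Submodule.mem_top : sHom φ U (m j) ∈ Submodule.span (Sec 𝔛 h U) (Set.range g))
  refine exists_presentation_of_local hN hU (fun i => sHom (cokernel.π φ) U (g i)) (fun V hV x q hq => ?_)
    (fun V hV y hy q hq => ?_)
  · obtain ⟨V', hV', hqV', x', hx'⟩ := exists_local_preimage (cokernel.π φ) x hq
    obtain ⟨W, hW, hqW, hWV''⟩ := exists_isAffineOpen_mem_and_subset (x := q) (U := V') hqV'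
    have hWV' : W ≤ V' := hWV''
    have hWU : W ≤ U := (hWV'.trans hV').trans hV
    refine ⟨W, hWV'.trans hV', hqW, ?_⟩
    obtain ⟨a, ha⟩ := (Submodule.mem_span_range_iff_exists_fun _).1
      ((span_sres_eq_top hN hU hW hWU hg).symm ▸ Submodule.mem_top : sres G hWV' x' ∈ _)
    refine (Submodule.mem_span_range_iff_exists_fun _).2 ⟨a, ?_⟩
    rw [← sres_sres hV' hWV', ← hx', ← sHom_res, ← ha, map_sum]
    refine Finset.sum_congr rfl fun i _ => ?_
    rw [map_smul, sHom_res]
  · have h0 : sHom (cokernel.π φ) V (∑ i, y i • sres G hV (g i)) = 0 := by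
      rw [map_sum]
      refine Eq.trans (Finset.sum_congr rfl fun i _ => ?_) hy
      rw [map_smul, sHom_res]
    obtain ⟨V', hV', hqV', f, hf⟩ := exists_local_preimage_of_exact
      (ShortComplex.mk φ (cokernel.π φ) (cokernel.condition φ)) (ShortComplex.exact_cokernel φ)
      (∑ i, y i • sres G hV (g i)) h0 hq
    obtain ⟨W, hW, hqW, hWV''⟩ := exists_isAffineOpen_mem_and_subset (x := q) (U := V') hqV'
    have hWV' : W ≤ V' := hWV''
    have hWV : W ≤ V := hWV'.trans hV'
    have hWU : W ≤ U := hWV.trans hV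
    refine ⟨W, hWV, hqW, ?_⟩
    obtain ⟨c, hc⟩ := (Submodule.mem_span_range_iff_exists_fun _).1
      ((span_sres_eq_top hN hU hW hWU hm).symm ▸ Submodule.mem_top : sres F hWV' f ∈ _)
    have e1 : ∑ j, c j • sres G hWU (sHom φ U (m j)) = ∑ i, rRes hWV (y i) • sres G hWU (g i) := by
      have h1 : sHom φ W (sres F hWV' f) = sres G hWV (∑ i, y i • sres G hV (g i)) :=
        (sHom_res φ hWV' f).trans ((congrArg (sres G hWV') hf).trans (sres_sres hV' hWV' _))
      rw [← hc, map_sum, sres_comb] at h1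
      refine Eq.trans (Finset.sum_congr rfl fun j _ => ?_) (h1.trans (Finset.sum_congr rfl fun i _ => ?_))
      · rw [map_smul, sHom_res]
      · rw [sres_sres]
    have e2 : ∑ i, (rRes hWV (y i) - ∑ j, c j * rRes hWU (A j i)) • sres G hWU (g i) = 0 := by
      simp only [sub_smul, Finset.sum_sub_distrib, Finset.sum_smul, mul_smul]
      rw [Finset.sum_comm, sub_eq_zero, ← e1]
      refine Finset.sum_congr rfl fun j _ => ?_
      rw [← Finset.smul_sum, ← sres_comb, hA]
    have h2 := relations_sres' hN hU hW hWU g _ e2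
    set T := Submodule.span (Sec 𝔛 h W) ((fun b : Fin n → Sec 𝔛 h U => fun i => rRes hWU (b i)) ''
      {b | ∑ i, b i • sHom (cokernel.π φ) U (g i) = 0})
    have hsub : (fun i => rRes hWV (y i) - ∑ j, c j * rRes hWU (A j i)) ∈ T := by
      refine Submodule.span_mono (Set.image_mono fun b hb => ?_) h2
      have := congrArg (sHom (cokernel.π φ) U) hb
      rw [map_sum, map_zero] at this
      exact Eq.trans (Finset.sum_congr rfl fun i _ => (map_smul _ _ _).symm) this
    have hA' : ∀ j, (fun i => rRes hWU (A j i)) ∈ T := fun j => Submodule.subset_span ⟨A j, by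
      have := congrArg (sHom (cokernel.π φ) U) (hA j)
      rw [map_sum, sHom_eq_zero (cokernel.condition φ)] at this
      exact Eq.trans (Finset.sum_congr rfl fun i _ => (map_smul _ _ _).symm) this, rfl⟩
    have := add_mem hsub (Submodule.sum_mem T fun j (_ : j ∈ Finset.univ) => Submodule.smul_mem _ (c j) (hA' j))
    convert this using 1
    funext i
    simp [Finset.sum_apply]

end GrothLib.FCat7
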