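import Groth.Agent.Lib.FCat7.BasicOpen
import Groth.Agent.Lib.FCat7.Acyclic
import Groth.Prelude.Def_FTors2

/-!
# Torsion sections of modules on a formal scheme
-/

set_option autoImplicit false
set_option linter.style.haveILetI false
set_option linter.unusedSectionVars false
universe u

open CategoryTheory CategoryTheory.Limits AlgebraicGeometry TopologicalSpace Opposite

noncomputable section

namespace GrothLib.FCat7

open GrothLib.FMod7

variable {𝔛 : FSch.Sys.{u}} {h : 𝔛.IsFormal} {M : FSch.ModF 𝔛 h} {U V : (𝔛.X 0).Opens}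

/-- Killed by the kernel of the projection to a level. -/
abbrev Killed (n : ℕ) (s : ModSite.sect M U) : Prop := FTors.KilledBy (FTors.openIdealFam 𝔛 h) M n s

theorem Killed.res {n : ℕ} {s : ModSite.sect M U} (hs : Killed n s) (hVU : V ≤ U) : Killed n (sres M hVU s) :=
  FTors.KilledBy.res (homOfLE hVU) hs

theorem Killed.smul_sres {n : ℕ} {s : ModSite.sect M U} (hs : Killed n s) (hVU : V ≤ U) {a : Sec 𝔛 h V}
    (ha : proj 𝔛 h V n a = 0) : a • sres M hVU s = 0 :=
  hs (homOfLE hVU) a (RingHom.mem_ker.2 ha)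

variable (hN : 𝔛.IsLocNoethFormal)
include hN

theorem Killed.smul_mem {n : ℕ} {s : ModSite.sect M U} (hs : Killed n s) (hVU : V ≤ U) (hV : IsAffineOpen V)
    {a : Sec 𝔛 h V} (ha : a ∈ secIdeal 𝔛 h V ^ (n + 1)) : a • sres M hVU s = 0 :=
  hs.smul_sres hVU (RingHom.mem_ker.1 ((ker_proj hN hV n).ge ha))

theorem Killed.smul_mem_self {n : ℕ} {s : ModSite.sect M U} (hs : Killed n s) (hU : IsAffineOpen U)
    {a : Sec 𝔛 h U} (ha : a ∈ secIdeal 𝔛 h U ^ (n + 1)) : a • s = 0 :=
  (congrArg (a • ·) (sres_id s).symm).trans (hs.smul_mem hN le_rfl hU ha)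

theorem killed_of_forall_mem (hU : IsAffineOpen U) {n : ℕ} {s : ModSite.sect M U}
    (H : ∀ a ∈ secIdeal 𝔛 h U ^ (n + 1), a • s = 0) : Killed n s := by
  intro W g b hb
  refine sect_ext M _ _ fun p hp => ?_
  obtain ⟨V, hV, hpV, hVW'⟩ := exists_isAffineOpen_mem_and_subset (x := p) (U := W) hp
  have hVW : V ≤ W := hVW'
  refine ⟨V, hVW, hpV, ?_⟩
  have hb' : rRes hVW b ∈ secIdeal 𝔛 h V ^ (n + 1) := (ker_proj hN hV n).le (RingHom.mem_ker.2
    ((proj_res h W hVW n b).trans ((congrArg _ (RingHom.mem_ker.1 hb)).trans (map_zero _))))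
  rw [← map_secIdeal_pow hN hU hV (hVW.trans g.le), Ideal.map] at hb'
  refine (M.val.map_smul (homOfLE hVW).op b _).trans (Eq.trans ?_ (map_zero (M.val.map (homOfLE hVW).op).hom).symm)
  show rRes hVW b • sres M hVW (sres M g.le s) = 0
  rw [sres_sres]
  refine Submodule.span_induction ?_ ?_ ?_ ?_ hb'
  · rintro _ ⟨a, ha, rfl⟩
    exact (M.val.map_smul (homOfLE (hVW.trans g.le)).op a s).symm.trans
      ((congrArg (sres M (hVW.trans g.le)) (H a ha)).trans (map_zero (M.val.map (homOfLE (hVW.trans g.le)).op).hom))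
  · exact zero_smul _ _
  · intro x y _ _ hx hy
    rw [add_smul, hx, hy, add_zero]
  · intro c x _ hx
    rw [smul_eq_mul, mul_smul, hx, smul_zero]

theorem killed_of_local {n : ℕ} {s : ModSite.sect M U}
    (H : ∀ p ∈ U, ∃ (V : (𝔛.X 0).Opens) (hV : V ≤ U), p ∈ V ∧ Killed n (sres M hV s)) : Killed n s := by
  intro W g b hb
  refine sect_ext M _ _ fun p hp => ?_
  obtain ⟨V, hV, hpV, hk⟩ := H p (g.le hp)
  refine ⟨W ⊓ V, inf_le_left, ⟨hp, hpV⟩, ?_⟩
  have hb' : proj 𝔛 h (W ⊓ V) n (rRes inf_le_left b) = 0 :=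
    (proj_res h W inf_le_left n b).trans ((congrArg _ (RingHom.mem_ker.1 hb)).trans (map_zero _))
  have := hk.smul_sres (inf_le_right : W ⊓ V ≤ V) hb'
  rw [sres_sres] at this
  refine (M.val.map_smul (homOfLE (inf_le_left : W ⊓ V ≤ W)).op b _).trans
    (Eq.trans ?_ (map_zero (M.val.map (homOfLE (inf_le_left : W ⊓ V ≤ W)).op).hom).symm)
  show rRes inf_le_left b • sres M inf_le_left (sres M g.le s) = 0
  rw [sres_sres]
  exact this

/-- A torsion section over a compact open is killed by one level. -/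
theorem exists_killed {s : ModSite.sect M U} (hs : FTors.IsTorsSect (FTors.openIdealFam 𝔛 h) M s)
    (hU : IsCompact (U : Set (𝔛.X 0))) : ∃ n, Killed n s := by
  classical
  choose V g hg hpV using fun p : U => hs p.1 p.2
  choose m hm using hg
  obtain ⟨t, ht⟩ := hU.elim_finite_subcover (fun p : U => (V p : Set (𝔛.X 0))) (fun p => (V p).2)
    fun p hp => Set.mem_iUnion.2 ⟨⟨p, hp⟩, hpV _⟩
  refine ⟨t.sup m, killed_of_local hN fun p hp => ?_⟩
  obtain ⟨q, hq, hpq⟩ := Set.mem_iUnion₂.1 (ht hp)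
  exact ⟨V q, (g q).le, hpq, FTors.KilledBy.mono (Finset.le_sup hq) (hm q)⟩

theorem Killed.add {n m : ℕ} {s t : ModSite.sect M U} (hs : Killed n s) (ht : Killed m t) :
    Killed (max n m) (s + t) :=
  (FTors.KilledBy.mono (le_max_left n m) hs).add (FTors.KilledBy.mono (le_max_right n m) ht)

omit hN in
theorem isTorsSect_iff_local {s : ModSite.sect M U} :
    FTors.IsTorsSect (FTors.openIdealFam 𝔛 h) M s ↔
      ∀ p ∈ U, ∃ (V : (𝔛.X 0).Opens) (hV : V ≤ U) (n : ℕ), p ∈ V ∧ Killed n (sres M hV s) := by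
  refine ⟨fun hs p hp => ?_, fun H p hp => ?_⟩
  · obtain ⟨V, g, ⟨n, hn⟩, hpV⟩ := hs p hp
    exact ⟨V, g.le, n, hpV, hn⟩
  · obtain ⟨V, hV, n, hpV, hn⟩ := H p hp
    exact ⟨V, homOfLE hV, ⟨n, hn⟩, hpV⟩

section Loc

variable (hU : IsAffineOpen U) (hQ : IsQC M U)
include hU hQ

/-- A killed section vanishing on a basic open is killed by a power. -/
theorem IsQC.exists_pow_smul_eq_zero {n : ℕ} {y : ModSite.sect M U} (hy : Killed n y) (f : Sec 𝔛 h U)
    (h0 : sres M (sBasic_le f) y = 0) : ∃ k : ℕ, f ^ k • y = 0 := by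
  classical
  haveI := isNoetherianRing_Sec (h := h) hN hU
  obtain ⟨l, a, ha⟩ := Submodule.fg_iff_exists_fin_generating_family.1
    (IsNoetherian.noetherian (LinearMap.ker (Fintype.linearCombination (Sec 𝔛 h U) (fun _ : PUnit.{u + 1} => y))))
  have ha0 : ∀ j, a j PUnit.unit • y = 0 := fun j => by
    have hk : a j ∈ LinearMap.ker (Fintype.linearCombination (Sec 𝔛 h U) (fun _ : PUnit.{u + 1} => y)) :=
      ha ▸ Submodule.subset_span ⟨j, rfl⟩
    rwa [LinearMap.mem_ker, Fintype.linearCombination_apply, Fintype.sum_unique] at hk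
  have hD := isAffineOpen_sBasic hU f
  have hmem : (fun _ : PUnit.{u + 1} => (1 : Sec 𝔛 h (sBasic f))) ∈ Submodule.span (Sec 𝔛 h (sBasic f))
      (Set.range fun j : ULift.{u} (Fin l) => fun i => rRes (sBasic_le f) (a j.down i)) := by
    refine mem_span_vec_of_locally hN hD _ _ fun p hp => ?_
    obtain ⟨W', hW', hpW', hm⟩ := hQ.rel PUnit.{u + 1} (fun _ => y) (sBasic f) (sBasic_le f) (fun _ => 1)
      (by rw [Fintype.sum_unique, one_smul, h0]) p hp
    refine ⟨W', hW', hpW', ?_⟩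
    have hm' := span_res_relations (hW'.trans (sBasic_le f)) (fun j : ULift.{u} (Fin l) => a j.down)
      (S := {b | ∑ _i, b _i • y = 0}) (fun b hb => by
        refine Submodule.span_mono (s := Set.range a) ?_ ?_
        · rintro _ ⟨k, rfl⟩; exact ⟨⟨k⟩, rfl⟩
        · rw [ha, LinearMap.mem_ker, Fintype.linearCombination_apply]
          exact hb) hm
    refine Submodule.span_mono ?_ hm'
    rintro _ ⟨j, rfl⟩
    exact ⟨j, funext fun i => ores_ores (sBasic_le f) hW' (a j.down i)⟩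
  obtain ⟨c, hc⟩ := (Submodule.mem_span_range_iff_exists_fun _).1 hmem
  choose kj bj hbj using fun j => exists_pow_mul_sub_mem hN hU n f (c j)
  let K := Finset.univ.sup kj
  let B : Sec 𝔛 h U := ∑ j, f ^ (K - kj j) * bj j * a j.down PUnit.unit
  have hB : B • y = 0 := by
    rw [Finset.sum_smul]
    exact Finset.sum_eq_zero fun j _ => by rw [mul_smul, ha0, smul_zero]
  have hdiff : rRes (sBasic_le f) (f ^ K - B) ∈ secIdeal 𝔛 h (sBasic f) ^ (n + 1) := by
    have e1 : (1 : Sec 𝔛 h (sBasic f)) = ∑ j, c j * rRes (sBasic_le f) (a j.down PUnit.unit) := by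
      have := congrFun hc PUnit.unit
      rw [Finset.sum_apply] at this
      exact this.symm
    have e2 : rRes (sBasic_le f) (f ^ K - B) = ∑ j, rRes (sBasic_le f) (f ^ (K - kj j) * a j.down PUnit.unit) *
        (rRes (sBasic_le f) f ^ kj j * c j - rRes (sBasic_le f) (bj j)) := by
      have e3 : rRes (sBasic_le f) (f ^ K) =
          ∑ j, rRes (sBasic_le f) f ^ K * (c j * rRes (sBasic_le f) (a j.down PUnit.unit)) := by
        rw [← Finset.mul_sum, ← e1, mul_one, map_pow]
      rw [map_sub, e3, map_sum, ← Finset.sum_sub_distrib]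
      refine Finset.sum_congr rfl fun j _ => ?_
      have hK : K = (K - kj j) + kj j := (Nat.sub_add_cancel (Finset.le_sup (Finset.mem_univ j))).symm
      rw [map_mul, map_mul, map_mul, map_pow]
      conv_lhs => rw [hK, pow_add, show (K - kj j + kj j - kj j) = K - kj j by omega]
      ring
    rw [e2]
    exact Ideal.sum_mem _ fun j _ => Ideal.mul_mem_left _ _ (hbj j)
  obtain ⟨k', hk'⟩ := exists_pow_mul_mem hN hU n f _ hdiff
  refine ⟨k' + K, ?_⟩
  have h1 := hy.smul_mem_self hN hU hk'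
  rw [mul_sub, sub_smul, mul_smul (f ^ k') B, hB, smul_zero, sub_zero, ← pow_add] at h1
  exact h1

/-- A section over a basic open extends after multiplication by a power. -/
theorem IsQC.exists_pow_smul_eq_sres (hT : ∀ s : ModSite.sect M U, ∃ n, Killed n s) (f : Sec 𝔛 h U)
    (x : ModSite.sect M (sBasic f)) :
    ∃ (k : ℕ) (y : ModSite.sect M U), sres M (sBasic_le f) y = rRes (sBasic_le f) f ^ k • x := by
  classical
  have hD := isAffineOpen_sBasic hU f
  have hgen : ∀ (V : (𝔛.X 0).Opens) (hV' : V ≤ sBasic f) (m : ModSite.sect M V), ∀ p ∈ V,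
      ∃ (W' : (𝔛.X 0).Opens) (hW' : W' ≤ V), p ∈ W' ∧ sres M hW' m ∈ Submodule.span (Sec 𝔛 h W')
        (Set.range fun s : ModSite.sect M U => sres M (hW'.trans hV') (sres M (sBasic_le f) s)) := fun V hV' m p hp => by
    obtain ⟨W', hW', hpW', hm⟩ := hQ.gen V (hV'.trans (sBasic_le f)) m p hp
    exact ⟨W', hW', hpW', by simpa only [sres_sres] using hm⟩
  obtain ⟨c, hc⟩ := Finsupp.mem_span_range_iff_exists_finsupp.1
    ((hQ.res hN hD (sBasic_le f)).exists_finset hN hD (fun s : ModSite.sect M U => sres M (sBasic_le f) s) hgen x)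
  choose N hNs using hT
  choose ks bs hbs using fun s => exists_pow_mul_sub_mem hN hU (N s) f (c s)
  let K := c.support.sup ks
  refine ⟨K, ∑ s ∈ c.support, (f ^ (K - ks s) * bs s) • s, ?_⟩
  rw [sres_fsum, ← hc, Finsupp.sum, Finset.smul_sum]
  refine Finset.sum_congr rfl fun s hs => sub_eq_zero.1 ?_
  have hK : K = (K - ks s) + ks s := (Nat.sub_add_cancel (Finset.le_sup hs)).symm
  have e : rRes (sBasic_le f) f ^ K * c s - rRes (sBasic_le f) (f ^ (K - ks s) * bs s) =
      rRes (sBasic_le f) f ^ (K - ks s) * (rRes (sBasic_le f) f ^ ks s * c s - rRes (sBasic_le f) (bs s)) := by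
    rw [map_mul, map_pow, mul_sub, ← mul_assoc, ← pow_add, ← hK]
  rw [smul_smul, ← sub_smul, show rRes (sBasic_le f) (f ^ (K - ks s) * bs s) - rRes (sBasic_le f) f ^ K * c s =
    -(rRes (sBasic_le f) f ^ K * c s - rRes (sBasic_le f) (f ^ (K - ks s) * bs s)) by ring, e, neg_smul, mul_smul,
    (hNs s).smul_mem hN (sBasic_le f) hD (hbs s), smul_zero, neg_zero]

end Loc

end GrothLib.FCat7
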