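import Groth.Agent.Lib.FCat7.Kernels

/-!
# Injective and surjective morphisms of coherent modules form open subsets
-/

set_option autoImplicit false
set_option linter.style.haveILetI false
set_option linter.unusedSectionVars false
universe u

open CategoryTheory CategoryTheory.Limits AlgebraicGeometry TopologicalSpace Opposite

noncomputable section

namespace GrothLib.FCat7

open GrothLib.FMod7

/-- Perturbations of an injective map by highly divisible ones are injective. -/
theorem exists_bound_injective {A : Type*} [CommRing A] [IsNoetherianRing A] (I : Ideal A)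
    (hI : I ≤ (⊥ : Ideal A).jacobson) {M N : Type*} [AddCommGroup M] [Module A M] [Module.Finite A M]
    [AddCommGroup N] [Module A N] [Module.Finite A N] (θ : M →ₗ[A] N) (hθ : Function.Injective θ) :
    ∃ c : ℕ, ∀ n, c ≤ n → ∀ ψ : M →ₗ[A] N, (∀ x, ψ x ∈ I ^ (n + 1) • (⊤ : Submodule A N)) →
      Function.Injective (θ + ψ) := by
  obtain ⟨c, hc⟩ := I.exists_pow_inf_eq_pow_smul (LinearMap.range θ)
  refine ⟨c, fun n hn ψ hψ => (injective_iff_map_eq_zero _).2 fun x hx => ?_⟩
  have key : ∀ k, x ∈ I ^ k • (⊤ : Submodule A M) := by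
    intro k
    induction k with
    | zero => simp
    | succ k ih =>
      have h1 : θ x ∈ I ^ (k + (n + 1)) • (⊤ : Submodule A N) := by
        have h2 : ψ x ∈ Submodule.map ψ (I ^ k • ⊤) := Submodule.mem_map_of_mem ih
        rw [Submodule.map_smul''] at h2
        have h3 : Submodule.map ψ ⊤ ≤ I ^ (n + 1) • (⊤ : Submodule A N) := by
          rintro _ ⟨z, -, rfl⟩
          exact hψ z
        have h4 := Submodule.smul_mono le_rfl h3 h2
        rw [← Submodule.mul_smul, ← pow_add] at h4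
        rw [LinearMap.add_apply, add_eq_zero_iff_eq_neg] at hx
        rw [hx]
        exact neg_mem h4
      have h5 := Submodule.mem_inf.2 ⟨h1, LinearMap.mem_range_self θ x⟩
      rw [hc _ (by omega)] at h5
      have h6 := Submodule.smul_mono le_rfl (inf_le_right (b := LinearMap.range θ)) h5
      rw [← Submodule.map_top, ← Submodule.map_smul''] at h6
      obtain ⟨z, hz, hzx⟩ := h6
      obtain rfl := hθ hzx
      exact Submodule.smul_mono (Ideal.pow_le_pow_right (by omega)) le_rfl hz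
  have hb := Ideal.iInf_pow_smul_eq_bot_of_le_jacobson I (M := M) hI
  have := (Submodule.mem_iInf (fun k : ℕ => I ^ k • (⊤ : Submodule A M))).2 key
  rwa [hb, Submodule.mem_bot] at this

/-- Perturbations of a surjective map by divisible ones are surjective. -/
theorem surjective_add {A : Type*} [CommRing A] (I : Ideal A) (hI : I ≤ (⊥ : Ideal A).jacobson)
    {M N : Type*} [AddCommGroup M] [Module A M] [AddCommGroup N] [Module A N] [Module.Finite A N]
    (θ ψ : M →ₗ[A] N) (hθ : Function.Surjective θ) (hψ : ∀ x, ψ x ∈ I • (⊤ : Submodule A N)) :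
    Function.Surjective (θ + ψ) := by
  refine LinearMap.range_eq_top.1 (eq_top_iff.2
    (Submodule.le_of_le_smul_of_le_jacobson_bot Module.Finite.fg_top hI fun y _ => ?_))
  obtain ⟨x, rfl⟩ := hθ y
  exact Submodule.mem_sup.2 ⟨(θ + ψ) x, LinearMap.mem_range_self _ x, -ψ x, neg_mem (hψ x), by simp⟩

variable {𝔛 : FSch.Sys.{u}} {h : 𝔛.IsFormal} (hN : 𝔛.IsLocNoethFormal) {F G : FSch.ModF 𝔛 h}
  [FSch.IsCohF 𝔛 h F] [FSch.IsCohF 𝔛 h G]
include hN

theorem mem_pow_of_comp_unit {W : (𝔛.X 0).Opens} (hW : IsAffineOpen W) (n : ℕ) (ψ : F ⟶ G)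
    (hψ : ψ ≫ (FSch.levelMor 𝔛 h n).adj.unit.app G = 0) (x : ModSite.sect F W) :
    sHom ψ W x ∈ secIdeal 𝔛 h W ^ (n + 1) • (⊤ : Submodule (Sec 𝔛 h W) (ModSite.sect G W)) := by
  let e := secEquiv G hN W
  have h0 : mProj h W (pullSys h G) n (e (sHom ψ W x)) = 0 :=
    (mProj_ηSec W (sHom ψ W x) n).trans
      (congrArg (fun φ : F ⟶ (FSch.levelMor 𝔛 h n).push.obj ((FSch.levelMor 𝔛 h n).pull.obj G) =>
        (φ.val.app (op W)).hom x) hψ)
  have h1 := (mProj_eq_zero_iff hN hW isCoh_pullSys n _).1 h0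
  have h2 := Submodule.mem_map_of_mem (f := e.symm.toLinearMap) h1
  rw [Submodule.map_smul'', Submodule.map_top, LinearEquiv.range, LinearEquiv.coe_coe,
    LinearEquiv.symm_apply_apply] at h2
  exact h2

/-- Injective and surjective morphisms are open. -/
theorem exists_level_mono_epi [CompactSpace (𝔛.X 0)] (θ : F ⟶ G) :
    ∃ n : ℕ, ∀ ψ : F ⟶ G, ψ ≫ (FSch.levelMor 𝔛 h n).adj.unit.app G = 0 →
      (Mono θ → Mono (θ + ψ)) ∧ (Epi θ → Epi (θ + ψ)) := by
  classical
  have hb : ∀ W : (𝔛.X 0).affineOpens, ∃ c : ℕ, ∀ n, c ≤ n → ∀ ψ : F ⟶ G,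
      ψ ≫ (FSch.levelMor 𝔛 h n).adj.unit.app G = 0 →
      (Mono θ → Function.Injective (sHom (θ + ψ) W.1)) := by
    intro W
    haveI := isNoetherianRing_Sec (h := h) hN W.2
    haveI := moduleFinite_sect (F := F) hN W.2
    haveI := moduleFinite_sect (F := G) hN W.2
    by_cases hθ : Mono θ
    · obtain ⟨c, hc⟩ := exists_bound_injective (secIdeal 𝔛 h W.1) (secIdeal_le_jacobson hN W.2) (sHom θ W.1)
        (sHom_injective θ W.1)
      exact ⟨c, fun n hn ψ hψ _ => hc n hn (sHom ψ W.1) (mem_pow_of_comp_unit hN W.2 n ψ hψ)⟩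
    · exact ⟨0, fun _ _ _ _ h => absurd h hθ⟩
  choose c hc using hb
  choose W hW hpW using fun p : 𝔛.X 0 => exists_affine_nhd (𝔛 := 𝔛) p
  obtain ⟨t, ht⟩ := isCompact_univ.elim_finite_subcover (fun p : 𝔛.X 0 => (W p : Set (𝔛.X 0))) (fun p => (W p).2)
    fun p _ => Set.mem_iUnion.2 ⟨p, hpW p⟩
  let n := t.sup fun p => c ⟨W p, hW p⟩
  refine ⟨n, fun ψ hψ => ⟨fun hθ => ?_, fun hθ => ?_⟩⟩
  · refine Preadditive.mono_of_cancel_zero _ fun {Z} g hg => hom_ext_basis fun U hU z => ?_
    refine sect_ext F _ _ fun y hy => ?_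
    obtain ⟨p, hp, hyp⟩ := Set.mem_iUnion₂.1 (ht (Set.mem_univ y))
    have hV : U ⊓ W p ≤ U := inf_le_left
    refine ⟨U ⊓ W p, hV, ⟨hy, hyp⟩, ?_⟩
    have hpn : c ⟨W p, hW p⟩ ≤ n := Finset.le_sup (f := fun p => c ⟨W p, hW p⟩) hp
    refine sect_ext F _ _ fun y' hy' => ?_
    obtain ⟨V, hVa, hy'V, hVU'⟩ := exists_isAffineOpen_mem_and_subset (x := y') (U := U ⊓ W p) hy'
    have hVU : V ≤ U ⊓ W p := hVU'
    refine ⟨V, hVU, hy'V, ?_⟩
    rw [sres_sres, sres_sres]
    have hmV : Function.Injective (sHom (θ + ψ) V) := by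
      haveI := moduleFinite_sect (F := F) hN (hW p)
      obtain ⟨l, m, hm⟩ := Submodule.fg_iff_exists_fin_generating_family.1
        (Module.Finite.fg_top (R := Sec 𝔛 h (W p)) (M := ModSite.sect F (W p)))
      have hVW : V ≤ W p := hVU.trans inf_le_right
      refine (injective_iff_map_eq_zero _).2 fun x hx => ?_
      obtain ⟨a, rfl⟩ := (Submodule.mem_span_range_iff_exists_fun _).1
        ((span_sres_eq_top hN (hW p) hVa hVW hm).symm ▸ Submodule.mem_top : x ∈ _)
      rw [map_sum] at hx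
      have h0 : ∑ i, a i • sres G hVW (sHom (θ + ψ) (W p) (m i)) = 0 := by
        refine Eq.trans (Finset.sum_congr rfl fun i _ => ?_) hx
        rw [map_smul, sHom_res]
      have key := relations_sres' hN (hW p) hVa hVW (fun i => sHom (θ + ψ) (W p) (m i)) a h0
      let L : (Fin l → Sec 𝔛 h V) →ₗ[Sec 𝔛 h V] ModSite.sect F V :=
        Fintype.linearCombination (Sec 𝔛 h V) fun i => sres F hVW (m i)
      show L a = 0
      refine LinearMap.mem_ker.1 (Submodule.span_le.2 ?_ key)
      rintro _ ⟨b, hb, rfl⟩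
      have hb0 : ∑ i, b i • m i = 0 := hc ⟨W p, hW p⟩ n hpn ψ hψ hθ (by
        refine ((map_sum (sHom (θ + ψ) (W p)) _ _).trans ?_).trans (map_zero _).symm
        exact (Finset.sum_congr rfl fun i _ => (sHom (θ + ψ) (W p)).map_smul _ _).trans hb)
      refine LinearMap.mem_ker.2 ((Fintype.linearCombination_apply (R := Sec 𝔛 h V) _ _).trans ?_)
      rw [← sres_comb, hb0]
      exact map_zero (F.val.map (homOfLE hVW).op).hom
    apply hmV
    refine Eq.trans (congrArg (sHom (θ + ψ) V) (sHom_res g (hVU.trans hV) z).symm)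
      (Eq.trans ?_ (congrArg (sHom (θ + ψ) V) (sHom_res (0 : Z ⟶ F) (hVU.trans hV) z)))
    refine (congrArg (fun φ : Z ⟶ G => (φ.val.app (op V)).hom (sres Z (hVU.trans hV) z)) hg).trans ?_
    exact (map_zero (sHom (θ + ψ) V)).symm
  · haveI := hθ
    haveI : Sheaf.IsLocallySurjective ((SheafOfModules.toSheaf _).map (θ + ψ)) := by
      constructor
      intro U z y hy
      obtain ⟨V, hV, hyV, hVU⟩ := exists_isAffineOpen_mem_and_subset (x := y) (U := U) hy
      haveI := moduleFinite_sect (F := G) hN hV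
      obtain ⟨x, hx⟩ := surjective_add (secIdeal 𝔛 h V) (secIdeal_le_jacobson hN hV) (sHom θ V) (sHom ψ V)
        (surjective_of_epi hN θ hV) (fun x => by
          have := mem_pow_of_comp_unit hN hV n ψ hψ x
          exact Submodule.smul_mono (Ideal.pow_le_self (Nat.succ_ne_zero n)) le_rfl this)
        (sres G (show V ≤ U from hVU) z)
      exact ⟨V, homOfLE hVU, ⟨x, hx⟩, hyV⟩
    exact (SheafOfModules.toSheaf _).epi_of_epi_map inferInstance

end GrothLib.FCat7
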