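import Groth.Agent.Lib.FMod7.ComplPull
import Groth.Agent.Lib.ModDesc.Approx
import Groth.Prelude.Def_FSch6

/-!
# The inverse image of the module of a coherent system is the module of the inverse image system
-/

set_option autoImplicit false
set_option linter.style.haveILetI false
set_option linter.unusedSectionVars false
universe u

open CategoryTheory CategoryTheory.Limits AlgebraicGeometry TopologicalSpace Opposite

noncomputable section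

namespace GrothLib.FCat7

open GrothLib.FMod7

/-- The transition square of units on the levels. -/
theorem unit_toPush {𝔛 𝔜 : FSch.Sys.{u}} (f : 𝔛 ⟶ 𝔜) (𝔐 : FSch.ModSys 𝔜) (k : ℕ) :
    (Scheme.Modules.pullbackPushforwardAdjunction ((f : FSch.Hom 𝔛 𝔜).app (k + 1))).unit.app (𝔐.F (k + 1)) ≫
      (Scheme.Modules.pushforward ((f : FSch.Hom 𝔛 𝔜).app (k + 1))).map ((FSch.ModSys.pullback f 𝔐).toPush k) ≫
      (Scheme.Modules.pushforwardComp (𝔛.ι k) ((f : FSch.Hom 𝔛 𝔜).app (k + 1))).hom.app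
        ((FSch.ModSys.pullback f 𝔐).F k) ≫
      (Scheme.Modules.pushforwardCongr ((f : FSch.Hom 𝔛 𝔜).comm k).symm).hom.app _ =
    𝔐.toPush k ≫ (Scheme.Modules.pushforward (𝔜.ι k)).map
      ((Scheme.Modules.pullbackPushforwardAdjunction ((f : FSch.Hom 𝔛 𝔜).app k)).unit.app (𝔐.F k)) ≫
      (Scheme.Modules.pushforwardComp ((f : FSch.Hom 𝔛 𝔜).app k) (𝔜.ι k)).hom.app _ := by
  let g := (f : FSch.Hom 𝔛 𝔜).app
  have hc := (f : FSch.Hom 𝔛 𝔜).comm k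
  let N := (FSch.ModSys.pullback f 𝔐).F k
  have h1 := FFormal7.adjunct_lowerMap (M := 𝔐.F (k + 1)) hc (𝟙 ((Scheme.Modules.pullback (g (k + 1))).obj (𝔐.F (k + 1))))
    ((FSch.ModSys.pullback f 𝔐).e k)
  have h2 := FFormal7.adjunct_lowerMap (i := g k) (e' := 𝔜.ι k) (e := g k ≫ 𝔜.ι k) rfl (𝔐.e k).hom
    (Iso.refl ((Scheme.Modules.pullback (g k)).obj (𝔐.F k)))
  have hlow : FFormal7.lowerMap hc (𝟙 ((Scheme.Modules.pullback (g (k + 1))).obj (𝔐.F (k + 1))))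
      ((FSch.ModSys.pullback f 𝔐).e k) = FFormal7.lowerMap (rfl : g k ≫ 𝔜.ι k = g k ≫ 𝔜.ι k) (𝔐.e k).hom
      (Iso.refl ((Scheme.Modules.pullback (g k)).obj (𝔐.F k))) := by
    have e0 : ∀ {A B : Scheme.{u}} {p q : A ⟶ B} (hpq : p = q) (M : B.Modules),
        (Scheme.Modules.pullbackCongr hpq).hom.app M ≫ (Scheme.Modules.pullbackCongr hpq.symm).hom.app M = 𝟙 _ := by
      intro A B p q hpq M
      subst hpq
      simp [Scheme.Modules.pullbackCongr]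
    simp only [FFormal7.lowerMap, FSch.ModSys.pullback_e, FSch.ModSys.pullTrans,
      Iso.trans_hom, Iso.app_hom, Iso.symm_hom, Functor.mapIso_hom, Category.assoc, Iso.refl_hom, g]
    erw [CategoryTheory.Functor.map_id, Category.id_comp, Iso.inv_hom_id_app_assoc,
      reassoc_of% (e0 hc (𝔐.F (k + 1)))]
    simp [Scheme.Modules.pullbackCongr]
  have h := h1.symm.trans ((congrArg (FFormal7.adjunct (g k ≫ 𝔜.ι k)) hlow).trans h2)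
  refine Eq.trans ?_ (h.trans ?_)
  · refine congr_arg₂ (· ≫ ·) ?_ (congr_arg₂ (· ≫ ·) (congrArg _ ?_) rfl)
    · show _ = _ ≫ (Scheme.Modules.pushforward (g (k + 1))).map (𝟙 _)
      erw [CategoryTheory.Functor.map_id, Category.comp_id]
    · exact Adjunction.homEquiv_unit _ _ _ _
  · refine congr_arg₂ (· ≫ ·) (Adjunction.homEquiv_unit _ _ _ _).symm (congr_arg₂ (· ≫ ·) (congrArg _ ?_) ?_)
    · show _ ≫ (Scheme.Modules.pushforward (g k)).map (𝟙 _) = _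
      erw [CategoryTheory.Functor.map_id, Category.comp_id]
    · refine (congrArg (_ ≫ ·) ?_).trans (Category.comp_id _)
      refine Scheme.Modules.hom_ext _ _ fun U => ?_
      ext m
      exact ConcreteCategory.congr_hom (((Scheme.Modules.pullback (g k)).obj (𝔐.F k)).presheaf.map_id _) _

theorem inv_hom_cancel {C D : Type*} [Category C] [Category D] {F G : C ⥤ D} (i : F ≅ G) (X : C) {a b : D} (p : a ⟶ b)
    (q : b ⟶ G.obj X) : (p ≫ q ≫ i.inv.app X) ≫ i.hom.app X = p ≫ q := by simp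

/-- A map into a composite of direct images is adjunct to an isomorphism if its adjunct is a universal projection
followed by a unit. -/
theorem isIso_adjunct_of_proj {C D E G : Type*} [Category C] [Category D] [Category E] [Category G]
    {Fp : D ⥤ C} {Fq : C ⥤ D} (A : Fp ⊣ Fq) {Lp : C ⥤ G} {Lq : G ⥤ C} (L : Lp ⊣ Lq)
    {Sp : E ⥤ G} {Sq : G ⥤ E} (S : Sp ⊣ Sq) (L' : E ⥤ D) (i : Sq ⋙ L' ⟶ Lq ⋙ Fq) (hi : IsIso i)
    {x : D} {m : E} (π₀ : x ⟶ L'.obj m) (hπ : ∀ z, Function.Bijective (fun t : m ⟶ z => π₀ ≫ L'.map t))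
    (p : Fp.obj x ⟶ Lq.obj (Sp.obj m))
    (hp : A.homEquiv _ _ p = π₀ ≫ L'.map (S.unit.app m) ≫ i.app (Sp.obj m)) :
    IsIso ((L.homEquiv _ _).symm p) := by
  refine isIso_of_bijective_precomp _ fun Z => ?_
  refine ((L.homEquiv _ _).bijective.of_comp_iff' _).1 (((A.homEquiv _ _).bijective.of_comp_iff' _).1 ?_)
  have key : ∀ g : Sp.obj m ⟶ Z, A.homEquiv _ _ (L.homEquiv _ _ ((L.homEquiv _ _).symm p ≫ g)) =
      (π₀ ≫ L'.map (S.homEquiv _ _ g)) ≫ i.app Z := fun g => by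
    rw [L.homEquiv_naturality_right, Equiv.apply_symm_apply, A.homEquiv_naturality_right, hp, S.homEquiv_unit,
      Functor.map_comp, Category.assoc, Category.assoc, Category.assoc, Category.assoc]
    exact congrArg (π₀ ≫ L'.map _ ≫ ·) (i.naturality g).symm
  have b2 : Function.Bijective (fun t : x ⟶ L'.obj (Sq.obj Z) => t ≫ i.app Z) :=
    ⟨fun t t' ht => (cancel_mono (i.app Z)).1 ht, fun φ => ⟨φ ≫ inv (i.app Z), by simp⟩⟩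
  exact (congrArg Function.Bijective (funext key)).mpr (b2.comp ((hπ _).comp (S.homEquiv m Z).bijective))

variable {𝔛 𝔜 : FSch.Sys.{u}} (f : 𝔛 ⟶ 𝔜) (h𝔛 : 𝔛.IsFormal) (h𝔜 : 𝔜.IsFormal) (𝔐 : FSch.ModSys 𝔜)

/-- The components of the comparison. -/
abbrev pullRealπ (k : ℕ) : 𝔐.realMod h𝔜 ⟶ (FSch.pushF f h𝔛 h𝔜).obj
    ((FSch.levelMor 𝔛 h𝔛 k).push.obj ((FSch.ModSys.pullback f 𝔐).F k)) :=
  FSch.realProj 𝔜 h𝔜 𝔐.F 𝔐.toPush k ≫ (FSch.levelMor 𝔜 h𝔜 k).push.map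
    ((ModSite.RMor.ofScheme ((f : FSch.Hom 𝔛 𝔜).app k)).adj.unit.app (𝔐.F k)) ≫
    (FSch.lvPushSq f h𝔛 h𝔜 k).inv.app _

set_option maxHeartbeats 800000 in
theorem pullRealπ_succ (k : ℕ) : pullRealπ f h𝔛 h𝔜 𝔐 (k + 1) ≫ (FSch.pushF f h𝔛 h𝔜).map
    ((FSch.levelSysOf 𝔛 h𝔛 (FSch.ModSys.pullback f 𝔐).F (FSch.ModSys.pullback f 𝔐).toPush).map
      (homOfLE (Nat.le_add_right k 1)).op) = pullRealπ f h𝔛 h𝔜 𝔐 k := by
  refine SheafOfModules.hom_ext (PresheafOfModules.hom_ext fun U => ModuleCat.hom_ext (LinearMap.ext fun x => ?_))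
  let g := (f : FSch.Hom 𝔛 𝔜).app
  let N := FSch.ModSys.pullback f 𝔐
  let V := U.unop
  let V' := g 0 ⁻¹ᵁ V
  let z : Γ(𝔐.F (k + 1), 𝔜.lvU h𝔜 (k + 1) V) := sProj h𝔜 V 𝔐.F 𝔐.toPush (k + 1) x
  let w : Γ(N.F (k + 1), g (k + 1) ⁻¹ᵁ 𝔜.lvU h𝔜 (k + 1) V) :=
    ((Scheme.Modules.pullbackPushforwardAdjunction (g (k + 1))).unit.app (𝔐.F (k + 1))).app _ z
  let a : 𝔛.lvU h𝔛 (k + 1) V' ⟶ g (k + 1) ⁻¹ᵁ 𝔜.lvU h𝔜 (k + 1) V :=
    homOfLE (FSch.Hom.lvU_preimage f h𝔛 h𝔜 (k + 1) V).ge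
  let a₀ : 𝔛.lvU h𝔛 k V' ⟶ g k ⁻¹ᵁ 𝔜.lvU h𝔜 k V := homOfLE (FSch.Hom.lvU_preimage f h𝔛 h𝔜 k V).ge
  let b : 𝔛.lvU h𝔛 k V' ⟶ 𝔛.ι k ⁻¹ᵁ 𝔛.lvU h𝔛 (k + 1) V' := homOfLE (𝔛.lvU_le h𝔛 k V')
  let b₀ : 𝔜.lvU h𝔜 k V ⟶ 𝔜.ι k ⁻¹ᵁ 𝔜.lvU h𝔜 (k + 1) V := homOfLE (𝔜.lvU_le h𝔜 k V)
  refine Eq.trans (levelSysOf_map_app h𝔛 V' N.F N.toPush k ((N.F (k + 1)).presheaf.map a.op w)) ?_
  show (N.F k).presheaf.map b.op ((N.toPush k).app (𝔛.lvU h𝔛 (k + 1) V') ((N.F (k + 1)).presheaf.map a.op w)) =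
    (N.F k).presheaf.map a₀.op (((Scheme.Modules.pullbackPushforwardAdjunction (g k)).unit.app (𝔐.F k)).app _
      (sProj h𝔜 V 𝔐.F 𝔐.toPush k x))
  rw [← sTrans_sProj h𝔜 V 𝔐.F 𝔐.toPush k x]
  show _ = (N.F k).presheaf.map a₀.op (((Scheme.Modules.pullbackPushforwardAdjunction (g k)).unit.app (𝔐.F k)).app _
      ((𝔐.F k).presheaf.map b₀.op ((𝔐.toPush k).app _ z)))
  rw [show (N.toPush k).app (𝔛.lvU h𝔛 (k + 1) V') ((N.F (k + 1)).presheaf.map a.op w) =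
    (N.F k).presheaf.map ((Opens.map (𝔛.ι k).base).map a).op ((N.toPush k).app _ w) from
      PresheafOfModules.naturality_apply (N.toPush k).val a.op w]
  rw [show ((Scheme.Modules.pullbackPushforwardAdjunction (g k)).unit.app (𝔐.F k)).app _
      ((𝔐.F k).presheaf.map b₀.op ((𝔐.toPush k).app _ z)) = (N.F k).presheaf.map ((Opens.map (g k).base).map b₀).op
        (((Scheme.Modules.pullbackPushforwardAdjunction (g k)).unit.app (𝔐.F k)).app _ ((𝔐.toPush k).app _ z)) from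
      PresheafOfModules.naturality_apply
        ((Scheme.Modules.pullbackPushforwardAdjunction (g k)).unit.app (𝔐.F k)).val b₀.op ((𝔐.toPush k).app _ z)]
  have hP := congrArg (fun φ : 𝔐.F (k + 1) ⟶ (Scheme.Modules.pushforward (g k ≫ 𝔜.ι k)).obj (N.F k) =>
    φ.app (𝔜.lvU h𝔜 (k + 1) V) z) (unit_toPush f 𝔐 k)
  let c : g k ⁻¹ᵁ (𝔜.ι k ⁻¹ᵁ 𝔜.lvU h𝔜 (k + 1) V) ⟶ 𝔛.ι k ⁻¹ᵁ (g (k + 1) ⁻¹ᵁ 𝔜.lvU h𝔜 (k + 1) V) :=
    homOfLE (le_of_eq (congrArg (fun p => p ⁻¹ᵁ 𝔜.lvU h𝔜 (k + 1) V) ((f : FSch.Hom 𝔛 𝔜).comm k)))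
  have hP' : (N.F k).presheaf.map c.op ((N.toPush k).app _ w) =
      ((Scheme.Modules.pullbackPushforwardAdjunction (g k)).unit.app (𝔐.F k)).app _ ((𝔐.toPush k).app _ z) := hP
  rw [← hP']
  refine Eq.trans (ConcreteCategory.congr_hom ((N.F k).presheaf.map_comp _ b.op) _).symm ?_
  refine Eq.trans ?_ (ConcreteCategory.congr_hom ((N.F k).presheaf.map_comp _ a₀.op) _)
  refine Eq.trans ?_ (ConcreteCategory.congr_hom ((N.F k).presheaf.map_comp c.op _) _)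
  exact congrArg (fun g => (N.F k).presheaf.map g ((N.toPush k).app _ w)) (Subsingleton.elim _ _)

/-- The comparison map into the direct image. -/
def pullRealAdj : 𝔐.realMod h𝔜 ⟶ (FSch.pushF f h𝔛 h𝔜).obj ((FSch.ModSys.pullback f 𝔐).realMod h𝔛) :=
  haveI := (FSch.homMor f h𝔛 h𝔜).adj.rightAdjoint_preservesLimits
  (isLimitOfPreserves (FSch.pushF f h𝔛 h𝔜) (limit.isLimit
    (FSch.levelSysOf 𝔛 h𝔛 (FSch.ModSys.pullback f 𝔐).F (FSch.ModSys.pullback f 𝔐).toPush))).lift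
    { pt := 𝔐.realMod h𝔜
      π := NatTrans.ofOpSequence (fun k => pullRealπ f h𝔛 h𝔜 𝔐 k) fun k =>
        (Category.id_comp _).trans (pullRealπ_succ f h𝔛 h𝔜 𝔐 k).symm }

theorem pullRealAdj_proj (k : ℕ) : pullRealAdj f h𝔛 h𝔜 𝔐 ≫ (FSch.pushF f h𝔛 h𝔜).map
    (FSch.realProj 𝔛 h𝔛 (FSch.ModSys.pullback f 𝔐).F (FSch.ModSys.pullback f 𝔐).toPush k) =
      pullRealπ f h𝔛 h𝔜 𝔐 k :=
  haveI := (FSch.homMor f h𝔛 h𝔜).adj.rightAdjoint_preservesLimits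
  (isLimitOfPreserves (FSch.pushF f h𝔛 h𝔜) (limit.isLimit
    (FSch.levelSysOf 𝔛 h𝔛 (FSch.ModSys.pullback f 𝔐).F (FSch.ModSys.pullback f 𝔐).toPush))).fac _ (op k)

theorem pullRealAdj_pin (k : ℕ) : pullRealAdj f h𝔛 h𝔜 𝔐 ≫ (FSch.pushF f h𝔛 h𝔜).map
    (FSch.realProj 𝔛 h𝔛 (FSch.ModSys.pullback f 𝔐).F (FSch.ModSys.pullback f 𝔐).toPush k) ≫
      (FSch.lvPushSq f h𝔛 h𝔜 k).hom.app ((FSch.ModSys.pullback f 𝔐).F k) =
    FSch.realProj 𝔜 h𝔜 𝔐.F 𝔐.toPush k ≫ (FSch.levelMor 𝔜 h𝔜 k).push.map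
      ((ModSite.RMor.ofScheme ((f : FSch.Hom 𝔛 𝔜).app k)).adj.unit.app (𝔐.F k)) := by
  have h1 := congrArg (· ≫ (FSch.lvPushSq f h𝔛 h𝔜 k).hom.app ((FSch.ModSys.pullback f 𝔐).F k))
    (pullRealAdj_proj f h𝔛 h𝔜 𝔐 k)
  refine ((Category.assoc _ _ _).symm.trans h1).trans ?_
  exact inv_hom_cancel (FSch.lvPushSq f h𝔛 h𝔜 k) ((FSch.ModSys.pullback f 𝔐).F k) _ _

theorem isCohF_pullF (hF : FSch.IsCohF 𝔜 h𝔜 (𝔐.realMod h𝔜)) :
    FSch.IsCohF 𝔛 h𝔛 ((FSch.pullF f h𝔛 h𝔜).obj (𝔐.realMod h𝔜)) :=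
  isFinitePresentation_pull (FSch.homMor f h𝔛 h𝔜) (fun _ _ _ hx => hx) (fun {ι} U hU => by
    refine eq_top_iff.2 fun x _ => Opens.mem_iSup.2 ?_
    have h0 : (f : FSch.Hom 𝔛 𝔜).app 0 x ∈ iSup U := by rw [hU]; trivial
    obtain ⟨i, hi⟩ := Opens.mem_iSup.1 h0
    exact ⟨i, hi⟩) _ hF

theorem isCoh_pullback (h𝔐 : 𝔐.IsCoh) : (FSch.ModSys.pullback f 𝔐).IsCoh :=
  fun n => ModDesc.isCoh_pullback _ _ (h𝔐 n)

set_option maxHeartbeats 2000000 in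
/-- The inverse image of the module of a coherent system is the module of the inverse image system. -/
theorem exists_pullF_realMod_iso (hN : 𝔛.IsLocNoethFormal) (hN' : 𝔜.IsLocNoethFormal) (h𝔐 : 𝔐.IsCoh) :
    ∃ e : (FSch.pullF f h𝔛 h𝔜).obj (𝔐.realMod h𝔜) ≅ (FSch.ModSys.pullback f 𝔐).realMod h𝔛,
      ∀ k : ℕ, (FSch.homMor f h𝔛 h𝔜).adj.homEquiv _ _ e.hom ≫
          (FSch.pushF f h𝔛 h𝔜).map (FSch.realProj 𝔛 h𝔛 _ _ k) ≫
          (FSch.lvPushSq f h𝔛 h𝔜 k).hom.app ((FSch.ModSys.pullback f 𝔐).F k) =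
        FSch.realProj 𝔜 h𝔜 _ _ k ≫ (FSch.levelMor 𝔜 h𝔜 k).push.map
            ((ModSite.RMor.ofScheme ((f : FSch.Hom 𝔛 𝔜).app k)).adj.unit.app (𝔐.F k)) := by
  let A := (FSch.homMor f h𝔛 h𝔜).adj
  let θ : (FSch.pullF f h𝔛 h𝔜).obj (𝔐.realMod h𝔜) ⟶ (FSch.ModSys.pullback f 𝔐).realMod h𝔛 :=
    (A.homEquiv _ _).symm (pullRealAdj f h𝔛 h𝔜 𝔐)
  haveI := isCohF_pullF f h𝔛 h𝔜 𝔐 (isCohF_realMod hN' h𝔐)
  haveI : FSch.IsCohF 𝔛 h𝔛 ((FSch.ModSys.pullback f 𝔐).realMod h𝔛) := isCohF_realMod hN (isCoh_pullback f 𝔐 h𝔐)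
  haveI : ∀ k, IsIso ((FSch.levelMor 𝔛 h𝔛 k).pull.map θ) := by
    intro k
    let L := FSch.levelMor 𝔛 h𝔛 k
    let L' := FSch.levelMor 𝔜 h𝔜 k
    let S := ModSite.RMor.ofScheme ((f : FSch.Hom 𝔛 𝔜).app k)
    let N := FSch.ModSys.pullback f 𝔐
    let π := FSch.realProj 𝔛 h𝔛 N.F N.toPush k
    let π₀ := FSch.realProj 𝔜 h𝔜 𝔐.F 𝔐.toPush k
    have e1 : L.pull.map θ ≫ (L.adj.homEquiv _ _).symm π = (L.adj.homEquiv _ _).symm (θ ≫ π) :=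
      (L.adj.homEquiv_naturality_left_symm _ π).symm
    haveI : IsIso ((L.adj.homEquiv _ _).symm (θ ≫ π)) :=
      isIso_adjunct_of_proj A L.adj S.adj L'.push (FSch.lvPushSq f h𝔛 h𝔜 k).inv inferInstance π₀
        (fun Z => ⟨fun t t' ht => proj_comp_injective (h := h𝔜) hN' h𝔐 k ht, fun φ => exists_desc (h := h𝔜) hN' h𝔐 k φ⟩)
        (θ ≫ π) ((A.homEquiv_naturality_right θ π).trans
          ((congrArg (· ≫ _) ((A.homEquiv _ _).apply_symm_apply _)).trans (pullRealAdj_proj f h𝔛 h𝔜 𝔐 k)))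
    haveI : IsIso (L.pull.map θ ≫ (L.adj.homEquiv _ _).symm π) := e1 ▸ inferInstance
    exact @IsIso.of_isIso_comp_right _ _ _ _ _ (L.pull.map θ) ((L.adj.homEquiv _ _).symm π)
      (isIso_adjoint_realProj (h := h𝔛) hN (isCoh_pullback f 𝔐 h𝔐) k) this
  haveI := isIso_of_isIso_pull hN θ
  refine ⟨asIso θ, fun k => ?_⟩
  have h1 : A.homEquiv _ _ θ = pullRealAdj f h𝔛 h𝔜 𝔐 := (A.homEquiv _ _).apply_symm_apply _
  rw [asIso_hom, h1]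
  exact pullRealAdj_pin f h𝔛 h𝔜 𝔐 k

end GrothLib.FCat7
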