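import Groth.Agent.Lib.FCat7.QcohFT
import Groth.Agent.Lib.FCat7.Glue
import Groth.Agent.Lib.FCat7.Flat

/-!
# Modules generated by their sections with relations generated by global relations
-/

set_option autoImplicit false
set_option linter.style.haveILetI false
set_option linter.unusedSectionVars false
universe u

open CategoryTheory CategoryTheory.Limits AlgebraicGeometry TopologicalSpace Opposite

noncomputable section

namespace GrothLib.FCat7

open GrothLib.FMod7

variable {𝔛 : FSch.Sys.{u}} {h : 𝔛.IsFormal}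

/-- The relations among a family of sections over smaller opens are locally generated by the global ones. -/
def RelGen (M : FSch.ModF 𝔛 h) (W : (𝔛.X 0).Opens) {α : Type u} [Fintype α] (s : α → ModSite.sect M W) : Prop :=
  ∀ (V : (𝔛.X 0).Opens) (hV : V ≤ W) (y : α → Sec 𝔛 h V), ∑ a, y a • sres M hV (s a) = 0 → ∀ p ∈ V,
    ∃ (W' : (𝔛.X 0).Opens) (hW' : W' ≤ V), p ∈ W' ∧ wRes hW' y ∈ Submodule.span (Sec 𝔛 h W')
      ((fun b : α → Sec 𝔛 h W => wRes (hW'.trans hV) b) '' {b | ∑ a, b a • s a = 0})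

/-- Generated by sections, with relations generated by global ones. -/
structure IsQC (M : FSch.ModF 𝔛 h) (W : (𝔛.X 0).Opens) : Prop where
  gen : ∀ (V : (𝔛.X 0).Opens) (hV : V ≤ W) (m : ModSite.sect M V), ∀ p ∈ V,
    ∃ (W' : (𝔛.X 0).Opens) (hW' : W' ≤ V), p ∈ W' ∧ sres M hW' m ∈
      Submodule.span (Sec 𝔛 h W') (Set.range fun s : ModSite.sect M W => sres M (hW'.trans hV) s)
  rel : ∀ (α : Type u) [Fintype α] (s : α → ModSite.sect M W), RelGen M W s

theorem wRes_wRes {U V W : (𝔛.X 0).Opens} {ι : Type*} (hVU : V ≤ U) (hWV : W ≤ V) (a : ι → Sec 𝔛 h U) :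
    wRes hWV (wRes hVU a) = wRes (hWV.trans hVU) a :=
  funext fun i => ores_ores hVU hWV (a i)

theorem wRes_mem_span {U V : (𝔛.X 0).Opens} {ι κ : Type*} (hVU : V ≤ U) (r : κ → ι → Sec 𝔛 h U)
    {x : ι → Sec 𝔛 h U} (hx : x ∈ Submodule.span (Sec 𝔛 h U) (Set.range r)) :
    wRes hVU x ∈ Submodule.span (Sec 𝔛 h V) (Set.range fun k => wRes hVU (r k)) := by
  refine Submodule.span_induction ?_ ?_ ?_ ?_ hx
  · rintro _ ⟨k, rfl⟩
    exact Submodule.subset_span ⟨k, rfl⟩
  · rw [show wRes hVU (0 : ι → Sec 𝔛 h U) = 0 from funext fun i => map_zero _]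
    exact zero_mem _
  · intro x y _ _ hx hy
    rw [show wRes hVU (x + y) = wRes hVU x + wRes hVU y from funext fun i => map_add _ _ _]
    exact add_mem hx hy
  · intro c x _ hx
    rw [show wRes hVU (c • x) = rRes hVU c • wRes hVU x from funext fun i => map_mul _ _ _]
    exact Submodule.smul_mem _ _ hx

theorem span_res_relations {U V : (𝔛.X 0).Opens} {ι κ : Type*} (hVU : V ≤ U) (r : κ → ι → Sec 𝔛 h U)
    {S : Set (ι → Sec 𝔛 h U)} (hS : S ⊆ Submodule.span (Sec 𝔛 h U) (Set.range r)) :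
    Submodule.span (Sec 𝔛 h V) ((fun b : ι → Sec 𝔛 h U => wRes hVU b) '' S) ≤
      Submodule.span (Sec 𝔛 h V) (Set.range fun k => wRes hVU (r k)) := by
  rw [Submodule.span_le]
  rintro _ ⟨b, hb, rfl⟩
  exact wRes_mem_span hVU r (hS hb)

variable (hN : 𝔛.IsLocNoethFormal) {M : FSch.ModF 𝔛 h}
include hN

/-- A section locally in the span of a family with generated relations is in its span. -/
theorem RelGen.mem_span {W : (𝔛.X 0).Opens} (hW : IsAffineOpen W) {α : Type u} [Fintype α]
    {s : α → ModSite.sect M W} (hs : RelGen M W s) (m : ModSite.sect M W)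
    (H : ∀ p ∈ W, ∃ (V : (𝔛.X 0).Opens) (hV : V ≤ W), p ∈ V ∧
      sres M hV m ∈ Submodule.span (Sec 𝔛 h V) (Set.range fun a => sres M hV (s a))) :
    m ∈ Submodule.span (Sec 𝔛 h W) (Set.range s) := by
  classical
  haveI := isNoetherianRing_Sec (h := h) hN hW
  obtain ⟨l, r, hr⟩ := Submodule.fg_iff_exists_fin_generating_family.1
    (IsNoetherian.noetherian (LinearMap.ker (Fintype.linearCombination (Sec 𝔛 h W) s)))
  have hr0 : ∀ k, ∑ a, r k a • s a = 0 := fun k => by
    have hk : r k ∈ LinearMap.ker (Fintype.linearCombination (Sec 𝔛 h W) s) := hr ▸ Submodule.subset_span ⟨k, rfl⟩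
    rwa [LinearMap.mem_ker, Fintype.linearCombination_apply] at hk
  choose V hV hpV hm using fun p : W => H p.1 p.2
  choose c hc using fun p => (Submodule.mem_span_range_iff_exists_fun _).1 (hm p)
  obtain ⟨a, ha⟩ := exists_glue_vec hN hW (fun k : ULift.{u} (Fin l) => r k.down) V hV
    (fun p hp => ⟨⟨p, hp⟩, hpV _⟩) c fun j j' p hp hp' => by
      let V' : (𝔛.X 0).Opens := V j ⊓ V j'
      have h1 : V' ≤ V j := inf_le_left
      have h2 : V' ≤ V j' := inf_le_right
      have h0 : ∑ x, (wRes h1 (c j) - wRes h2 (c j')) x • sres M (h1.trans (hV j)) (s x) = 0 := by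
        have e1 := congrArg (sres M h1) (hc j)
        have e2 := congrArg (sres M h2) (hc j')
        rw [sres_comb] at e1 e2
        simp only [sres_sres] at e1 e2
        simp only [Pi.sub_apply, sub_smul, Finset.sum_sub_distrib]
        exact sub_eq_zero.2 (e1.trans e2.symm)
      obtain ⟨W', hW', hpW', hmem⟩ := hs V' (h1.trans (hV j)) _ h0 p ⟨hp, hp'⟩
      refine ⟨W', hW'.trans h1, hW'.trans h2, hpW', ?_⟩
      refine span_res_relations _ (fun k : ULift.{u} (Fin l) => r k.down) (S := {b | ∑ a, b a • s a = 0}) ?_ ?_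
      · intro b hb
        have hb' : b ∈ Submodule.span (Sec 𝔛 h W) (Set.range r) := by
          rw [hr, LinearMap.mem_ker, Fintype.linearCombination_apply]
          exact hb
        exact Submodule.span_mono (t := Set.range fun k : ULift.{u} (Fin l) => r k.down)
          (by rintro _ ⟨k, rfl⟩; exact ⟨⟨k⟩, rfl⟩) hb'
      · refine Eq.subst (motive := fun v => v ∈ _) ?_ hmem
        funext i
        simp only [Pi.sub_apply, wRes, map_sub]
        rw [show rRes hW' (rRes h1 (c j i)) = rRes (hW'.trans h1) (c j i) from ores_ores _ _ _,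
          show rRes hW' (rRes h2 (c j' i)) = rRes (hW'.trans h2) (c j' i) from ores_ores _ _ _]
  refine (Submodule.mem_span_range_iff_exists_fun _).2 ⟨a, sect_ext M _ _ fun p hp => ?_⟩
  obtain ⟨W', h₁, hpW', hmem⟩ := ha ⟨p, hp⟩ p (hpV _)
  refine ⟨W', h₁.trans (hV _), hpW', ?_⟩
  let L : (α → Sec 𝔛 h W') →ₗ[Sec 𝔛 h W'] ModSite.sect M W' :=
    Fintype.linearCombination (Sec 𝔛 h W') fun x => sres M (h₁.trans (hV _)) (s x)
  have h0 : L (wRes (h₁.trans (hV _)) a - wRes h₁ (c ⟨p, hp⟩)) = 0 := by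
    refine LinearMap.mem_ker.1 (Submodule.span_le.2 ?_ hmem)
    rintro _ ⟨k, rfl⟩
    refine LinearMap.mem_ker.2 ((Fintype.linearCombination_apply (R := Sec 𝔛 h W') _ _).trans ?_)
    rw [← sres_comb, hr0]
    exact map_zero (M.val.map (homOfLE _).op).hom
  rw [map_sub, sub_eq_zero] at h0
  refine (sres_comb (h₁.trans (hV _)) a s).trans (h0.trans ?_)
  refine Eq.trans ?_ ((congrArg (sres M h₁) (hc ⟨p, hp⟩)).trans (sres_sres _ _ _))
  rw [sres_comb]
  simp only [sres_sres]
  exact Fintype.linearCombination_apply (R := Sec 𝔛 h W') _ _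

/-- Finitely many members of a generating family suffice locally, hence globally, for a given section. -/
theorem exists_finite_support {W : (𝔛.X 0).Opens} (hW : IsAffineOpen W) {ι : Type u} (e : ι → ModSite.sect M W)
    (hgen : ∀ (V : (𝔛.X 0).Opens) (hV : V ≤ W) (m : ModSite.sect M V), ∀ p ∈ V,
      ∃ (W' : (𝔛.X 0).Opens) (hW' : W' ≤ V), p ∈ W' ∧
        sres M hW' m ∈ Submodule.span (Sec 𝔛 h W') (Set.range fun i => sres M (hW'.trans hV) (e i)))
    {α : Type u} [Fintype α] (m : α → ModSite.sect M W) :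
    ∃ S : Finset ι, ∀ a, ∀ p ∈ W, ∃ (V : (𝔛.X 0).Opens) (hV : V ≤ W), p ∈ V ∧
      sres M hV (m a) ∈ Submodule.span (Sec 𝔛 h V) (Set.range fun i : S => sres M hV (e i.1)) := by
  classical
  have H : ∀ a, ∀ p : W, ∃ (V : (𝔛.X 0).Opens) (hV : V ≤ W), p.1 ∈ V ∧ ∃ x : ι →₀ Sec 𝔛 h V,
      (x.sum fun i c => c • sres M hV (e i)) = sres M hV (m a) := fun a p => by
    obtain ⟨V, hV, hpV, hm⟩ := hgen W le_rfl (m a) p.1 p.2
    exact ⟨V, hV, hpV, (Finsupp.mem_span_range_iff_exists_finsupp).1 hm⟩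
  choose V hV hpV x hx using H
  have hfin : ∀ a, ∃ t : Finset W, (W : Set (𝔛.X 0)) ⊆ ⋃ p ∈ t, (V a p : Set (𝔛.X 0)) := fun a =>
    hW.isCompact.elim_finite_subcover (fun p : W => (V a p : Set (𝔛.X 0))) (fun p => (V a p).2)
      fun p hp => Set.mem_iUnion.2 ⟨⟨p, hp⟩, hpV _ _⟩
  choose t ht using hfin
  refine ⟨Finset.univ.biUnion fun a => (t a).biUnion fun p => (x a p).support, fun a p hp => ?_⟩
  obtain ⟨q, hq, hpq⟩ := Set.mem_iUnion₂.1 (ht a hp)
  refine ⟨V a q, hV a q, hpq, ?_⟩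
  rw [← hx a q, Finsupp.sum]
  refine Submodule.sum_mem _ fun i hi => Submodule.smul_mem _ _ (Submodule.subset_span ⟨⟨i, ?_⟩, rfl⟩)
  exact Finset.mem_biUnion.2 ⟨a, Finset.mem_univ a, Finset.mem_biUnion.2 ⟨q, hq, hi⟩⟩

/-- A generating family whose finite subfamilies have generated relations suffices. -/
theorem IsQC.of_family {W : (𝔛.X 0).Opens} (hW : IsAffineOpen W) {ι : Type u} (e : ι → ModSite.sect M W)
    (hgen : ∀ (V : (𝔛.X 0).Opens) (hV : V ≤ W) (m : ModSite.sect M V), ∀ p ∈ V,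
      ∃ (W' : (𝔛.X 0).Opens) (hW' : W' ≤ V), p ∈ W' ∧
        sres M hW' m ∈ Submodule.span (Sec 𝔛 h W') (Set.range fun i => sres M (hW'.trans hV) (e i)))
    (hrel : ∀ S : Finset ι, RelGen M W fun i : S => e i.1) : IsQC M W where
  gen V hV m p hp := by
    obtain ⟨W', hW', hpW', hm⟩ := hgen V hV m p hp
    refine ⟨W', hW', hpW', Submodule.span_mono ?_ hm⟩
    rintro _ ⟨i, rfl⟩
    exact ⟨e i, rfl⟩
  rel α _ s V hV y hy p hp := by
    classical
    haveI := isNoetherianRing_Sec (h := h) hN hW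
    obtain ⟨S, hS⟩ := exists_finite_support hN hW e hgen s
    choose C hC using fun a => (Submodule.mem_span_range_iff_exists_fun _).1
      ((hrel S).mem_span hN hW (s a) (hS a))
    have h0 : ∑ i : S, (fun i => ∑ a, y a * rRes hV (C a i)) i • sres M hV (e i.1) = 0 := by
      refine Eq.trans ?_ hy
      simp only [Finset.sum_smul, mul_smul]
      rw [Finset.sum_comm]
      refine Finset.sum_congr rfl fun a _ => ?_
      rw [← Finset.smul_sum, ← sres_comb, hC]
    obtain ⟨W₁, hW₁, hpW₁, hm⟩ := hrel S V hV _ h0 p hp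
    obtain ⟨W', hW', hpW', hW'W₁⟩ := exists_isAffineOpen_mem_and_subset (x := p) (U := W₁) hpW₁
    have hW'1 : W' ≤ W₁ := hW'W₁
    have hW'V : W' ≤ V := hW'1.trans hW₁
    have hW'W : W' ≤ W := hW'V.trans hV
    obtain ⟨l, R, hR⟩ := Submodule.fg_iff_exists_fin_generating_family.1
      (IsNoetherian.noetherian (LinearMap.ker (Fintype.linearCombination (Sec 𝔛 h W) fun i : S => e i.1)))
    have hR0 : ∀ k, ∑ i : S, R k i • e i.1 = 0 := fun k => by
      have hk : R k ∈ LinearMap.ker (Fintype.linearCombination (Sec 𝔛 h W) fun i : S => e i.1) :=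
        hR ▸ Submodule.subset_span ⟨k, rfl⟩
      rwa [LinearMap.mem_ker, Fintype.linearCombination_apply] at hk
    have hm' := span_res_relations (hW₁.trans hV) R (fun b hb => by
      rw [SetLike.mem_coe, hR, LinearMap.mem_ker, Fintype.linearCombination_apply]
      exact hb) hm
    have hm'' := wRes_mem_span hW'1 _ hm'
    obtain ⟨u, hu⟩ := (Submodule.mem_span_range_iff_exists_fun _).1 hm''
    have key := relations_vec hN hW hW' hW'W (α := α ⊕ ULift.{u} (Fin l)) (β := S)
      (fun i => Sum.elim (fun a => C a i) fun k => R k.down i)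
      (Sum.elim (wRes hW'V y) fun k => -u k.down) fun i => by
        rw [Fintype.sum_sum_type]
        simp only [Sum.elim_inl, Sum.elim_inr, neg_mul, Finset.sum_neg_distrib]
        rw [← sub_eq_add_neg, sub_eq_zero]
        have e1 := congrFun hu i
        simp only [Finset.sum_apply, Pi.smul_apply, smul_eq_mul, wRes, map_sum, map_mul] at e1
        refine Eq.trans ?_ ((e1.symm.trans ?_).trans (Equiv.ulift.sum_comp fun k => u k * rRes hW'W (R k i)).symm)
        · refine Finset.sum_congr rfl fun a _ => congr_arg₂ (· * ·) (ores_ores hW₁ hW'1 (y a)).symm ?_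
          exact ((ores_ores (hW₁) hW'1 (rRes hV (C a i))).trans (ores_ores hV hW'V (C a i))).symm
        · exact Finset.sum_congr rfl fun k _ => congrArg (u k * ·) (ores_ores (hW₁.trans hV) hW'1 (R k i))
    refine ⟨W', hW'V, hpW', ?_⟩
    let P : (α ⊕ ULift.{u} (Fin l) → Sec 𝔛 h W') →ₗ[Sec 𝔛 h W'] α → Sec 𝔛 h W' := LinearMap.funLeft _ _ Sum.inl
    show P (Sum.elim (wRes hW'V y) fun k => -u k.down) ∈ _
    refine Submodule.span_le.2 ?_ (Submodule.map_span P _ ▸ Submodule.mem_map_of_mem (f := P) key)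
    rintro _ ⟨_, ⟨z, hz, rfl⟩, rfl⟩
    refine Submodule.subset_span ⟨fun a => z (Sum.inl a), ?_, rfl⟩
    show ∑ a, z (Sum.inl a) • s a = 0
    have hz' : ∀ i : S, ∑ a, z (Sum.inl a) * C a i + ∑ k : ULift.{u} (Fin l), z (Sum.inr k) * R k.down i = 0 :=
      fun i => by
        have := hz i
        rw [Fintype.sum_sum_type] at this
        exact this
    have e2 : ∑ i : S, (∑ a, z (Sum.inl a) * C a i + ∑ k : ULift.{u} (Fin l), z (Sum.inr k) * R k.down i) • e i.1 = 0 :=
      Finset.sum_eq_zero fun i _ => by rw [hz' i, zero_smul]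
    simp only [add_smul, Finset.sum_add_distrib, Finset.sum_smul, mul_smul] at e2
    rw [Finset.sum_comm (s := (Finset.univ : Finset S)) (t := (Finset.univ : Finset (ULift.{u} (Fin l)))),
      Finset.sum_comm (s := (Finset.univ : Finset S)) (t := (Finset.univ : Finset α))] at e2
    simp only [← Finset.smul_sum, hC, hR0, smul_zero, Finset.sum_const_zero, add_zero] at e2
    exact e2

/-- Restriction to a smaller affine open. -/
theorem IsQC.res {W W' : (𝔛.X 0).Opens} (hW' : IsAffineOpen W') (hQ : IsQC M W) (hWW : W' ≤ W) : IsQC M W' := by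
  classical
  refine IsQC.of_family hN hW' (fun s : ModSite.sect M W => sres M hWW s) (fun V hV m p hp => ?_) (fun S => ?_)
  · obtain ⟨V', hV', hpV', hm⟩ := hQ.gen V (hV.trans hWW) m p hp
    exact ⟨V', hV', hpV', by simpa only [sres_sres] using hm⟩
  · intro V hV y hy p hp
    obtain ⟨V', hV', hpV', hm⟩ := hQ.rel S (fun i : S => i.1) V (hV.trans hWW) y
      (by simpa only [sres_sres] using hy) p hp
    refine ⟨V', hV', hpV', Submodule.span_mono ?_ hm⟩
    rintro _ ⟨b, hb, rfl⟩
    refine ⟨wRes hWW b, ?_, ?_⟩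
    · exact (sres_comb hWW b fun i : S => i.1).symm.trans
        ((congrArg (sres M hWW) hb).trans (map_zero (M.val.map (homOfLE hWW).op).hom))
    · exact wRes_wRes hWW (hV'.trans hV) b

/-- Every section is a combination of a generating family. -/
theorem IsQC.exists_finset {W : (𝔛.X 0).Opens} (hW : IsAffineOpen W) (hQ : IsQC M W) {ι : Type u}
    (e : ι → ModSite.sect M W)
    (hgen : ∀ (V : (𝔛.X 0).Opens) (hV : V ≤ W) (m : ModSite.sect M V), ∀ p ∈ V,
      ∃ (W' : (𝔛.X 0).Opens) (hW' : W' ≤ V), p ∈ W' ∧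
        sres M hW' m ∈ Submodule.span (Sec 𝔛 h W') (Set.range fun i => sres M (hW'.trans hV) (e i)))
    (m : ModSite.sect M W) : m ∈ Submodule.span (Sec 𝔛 h W) (Set.range e) := by
  obtain ⟨S, hS⟩ := exists_finite_support hN hW e hgen (fun _ : PUnit.{u + 1} => m)
  refine Submodule.span_mono ?_ ((hQ.rel S fun i : S => e i.1).mem_span hN hW m (hS PUnit.unit))
  rintro _ ⟨i, rfl⟩
  exact ⟨i.1, rfl⟩

/-- Presented modules. -/
theorem IsQC.of_infPres {W : (𝔛.X 0).Opens} (hW : IsAffineOpen W) {ι κ : Type u} {e : ι → ModSite.sect M W}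
    {r : κ → ι →₀ Sec 𝔛 h W} (hP : IsInfPres M W e r) : IsQC M W := by
  classical
  refine IsQC.of_family hN hW e hP.gen fun S V hV y hy p hp => ?_
  let yt : ι →₀ Sec 𝔛 h V := ∑ i : S, Finsupp.single i.1 (y i)
  have hy' : Finsupp.linearCombination (Sec 𝔛 h V) (fun i => sres M hV (e i)) yt = 0 := by
    rw [map_sum]
    exact Eq.trans (Finset.sum_congr rfl fun i _ => Finsupp.linearCombination_single _ _ _) hy
  obtain ⟨W₁, hW₁, hpW₁, hm⟩ := hP.relGen V hV yt hy' p hp
  obtain ⟨W', hW', hpW', hW'W₁⟩ := exists_isAffineOpen_mem_and_subset (x := p) (U := W₁) hpW₁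
  have hW'1 : W' ≤ W₁ := hW'W₁
  have hW'V : W' ≤ V := hW'1.trans hW₁
  have hW'W : W' ≤ W := hW'V.trans hV
  obtain ⟨c, hc⟩ := (Finsupp.mem_span_range_iff_exists_finsupp).1 hm
  let K := c.support
  let S' : Finset ι := S ∪ K.biUnion fun k => (r k).support
  have hyt : ∀ j, ∑ i : S, (if i.1 = j then y i else 0) = yt j := fun j => by
    simp only [yt, Finsupp.finsetSum_apply, Finsupp.single_apply]
  have key := relations_vec hN hW hW' hW'W (α := S ⊕ K) (β := S')
    (fun j => Sum.elim (fun i : S => if i.1 = j.1 then (1 : Sec 𝔛 h W) else 0) fun k : K => r k.1 j.1)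
    (Sum.elim (wRes hW'V y) fun k : K => -rRes hW'1 (c k.1)) fun j => by
      rw [Fintype.sum_sum_type]
      simp only [Sum.elim_inl, Sum.elim_inr, neg_mul, Finset.sum_neg_distrib]
      rw [← sub_eq_add_neg, sub_eq_zero]
      have e1 := congrArg (fun z : ι →₀ Sec 𝔛 h W₁ => rRes hW'1 (z j.1)) hc
      simp only [Finsupp.sum, Finsupp.finsetSum_apply, Finsupp.smul_apply, smul_eq_mul, map_sum, map_mul, fRes,
        Finsupp.mapRange_apply] at e1
      refine Eq.trans ?_ ((e1.symm.trans ?_).trans (Finset.sum_coe_sort K fun k => rRes hW'1 (c k) * rRes hW'W (r k j.1)).symm)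
      · rw [← hyt, map_sum, map_sum]
        refine Finset.sum_congr rfl fun i _ => ?_
        by_cases hi : i.1 = j.1
        · simp only [if_pos hi, map_one, mul_one]
          exact (ores_ores hW₁ hW'1 (y i)).symm
        · simp only [if_neg hi, map_zero, mul_zero]
      · exact Finset.sum_congr rfl fun k _ => congrArg (rRes hW'1 (c k) * ·) (ores_ores (hW₁.trans hV) hW'1 (r k j.1))
  refine ⟨W', hW'V, hpW', ?_⟩
  let P : (S ⊕ K → Sec 𝔛 h W') →ₗ[Sec 𝔛 h W'] S → Sec 𝔛 h W' := LinearMap.funLeft _ _ Sum.inl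
  show P (Sum.elim (wRes hW'V y) fun k : K => -rRes hW'1 (c k.1)) ∈ _
  refine Submodule.span_le.2 ?_ (Submodule.map_span P _ ▸ Submodule.mem_map_of_mem (f := P) key)
  rintro _ ⟨_, ⟨z, hz, rfl⟩, rfl⟩
  refine Submodule.subset_span ⟨fun i => z (Sum.inl i), ?_, rfl⟩
  show ∑ i : S, z (Sum.inl i) • e i.1 = 0
  have hzero : ∑ i : S, Finsupp.single i.1 (z (Sum.inl i)) + ∑ k : K, z (Sum.inr k) • r k.1 = 0 := by
    refine Finsupp.ext fun j => ?_
    simp only [Finsupp.add_apply, Finsupp.finsetSum_apply, Finsupp.smul_apply, Finsupp.single_apply, smul_eq_mul,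
      Finsupp.coe_zero, Pi.zero_apply]
    by_cases hj : j ∈ S'
    · have := hz ⟨j, hj⟩
      rw [Fintype.sum_sum_type] at this
      refine Eq.trans ?_ this
      congr 1
      exact Finset.sum_congr rfl fun i _ => by simp [Sum.elim_inl]
    · have h1 : ∀ i : S, i.1 ≠ j := fun i hi => hj (Finset.mem_union_left _ (hi ▸ i.2))
      have h2 : ∀ k : K, r k.1 j = 0 := fun k => Finsupp.notMem_support_iff.1 fun hk =>
        hj (Finset.mem_union_right _ (Finset.mem_biUnion.2 ⟨k.1, k.2, hk⟩))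
      simp [h1, h2]
  have := congrArg (Finsupp.linearCombination (Sec 𝔛 h W) e) hzero
  simp only [map_add, map_sum, map_smul, Finsupp.linearCombination_single, hP.rel, smul_zero, Finset.sum_const_zero,
    add_zero, map_zero] at this
  exact this

end GrothLib.FCat7
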