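import Groth.Agent.Lib.FCat7.QC

/-!
# Quasi-coherence through sections, kernels and cokernels
-/

set_option autoImplicit false
set_option linter.style.haveILetI false
set_option linter.unusedSectionVars false
universe u

open CategoryTheory CategoryTheory.Limits AlgebraicGeometry TopologicalSpace Opposite

noncomputable section

namespace GrothLib.FCat7

open GrothLib.FMod7 GrothLib.LocFac25

section Site

variable {T : TopCat.{u}} {O : Sheaf (Opens.grothendieckTopology T) CommRingCat.{u}} {M : ModSite.Mod O}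
  {ι κ : Type u} {U : Opens T}

theorem oHom_ιFree_fdesc {N : ModSite.Mod (O.over U)} {α : Type u} (ν : α → (SheafOfModules.unit _ ⟶ N)) (W : Over U)
    (x : α →₀ O.obj.obj (op W.left)) :
    oHom (fdesc ν) W (comb α W x) =
      Finsupp.linearCombination (O.obj.obj (op W.left)) (fun i : α => valAt (ν i) W) x := by
  refine (oHom_comb (fdesc ν) W x).trans ?_
  refine congrArg (fun v : α → osect N W => Finsupp.linearCombination (O.obj.obj (op W.left)) v x) (funext fun i => ?_)
  exact congrArg (fun φ => valAt φ W) (ιFree_fdesc ν i)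

theorem oRes_oRes {N : ModSite.Mod (O.over U)} (W : Over U) {V V' : Opens T} (k : V ≤ W.left) (k' : V' ≤ V)
    (w : osect N W) : oRes N W (k'.trans k) w = oRes N (overLE W k) k' (oRes N W k w) := by
  refine Eq.trans ?_ (PresheafOfModules.map_comp_apply N.val
    (Over.homMk (homOfLE k) : overLE W k ⟶ W).op (Over.homMk (homOfLE k') : overLE (overLE W k) k' ⟶ overLE W k).op w)
  exact congrArg (fun φ : overLE W (k'.trans k) ⟶ W => N.val.map φ.op w)
    (Over.OverMorphism.ext (Subsingleton.elim _ _))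

set_option maxHeartbeats 800000 in
/-- Generators and relations with arbitrary index sets give a presentation. -/
theorem exists_presentation_inf {e : ι → ModSite.sect M U} {r : κ → ι →₀ O.obj.obj (op U)}
    (hP : IsInfPres M U e r) : Nonempty ((ModSite.restr O U).obj M).Presentation := by
  classical
  let top : Over U := Over.mk (homOfLE (le_refl U))
  choose α hα using fun i => ev_surjective (O := O) (M := (ModSite.restr O U).obj M) (V := U) (e i)
  choose β hβ using fun k => ev_surjective (O := O) (M := freeO O U ι) (V := U)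
    (comb ι (Over.mk (𝟙 U)) (r k))
  let g : freeO O U ι ⟶ (ModSite.restr O U).obj M := fdesc α
  let f : SheafOfModules.free κ ⟶ freeO O U ι := fdesc β
  have hval : ∀ (W : Over U) (i : ι), (valAt (α i) W : ModSite.sect M W.left) = sres M W.hom.le (e i) := fun W i =>
    (evAt_eq_res W (α i)).trans (congrArg (sres M W.hom.le) (hα i))
  have hvalβ : ∀ (W : Over U) (k : κ), valAt (β k) W = comb ι W (fRes W.hom.le (r k)) := fun W k => by
    refine (map_evAt (β k) (Over.homMk W.hom (Category.comp_id _) : W ⟶ Over.mk (𝟙 U))).symm.trans ?_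
    refine (congrArg ((freeO O U ι).val.map (Over.homMk W.hom (Category.comp_id _) : W ⟶ Over.mk (𝟙 U)).op) (hβ k)).trans ?_
    exact comb_res (Over.mk (𝟙 U)) W.hom.le (r k)
  have hfg : f ≫ g = 0 := by
    refine free_ext fun k => ?_
    rw [← Category.assoc, ιFree_fdesc, comp_zero]
    refine ev_injective ?_
    refine (oHom_valAt (β k) g (Over.mk (𝟙 U))).symm.trans ?_
    rw [hvalβ, oHom_ιFree_fdesc]
    refine Eq.trans ?_ ((hP.rel k).trans rfl)
    refine congr_arg₂ (fun (v : ι → ModSite.sect M U) (x : ι →₀ O.obj.obj (op U)) =>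
      Finsupp.linearCombination (O.obj.obj (op U)) v x) (funext fun i => (hval _ i).trans (sres_id _)) ?_
    exact Finsupp.ext fun i => (Finsupp.mapRange_apply ..).trans (ConcreteCategory.congr_hom (O.obj.map_id _) _)
  haveI : Epi g := by
    haveI : Sheaf.IsLocallySurjective ((SheafOfModules.toSheaf _).map g) := by
      constructor
      intro W m
      refine mem_over_of_pointwise _ fun p hp => ?_
      obtain ⟨V, k, hpV, hm⟩ := hP.gen W.left W.hom.le m p hp
      obtain ⟨x, hx⟩ := (Finsupp.mem_span_range_iff_exists_finsupp).1 hm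
      refine ⟨V, k, hpV, comb ι (overLE W k) x, (oHom_ιFree_fdesc α (overLE W k) x).trans ?_⟩
      refine Eq.trans ?_ hx
      exact congrArg (fun v : ι → ModSite.sect M V => Finsupp.linearCombination (O.obj.obj (op V)) v x)
        (funext fun i => hval _ i)
    exact (SheafOfModules.toSheaf _).epi_of_epi_map inferInstance
  haveI hk : Epi (kernel.lift g f hfg) := by
    haveI : Sheaf.IsLocallySurjective ((SheafOfModules.toSheaf _).map (kernel.lift g f hfg)) := by
      constructor
      intro W z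
      refine mem_over_of_pointwise _ fun p hp => ?_
      obtain ⟨V, k, hpV, y, hy⟩ := exists_local_comb W (oHom (kernel.ι g) W z) hp
      have h0 : oHom g (overLE W k) (comb ι (overLE W k) y) = 0 := by
        rw [← hy, oHom_res]
        have : oHom g W (oHom (kernel.ι g) W z) = 0 :=
          congrArg (fun φ : kernel g ⟶ (ModSite.restr O U).obj M => (φ.val.app (op W)).hom z) (kernel.condition g)
        rw [this]
        exact map_zero (((ModSite.restr O U).obj M).val.map (Over.homMk (homOfLE k) : overLE W k ⟶ W).op).hom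
      rw [oHom_ιFree_fdesc] at h0
      have hy0 : Finsupp.linearCombination (O.obj.obj (op V))
          (fun i => (sres M (overLE W k).hom.le (e i) : ModSite.sect M V)) y = 0 := by
        refine Eq.trans ?_ h0
        exact congrArg (fun v : ι → ModSite.sect M V => Finsupp.linearCombination (O.obj.obj (op V)) v y)
          (funext fun i => (hval (overLE W k) i).symm)
      obtain ⟨V', k', hpV', hm⟩ := hP.relGen V (overLE W k).hom.le y hy0 p hpV
      obtain ⟨c, hc⟩ := (Finsupp.mem_span_range_iff_exists_finsupp).1 hm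
      refine ⟨V', k'.trans k, hpV', comb κ (overLE W (k'.trans k)) c, ?_⟩
      have hinj : Function.Injective (oHom (kernel.ι g) (overLE W (k'.trans k))) :=
        (ModuleCat.mono_iff_injective ((kernel.ι g).val.app (op (overLE W (k'.trans k))))).1
          (inferInstanceAs (Mono ((SheafOfModules.evaluation _ (op (overLE W (k'.trans k)))).map (kernel.ι g))))
      apply hinj
      have e1 : oHom (kernel.ι g) (overLE W (k'.trans k)) (oRes _ W (k'.trans k) z) =
          comb ι (overLE W (k'.trans k)) (fRes k' y) := by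
        refine (oHom_res (kernel.ι g) W (k'.trans k) z).trans ?_
        refine Eq.trans ?_ (comb_res (overLE W k) k' y)
        rw [← hy]
        exact oRes_oRes W k k' _
      refine Eq.trans ?_ e1.symm
      refine Eq.trans (congrArg (fun φ : SheafOfModules.free κ ⟶ freeO O U ι =>
        (φ.val.app (op (overLE W (k'.trans k)))).hom (comb κ (overLE W (k'.trans k)) c)) (kernel.lift_ι g f hfg)) ?_
      refine (oHom_ιFree_fdesc β (overLE W (k'.trans k)) c).trans ?_
      rw [← hc, map_finsuppSum, Finsupp.linearCombination_apply]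
      refine Finsupp.sum_congr fun j _ => ?_
      rw [hvalβ]
      exact (map_smul (comb ι (overLE W (k'.trans k))) _ _).symm
    exact (SheafOfModules.toSheaf _).epi_of_epi_map inferInstance
  exact ⟨SheafOfModules.presentationOfIsCokernelFree f g hfg
    ((ShortComplex.exact_iff_epi_kernel_lift (ShortComplex.mk f g hfg)).2 hk).gIsCokernel⟩

end Site

variable {𝔛 : FSch.Sys.{u}} {h : 𝔛.IsFormal} {F G M : FSch.ModF 𝔛 h}

/-- Modules that are generated by sections with generated relations are presented. -/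
theorem IsQC.exists_presentation {W : (𝔛.X 0).Opens} (hQ : IsQC M W) :
    Nonempty ((ModSite.restr (𝔛.Osh h) W).obj M).Presentation := by
  classical
  let R := {x : ModSite.sect M W →₀ Sec 𝔛 h W //
    Finsupp.linearCombination (Sec 𝔛 h W) (fun s : ModSite.sect M W => s) x = 0}
  refine exists_presentation_inf (e := fun s : ModSite.sect M W => s) (r := fun x : R => x.1)
    ⟨fun x => x.2, hQ.gen, fun V hV y hy p hp => ?_⟩
  let S := y.support
  have hy' : ∑ i : S, y i.1 • sres M hV i.1 = 0 := by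
    refine Eq.trans ?_ hy
    rw [Finsupp.linearCombination_apply, Finsupp.sum]
    exact Finset.sum_coe_sort S fun i => y i • sres M hV i
  obtain ⟨W', hW', hpW', hm⟩ := hQ.rel S (fun i : S => i.1) V hV (fun i : S => y i.1) hy' p hp
  refine ⟨W', hW', hpW', ?_⟩
  let L : (S → Sec 𝔛 h W') →ₗ[Sec 𝔛 h W'] ModSite.sect M W →₀ Sec 𝔛 h W' :=
    Fintype.linearCombination (Sec 𝔛 h W') fun i : S => Finsupp.single i.1 (1 : Sec 𝔛 h W')
  have hL : ∀ {V' : (𝔛.X 0).Opens} (hV' : W' ≤ V') (z : S → Sec 𝔛 h V'),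
      L (wRes hV' z) = fRes hV' (∑ i : S, Finsupp.single i.1 (z i)) := fun hV' z => by
    refine (Fintype.linearCombination_apply (R := Sec 𝔛 h W') _ _).trans ?_
    refine Eq.trans ?_ (map_sum (Finsupp.mapRange.addMonoidHom
      ((𝔛.Osh h).obj.map (homOfLE hV').op).hom.toAddMonoidHom) _ _).symm
    refine Finset.sum_congr rfl fun i _ => ?_
    refine Eq.trans ?_ (Finsupp.mapRange_single (hf := map_zero _)).symm
    rw [Finsupp.smul_single', mul_one]
    rfl
  have e : fRes hW' y = L (wRes hW' fun i : S => y i.1) := by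
    rw [hL]
    refine congrArg (fRes hW') (Eq.trans ?_ (Finset.sum_coe_sort S fun i => Finsupp.single i (y i)).symm)
    exact (Finsupp.sum_single y).symm
  rw [e]
  refine Submodule.span_le.2 ?_ (Submodule.map_span L _ ▸ Submodule.mem_map_of_mem (f := L) hm)
  rintro _ ⟨_, ⟨b, hb, rfl⟩, rfl⟩
  refine Submodule.subset_span ⟨⟨∑ i : S, Finsupp.single i.1 (b i), ?_⟩, (hL _ b).symm⟩
  rw [map_sum]
  exact Eq.trans (Finset.sum_congr rfl fun i _ => Finsupp.linearCombination_single _ _ _) hb

/-- Locally sectionwise presented modules are quasi-coherent. -/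
theorem isQuasicoherent_of_isQC (H : ∀ p : 𝔛.X 0, ∃ W : (𝔛.X 0).Opens, p ∈ W ∧ IsQC M W) :
    SheafOfModules.IsQuasicoherent.{u} M := by
  choose W hpW hW using H
  exact SheafOfModules.QuasicoherentData.isQuasicoherent.{u}
    { I := 𝔛.X 0
      X := W
      coversTop := (Opens.coversTop_iff _ _).2 (eq_top_iff.2 fun p _ => Opens.mem_iSup.2 ⟨p, hpW p⟩)
      presentation := fun p => (hW p).exists_presentation.some }

/-- A family killed by a monomorphism has generated relations if its image has. -/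
theorem RelGen.of_mono (i : M ⟶ F) [Mono i] {W : (𝔛.X 0).Opens} {α : Type u} [Fintype α] (s : α → ModSite.sect M W)
    (hs : RelGen F W fun a => sHom i W (s a)) : RelGen M W s := by
  intro V hV y hy p hp
  have h1 : ∑ a, y a • sres F hV (sHom i W (s a)) = 0 := by
    have h2 := congrArg (sHom i V) hy
    rw [map_zero, map_sum] at h2
    refine Eq.trans (Finset.sum_congr rfl fun a _ => ?_) h2
    exact Eq.trans (congrArg (y a • ·) (sHom_res i hV (s a)).symm) ((sHom i V).map_smul _ _).symm
  obtain ⟨W', hW', hpW', hm⟩ := hs V hV y h1 p hp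
  refine ⟨W', hW', hpW', Submodule.span_mono (Set.image_mono fun b hb => ?_) hm⟩
  refine sHom_injective i W ?_
  refine (map_sum (sHom i W) _ _).trans (Eq.trans ?_ (hb.trans (map_zero (sHom i W)).symm))
  exact Finset.sum_congr rfl fun a _ => (sHom i W).map_smul _ _

set_option maxHeartbeats 1000000 in
/-- Kernels. -/
theorem IsQC.kernel {W : (𝔛.X 0).Opens} (φ : F ⟶ G) (hF : IsQC F W) (hG : IsQC G W) :
    IsQC (Limits.kernel φ) W where
  gen V hV z p hp := by
    classical
    obtain ⟨W₁, hW₁, hpW₁, hm⟩ := hF.gen V hV (sHom (kernel.ι φ) V z) p hp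
    obtain ⟨x, hx⟩ := (Finsupp.mem_span_range_iff_exists_finsupp).1 hm
    let S := x.support
    have hW₁W : W₁ ≤ W := hW₁.trans hV
    have hz : sHom (kernel.ι φ) W₁ (sres (Limits.kernel φ) hW₁ z) = ∑ i : S, x i.1 • sres F hW₁W i.1 :=
      (sHom_res (kernel.ι φ) hW₁ z).trans (hx.symm.trans (Finset.sum_coe_sort S fun i => x i • sres F hW₁W i).symm)
    have h0 : ∑ i : S, x i.1 • sres G hW₁W (sHom φ W i.1) = 0 := by
      have h1 := congrArg (sHom φ W₁) hz
      rw [sHom_eq_zero (kernel.condition φ), map_sum] at h1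
      refine Eq.trans (Finset.sum_congr rfl fun i _ => ?_) h1.symm
      exact Eq.trans (congrArg (x i.1 • ·) (sHom_res φ hW₁W i.1).symm) ((sHom φ W₁).map_smul _ _).symm
    obtain ⟨W', hW', hpW', hm'⟩ := hG.rel S (fun i : S => sHom φ W i.1) W₁ hW₁W (fun i : S => x i.1) h0 p hpW₁
    refine ⟨W', hW'.trans hW₁, hpW', ?_⟩
    let Λ : (S → Sec 𝔛 h W') →ₗ[Sec 𝔛 h W'] ModSite.sect F W' :=
      Fintype.linearCombination (Sec 𝔛 h W') fun i : S => sres F (hW'.trans hW₁W) i.1
    have e : sHom (kernel.ι φ) W' (sres (Limits.kernel φ) (hW'.trans hW₁) z) = Λ (wRes hW' fun i : S => x i.1) := by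
      rw [← sres_sres hW₁ hW', sHom_res, hz, sres_comb]
      simp only [sres_sres]
      exact (Fintype.linearCombination_apply (R := Sec 𝔛 h W') _ _).symm
    have hmem : sHom (kernel.ι φ) W' (sres (Limits.kernel φ) (hW'.trans hW₁) z) ∈ Submodule.map (sHom (kernel.ι φ) W')
        (Submodule.span (Sec 𝔛 h W') (Set.range fun s : ModSite.sect (Limits.kernel φ) W =>
          sres (Limits.kernel φ) ((hW'.trans hW₁).trans hV) s)) := by
      rw [e]
      refine Submodule.span_le.2 ?_ (Submodule.map_span Λ _ ▸ Submodule.mem_map_of_mem (f := Λ) hm')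
      rintro _ ⟨_, ⟨b, hb, rfl⟩, rfl⟩
      have hb0 : sHom φ W (∑ i : S, b i • i.1) = 0 :=
        (map_sum (sHom φ W) _ _).trans ((Finset.sum_congr rfl fun i _ => (sHom φ W).map_smul _ _).trans hb)
      obtain ⟨k, hk⟩ := exists_kernel_sect φ W _ hb0
      refine ⟨sres _ _ k, Submodule.subset_span ⟨k, rfl⟩, ?_⟩
      rw [sHom_res, hk, sres_comb]
      exact (Fintype.linearCombination_apply (R := Sec 𝔛 h W') _ _).symm
    obtain ⟨w, hw, hwz⟩ := hmem
    exact Eq.subst (motive := fun v => v ∈ _) (sHom_injective (kernel.ι φ) W' hwz) hw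
  rel α _ s := RelGen.of_mono (kernel.ι φ) s (hF.rel α fun a => sHom (kernel.ι φ) W (s a))

variable (hN : 𝔛.IsLocNoethFormal)
include hN

set_option maxHeartbeats 1000000 in
/-- Cokernels. -/
theorem IsQC.cokernel {W : (𝔛.X 0).Opens} (hW : IsAffineOpen W) (φ : F ⟶ G) (hF : IsQC F W) (hG : IsQC G W) :
    IsQC (Limits.cokernel φ) W := by
  classical
  refine IsQC.of_family hN hW (fun g : ModSite.sect G W => sHom (cokernel.π φ) W g) (fun V hV c p hp => ?_)
    fun S V hV y hy p hp => ?_
  · obtain ⟨W₁, hW₁, hpW₁, g, hg⟩ := exists_local_preimage (cokernel.π φ) c hp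
    obtain ⟨W', hW', hpW', hm⟩ := hG.gen W₁ (hW₁.trans hV) g p hpW₁
    refine ⟨W', hW'.trans hW₁, hpW', ?_⟩
    rw [← sres_sres hW₁ hW', ← hg, ← sHom_res]
    refine Submodule.span_le.2 ?_ (Submodule.map_span (sHom (cokernel.π φ) W') _ ▸
      Submodule.mem_map_of_mem (f := sHom (cokernel.π φ) W') hm)
    rintro _ ⟨_, ⟨s, rfl⟩, rfl⟩
    exact Submodule.subset_span ⟨s, (sHom_res _ _ s).symm⟩
  · have h0 : sHom (cokernel.π φ) V (∑ i : S, y i • sres G hV i.1) = 0 := by
      rw [map_sum]
      refine Eq.trans (Finset.sum_congr rfl fun i _ => ?_) hy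
      rw [map_smul, sHom_res]
    obtain ⟨W₁, hW₁, hpW₁, f, hf⟩ := exists_local_preimage_of_exact
      (ShortComplex.mk φ (cokernel.π φ) (cokernel.condition φ)) (ShortComplex.exact_cokernel φ)
      (∑ i : S, y i • sres G hV i.1) h0 hp
    obtain ⟨W₂, hW₂, hpW₂, hm⟩ := hF.gen W₁ (hW₁.trans hV) f p hpW₁
    obtain ⟨x, hx⟩ := (Finsupp.mem_span_range_iff_exists_finsupp).1 hm
    let K := x.support
    have hW₂V : W₂ ≤ V := hW₂.trans hW₁
    have hW₂W : W₂ ≤ W := hW₂V.trans hV
    let s : S ⊕ K → ModSite.sect G W := Sum.elim (fun i => i.1) fun k => sHom φ W k.1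
    let z : S ⊕ K → Sec 𝔛 h W₂ := Sum.elim (wRes hW₂V y) fun k => -x k.1
    have e1 : sHom φ W₂ (sres F hW₂ f) = ∑ i : S, rRes hW₂V (y i) • sres G hW₂W i.1 := by
      refine (sHom_res φ hW₂ f).trans ((congrArg (sres G hW₂) hf).trans ((sres_sres hW₁ hW₂ _).trans ?_))
      rw [sres_comb]
      simp only [sres_sres]
    have hz : ∑ i, z i • sres G hW₂W (s i) = 0 := by
      rw [Fintype.sum_sum_type]
      simp only [z, s, Sum.elim_inl, Sum.elim_inr, neg_smul, Finset.sum_neg_distrib]
      rw [← sub_eq_add_neg, sub_eq_zero]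
      refine (e1.symm.trans ?_)
      refine (congrArg (sHom φ W₂) hx.symm).trans ((map_finsuppSum (sHom φ W₂) _ _).trans ?_)
      refine Eq.trans ?_ (Finset.sum_coe_sort K fun k => x k • sres G hW₂W (sHom φ W k)).symm
      exact Finset.sum_congr rfl fun k _ =>
        ((sHom φ W₂).map_smul _ _).trans (congrArg (x k • ·) (sHom_res φ hW₂W k))
    obtain ⟨W', hW', hpW', hm'⟩ := hG.rel (S ⊕ K) s W₂ hW₂W z hz p hpW₂
    refine ⟨W', hW'.trans hW₂V, hpW', ?_⟩
    let P : (S ⊕ K → Sec 𝔛 h W') →ₗ[Sec 𝔛 h W'] S → Sec 𝔛 h W' := LinearMap.funLeft _ _ Sum.inl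
    have e2 : wRes (hW'.trans hW₂V) y = P (wRes hW' z) := (wRes_wRes hW₂V hW' y).symm
    rw [e2]
    refine Submodule.span_le.2 ?_ (Submodule.map_span P _ ▸ Submodule.mem_map_of_mem (f := P) hm')
    rintro _ ⟨_, ⟨b, hb, rfl⟩, rfl⟩
    refine Submodule.subset_span ⟨fun i => b (Sum.inl i), ?_, rfl⟩
    have h1 := congrArg (sHom (cokernel.π φ) W) hb
    rw [map_zero, map_sum, Fintype.sum_sum_type] at h1
    simp only [s, Sum.elim_inl, Sum.elim_inr, map_smul] at h1
    rw [Finset.sum_eq_zero (fun k _ => (congrArg (b (Sum.inr k) • ·) (sHom_eq_zero (cokernel.condition φ) W _)).trans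
      (smul_zero _)), add_zero] at h1
    exact h1

/-- Quasi-coherent modules are presented by sections on small affine opens. -/
theorem exists_isQC (M : FSch.ModF 𝔛 h) [SheafOfModules.IsQuasicoherent.{u} M] {U : (𝔛.X 0).Opens} {p : 𝔛.X 0}
    (hp : p ∈ U) : ∃ W : (𝔛.X 0).Opens, IsAffineOpen W ∧ p ∈ W ∧ W ≤ U ∧ IsQC M W := by
  obtain ⟨q⟩ := SheafOfModules.IsQuasicoherent.nonempty_quasicoherentData (M := M)
  obtain ⟨i, hi⟩ := Opens.mem_iSup.1 (((Opens.coversTop_iff _ q.X).1 q.coversTop).symm ▸ Opens.mem_top p)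
  obtain ⟨W, hW, hpW, hWU⟩ := exists_isAffineOpen_mem_and_subset (x := p) (U := U ⊓ q.X i) ⟨hp, hi⟩
  obtain ⟨e, r, hP⟩ := @exists_isInfPres _ (𝔛.Osh h) _ _ (q.X i) M _ _ _ (q.presentation i).isColimit W
    (fun x hx => (hWU hx).2) hW.isCompact
  exact ⟨W, hW, hpW, fun x hx => (hWU hx).1, IsQC.of_infPres hN hW hP⟩

end GrothLib.FCat7
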