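import Groth.Agent.Lib.FCat7.GammaQC

/-!
# Quasi-coherent torsion modules are presented by sections on every affine open
-/

set_option autoImplicit false
set_option linter.style.haveILetI false
set_option linter.unusedSectionVars false
universe u

open CategoryTheory CategoryTheory.Limits AlgebraicGeometry TopologicalSpace Opposite

noncomputable section

namespace GrothLib.FCat7

open GrothLib.FMod7

variable {𝔛 : FSch.Sys.{u}} {h : 𝔛.IsFormal} (hN : 𝔛.IsLocNoethFormal) {M : FSch.ModF 𝔛 h}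
  (hT : FTors.IsTorsF 𝔛 h M) {W : (𝔛.X 0).Opens} (hW : IsAffineOpen W) [SheafOfModules.IsQuasicoherent.{u} M]
include hN hT hW

/-- Every point has a basic open of an affine open presented by sections. -/
theorem exists_sBasic_isQC {p : 𝔛.X 0} (hp : p ∈ W) : ∃ g : Sec 𝔛 h W, p ∈ sBasic g ∧ IsQC M (sBasic g) := by
  obtain ⟨W', -, hpW', -, hM⟩ := exists_isQC hN M hp
  obtain ⟨g, hpg, hgW'⟩ := exists_sBasic_le hN hW hp hpW'
  exact ⟨g, hpg, hM.res hN (isAffineOpen_sBasic hW g) hgW'⟩

/-- A finite cover by basic opens presented by sections. -/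
theorem exists_finite_sBasic_isQC : ∃ t : Finset (Sec 𝔛 h W),
    (∀ g ∈ t, IsQC M (sBasic g)) ∧ ∀ p ∈ W, ∃ g ∈ t, p ∈ sBasic g := by
  classical
  choose g hpg hg using fun p : W => exists_sBasic_isQC hN hT hW p.2
  obtain ⟨t, ht⟩ := hW.isCompact.elim_finite_subcover (fun p : W => (sBasic (g p) : Set (𝔛.X 0)))
    (fun p => (sBasic (g p)).2) fun p hp => Set.mem_iUnion.2 ⟨⟨p, hp⟩, hpg _⟩
  refine ⟨t.image g, fun x hx => ?_, fun p hp => ?_⟩
  · obtain ⟨q, -, rfl⟩ := Finset.mem_image.1 hx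
    exact hg q
  · obtain ⟨q, hq, hpq⟩ := Set.mem_iUnion₂.1 (ht hp)
    exact ⟨g q, Finset.mem_image_of_mem g hq, hpq⟩

theorem exists_killed_of_tors (s : ModSite.sect M W) : ∃ n, Killed n s :=
  exists_killed hN (hT W s) hW.isCompact

/-- Sections vanishing on a basic open are killed by a power. -/
theorem tors_exists_pow_smul_eq_zero (y : ModSite.sect M W) (f : Sec 𝔛 h W)
    (h0 : sres M (sBasic_le f) y = 0) : ∃ k : ℕ, f ^ k • y = 0 := by
  classical
  obtain ⟨n, hy⟩ := exists_killed_of_tors hN hT hW y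
  obtain ⟨t, ht, htc⟩ := exists_finite_sBasic_isQC hN hT hW
  have H : ∀ g : t, ∃ k : ℕ, rRes (sBasic_le g.1) f ^ k • sres M (sBasic_le g.1) y = 0 := fun g => by
    refine (ht g.1 g.2).exists_pow_smul_eq_zero hN (isAffineOpen_sBasic hW g.1) (hy.res (sBasic_le g.1)) _ ?_
    have hle : sBasic (rRes (sBasic_le g.1) f) ≤ sBasic f := (sBasic_rRes _ f).le.trans inf_le_right
    rw [sres_sres, ← sres_sres (sBasic_le f) hle, h0]
    exact map_zero (M.val.map (homOfLE hle).op).hom
  choose k hk using H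
  refine ⟨Finset.univ.sup k, sect_ext M _ _ fun p hp => ?_⟩
  obtain ⟨g, hg, hpg⟩ := htc p hp
  refine ⟨sBasic g, sBasic_le g, hpg, ?_⟩
  obtain ⟨j, hj⟩ := Nat.exists_eq_add_of_le (Finset.le_sup (f := k) (Finset.mem_univ (⟨g, hg⟩ : t)))
  refine (M.val.map_smul (homOfLE (sBasic_le g)).op _ y).trans (Eq.trans ?_ (map_zero _).symm)
  show rRes (sBasic_le g) (f ^ Finset.univ.sup k) • sres M (sBasic_le g) y = 0
  rw [map_pow, hj, pow_add, mul_comm, mul_smul, hk ⟨g, hg⟩, smul_zero]

/-- Sections over a basic open extend after multiplication by a power. -/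
theorem tors_exists_pow_smul_eq_sres (f : Sec 𝔛 h W) (x : ModSite.sect M (sBasic f)) :
    ∃ (k : ℕ) (y : ModSite.sect M W), sres M (sBasic_le f) y = rRes (sBasic_le f) f ^ k • x := by
  classical
  obtain ⟨t, ht, htc⟩ := exists_finite_sBasic_isQC hN hT hW
  let D : t → (𝔛.X 0).Opens := fun g => sBasic g.1
  have hD : ∀ g, IsAffineOpen (D g) := fun g => isAffineOpen_sBasic hW g.1
  let fg : ∀ g : t, Sec 𝔛 h (D g) := fun g => rRes (sBasic_le g.1) f
  have hDf : ∀ g : t, sBasic (fg g) ≤ sBasic f := fun g => (sBasic_rRes _ f).le.trans inf_le_right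
  choose k y hy using fun g : t => (ht g.1 g.2).exists_pow_smul_eq_sres hN (hD g)
    (fun s => exists_killed hN (hT _ s) (hD g).isCompact) (fg g) (sres M (hDf g) x)
  let K := Finset.univ.sup k
  let y' : ∀ g : t, ModSite.sect M (D g) := fun g => fg g ^ (K - k g) • y g
  have hy' : ∀ g : t, sres M (sBasic_le (fg g)) (y' g) = sres M (hDf g) (rRes (sBasic_le f) f ^ K • x) := fun g => by
    have e : ∀ j : ℕ, rRes (hDf g) (rRes (sBasic_le f) f ^ j) = rRes (sBasic_le (fg g)) (fg g ^ j) := fun j => by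
      rw [map_pow, map_pow]
      exact congrArg (· ^ j) ((ores_ores (sBasic_le f) (hDf g) f).trans (ores_ores (sBasic_le g.1) (sBasic_le (fg g)) f).symm)
    refine (M.val.map_smul (homOfLE (sBasic_le (fg g))).op _ _).trans (Eq.trans ?_ (M.val.map_smul (homOfLE (hDf g)).op _ x).symm)
    show rRes (sBasic_le (fg g)) (fg g ^ (K - k g)) • sres M (sBasic_le (fg g)) (y g) =
      rRes (hDf g) (rRes (sBasic_le f) f ^ K) • sres M (hDf g) x
    rw [hy g, smul_smul, e, map_pow, map_pow, ← pow_add, Nat.sub_add_cancel (Finset.le_sup (f := k) (Finset.mem_univ g))]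
  -- the differences on overlaps
  let V : t → t → (𝔛.X 0).Opens := fun g g' => D g ⊓ D g'
  have hV : ∀ g g', IsAffineOpen (V g g') := fun g g' => by
    show IsAffineOpen (sBasic g.1 ⊓ sBasic g'.1)
    exact sBasic_mul g.1 g'.1 ▸ isAffineOpen_sBasic hW _
  have hVW : ∀ g g', V g g' ≤ W := fun g g' => inf_le_left.trans (sBasic_le g.1)
  have H : ∀ p : t × t, ∃ j : ℕ, rRes (hVW p.1 p.2) f ^ j •
      (sres M (inf_le_left : V p.1 p.2 ≤ D p.1) (y' p.1) - sres M (inf_le_right : V p.1 p.2 ≤ D p.2) (y' p.2)) = 0 := by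
    intro p
    obtain ⟨n, hn⟩ := exists_killed hN (hT _ (sres M (inf_le_left : V p.1 p.2 ≤ D p.1) (y' p.1) -
      sres M (inf_le_right : V p.1 p.2 ≤ D p.2) (y' p.2))) (hV p.1 p.2).isCompact
    refine ((ht p.1.1 p.1.2).res hN (hV p.1 p.2) inf_le_left).exists_pow_smul_eq_zero hN (hV p.1 p.2) hn _ ?_
    let B := sBasic (rRes (hVW p.1 p.2) f)
    have hB : B = V p.1 p.2 ⊓ sBasic f := sBasic_rRes _ f
    have h1 : B ≤ sBasic (fg p.1) := by
      rw [sBasic_rRes, hB]
      exact inf_le_inf_right _ inf_le_left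
    have h2 : B ≤ sBasic (fg p.2) := by
      rw [sBasic_rRes, hB]
      exact inf_le_inf_right _ inf_le_right
    refine (map_sub (M.val.map (homOfLE (sBasic_le (rRes (hVW p.1 p.2) f))).op).hom _ _).trans (sub_eq_zero.2 ?_)
    refine ((sres_sres _ _ _).trans ((sres_sres (sBasic_le (fg p.1)) h1 _).symm.trans ?_))
    refine Eq.trans ?_ ((sres_sres (sBasic_le (fg p.2)) h2 _).trans (sres_sres _ _ _).symm)
    rw [hy', hy', sres_sres, sres_sres]
  choose j hj using H
  let J := Finset.univ.sup j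
  let z : ∀ g : t, ModSite.sect M (D g) := fun g => fg g ^ J • y' g
  have hcompat : ∀ g g', sres M (inf_le_left : V g g' ≤ D g) (z g) = sres M (inf_le_right : V g g' ≤ D g') (z g') := by
    intro g g'
    obtain ⟨i, hi⟩ := Nat.exists_eq_add_of_le (Finset.le_sup (f := j) (Finset.mem_univ (g, g')))
    refine sub_eq_zero.1 ?_
    have e1 : ∀ (g₀ : t) (hl : V g g' ≤ D g₀), sres M hl (z g₀) = rRes (hVW g g') f ^ J • sres M hl (y' g₀) :=
      fun g₀ hl => by
        refine (M.val.map_smul (homOfLE hl).op _ _).trans ?_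
        show rRes hl (fg g₀ ^ J) • sres M hl (y' g₀) = _
        rw [map_pow]
        exact congrArg (fun a => a ^ J • sres M hl (y' g₀)) (ores_ores (sBasic_le g₀.1) hl f)
    rw [e1, e1, ← smul_sub, show J = j (g, g') + i from hi, pow_add, mul_comm, mul_smul, hj (g, g'), smul_zero]
  let F : TopCat.Sheaf Ab.{u} (𝔛.X 0).toTopCat := ModSite.toAb M
  have hcov : W ≤ iSup D := fun p hp => by
    obtain ⟨g, hg, hpg⟩ := htc p hp
    exact Opens.mem_iSup.2 ⟨⟨g, hg⟩, hpg⟩
  obtain ⟨Y, hY, -⟩ := F.existsUnique_gluing' D W (fun g => homOfLE (sBasic_le g.1)) hcov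
    (fun g => (z g : ToType (F.1.obj (op (D g))))) (fun g g' => hcompat g g')
  refine ⟨J + K, Y, sect_ext M _ _ fun p hp => ?_⟩
  obtain ⟨g, hg, hpg⟩ := htc p (sBasic_le f hp)
  let g₀ : t := ⟨g, hg⟩
  have hl : D g₀ ⊓ sBasic f ≤ sBasic f := inf_le_right
  refine ⟨D g₀ ⊓ sBasic f, hl, ⟨hpg, hp⟩, ?_⟩
  have hl' : D g₀ ⊓ sBasic f ≤ sBasic (fg g₀) := (sBasic_rRes (sBasic_le g) f).ge
  have hYg : sres M (sBasic_le g) Y = z g₀ := hY g₀
  refine (sres_sres (sBasic_le f) hl Y).trans ?_
  refine (sres_sres (sBasic_le g) (inf_le_left : D g₀ ⊓ sBasic f ≤ D g₀) Y).symm.trans ?_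
  refine (congrArg (sres M (inf_le_left : D g₀ ⊓ sBasic f ≤ D g₀)) hYg).trans ?_
  refine (sres_sres (sBasic_le (fg g₀)) hl' _).symm.trans ?_
  have e2 : sres M (sBasic_le (fg g₀)) (z g₀) = sres M (hDf g₀) (rRes (sBasic_le f) f ^ (J + K) • x) := by
    refine (M.val.map_smul (homOfLE (sBasic_le (fg g₀))).op _ _).trans ?_
    show rRes (sBasic_le (fg g₀)) (fg g₀ ^ J) • sres M (sBasic_le (fg g₀)) (y' g₀) = _
    rw [hy' g₀, pow_add, mul_smul]
    refine Eq.trans ?_ (M.val.map_smul (homOfLE (hDf g₀)).op (rRes (sBasic_le f) f ^ J) _).symm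
    show _ = rRes (hDf g₀) (rRes (sBasic_le f) f ^ J) • sres M (hDf g₀) (rRes (sBasic_le f) f ^ K • x)
    rw [map_pow, map_pow]
    exact congrArg (fun a : Sec 𝔛 h (sBasic (fg g₀)) => a ^ J • (sres M (hDf g₀) (rRes (sBasic_le f) f ^ K • x) :
      ModSite.sect M (sBasic (fg g₀))))
      ((ores_ores (sBasic_le g) (sBasic_le (fg g₀)) f).trans (ores_ores (sBasic_le f) (hDf g₀) f).symm)
  rw [e2, sres_sres]

omit hT [SheafOfModules.IsQuasicoherent.{u} M] in
/-- A function invertible modulo the ideal of definition is invertible. -/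
theorem isUnit_sres_sBasic (g : Sec 𝔛 h W) : IsUnit (rRes (sBasic_le g) g) := by
  have hV := isAffineOpen_sBasic hW g
  have h0 : IsUnit (proj 𝔛 h (sBasic g) 0 (rRes (sBasic_le g) g)) := by
    have e : proj 𝔛 h (sBasic g) 0 (rRes (sBasic_le g) g) =
      (𝔛.X 0).presheaf.map (homOfLE (lvU_mono (h := h) (sBasic_le g) 0)).op (proj 𝔛 h W 0 g) :=
        proj_res h W (sBasic_le g) 0 g
    rw [e]
    have h1 := ((𝔛.X 0).toRingedSpace.isUnit_res_basicOpen (proj 𝔛 h W 0 g)).map
      ((𝔛.X 0).presheaf.map (homOfLE (lvU_zero (h := h) (sBasic g)).le).op).hom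
    exact Eq.subst (motive := IsUnit)
      (ConcreteCategory.congr_hom ((𝔛.X 0).presheaf.map_comp (homOfLE ((𝔛.X 0).basicOpen_le (proj 𝔛 h W 0 g))).op
        (homOfLE (lvU_zero (h := h) (sBasic g)).le).op) (proj 𝔛 h W 0 g)).symm h1
  obtain ⟨v, hv⟩ := proj_surjective (h := h) hN hV 0 (↑h0.unit⁻¹)
  have hmem : rRes (sBasic_le g) g * v - 1 ∈ secIdeal 𝔛 h (sBasic g) := by
    rw [secIdeal, RingHom.mem_ker, map_sub, map_mul, map_one, hv, sub_eq_zero]
    exact h0.mul_val_inv
  have hj := Ideal.mem_jacobson_bot.1 (secIdeal_le_jacobson hN hV hmem) 1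
  rw [mul_one, sub_add_cancel] at hj
  exact isUnit_of_mul_isUnit_left hj

set_option maxHeartbeats 800000 in
/-- Quasi-coherent torsion modules are presented by sections on every affine open. -/
theorem isQC_of_tors : IsQC M W where
  gen V hV m p hp := by
    obtain ⟨g, hpg, hgV⟩ := exists_sBasic_le hN hW (hV hp) hp
    obtain ⟨k, y, hy⟩ := tors_exists_pow_smul_eq_sres hN hT hW g (sres M hgV m)
    obtain ⟨v, hv⟩ := (isUnit_sres_sBasic hN hW g).pow k
    refine ⟨sBasic g, hgV, hpg, ?_⟩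
    have e : sres M hgV m = (↑v⁻¹ : Sec 𝔛 h (sBasic g)) • sres M (hgV.trans hV) y := by
      rw [show sres M (hgV.trans hV) y = sres M (sBasic_le g) y from rfl, hy, smul_smul, ← hv, Units.inv_mul, one_smul]
    rw [e]
    exact Submodule.smul_mem _ _ (Submodule.subset_span ⟨y, rfl⟩)
  rel α _ s V hV y hy p hp := by
    classical
    choose N hNs using fun a => exists_killed_of_tors hN hT hW (s a)
    let n := Finset.univ.sup N
    obtain ⟨g, hpg, hgV⟩ := exists_sBasic_le hN hW (hV hp) hp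
    have hD := isAffineOpen_sBasic hW g
    choose k b hb using fun a => exists_pow_mul_sub_mem hN hW n g (rRes hgV (y a))
    let K := Finset.univ.sup k
    let c : α → Sec 𝔛 h W := fun a => g ^ (K - k a) * b a
    have hc : ∀ a, rRes (sBasic_le g) g ^ K * rRes hgV (y a) - rRes (sBasic_le g) (c a) ∈
        secIdeal 𝔛 h (sBasic g) ^ (n + 1) := fun a => by
      have hK : K = (K - k a) + k a := (Nat.sub_add_cancel (Finset.le_sup (Finset.mem_univ a))).symm
      have e : rRes (sBasic_le g) g ^ K * rRes hgV (y a) - rRes (sBasic_le g) (c a) =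
          rRes (sBasic_le g) g ^ (K - k a) * (rRes (sBasic_le g) g ^ k a * rRes hgV (y a) - rRes (sBasic_le g) (b a)) := by
        simp only [c, map_mul, map_pow]
        conv_lhs => rw [hK, pow_add, show (K - k a + k a - k a) = K - k a by omega]
        ring
      rw [e]
      exact Ideal.mul_mem_left _ _ (hb a)
    have hkill : ∀ a, Killed n (s a) := fun a => FTors.KilledBy.mono (Finset.le_sup (Finset.mem_univ a)) (hNs a)
    have h0 : sres M (sBasic_le g) (∑ a, c a • s a) = 0 := by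
      have h1 : sres M hgV (∑ a, y a • sres M hV (s a)) = 0 :=
        (congrArg (sres M hgV) hy).trans (map_zero (M.val.map (homOfLE hgV).op).hom)
      rw [sres_comb] at h1
      simp only [sres_sres] at h1
      rw [sres_comb]
      refine Eq.trans (Finset.sum_congr rfl fun a _ => ?_)
        ((Finset.smul_sum (r := rRes (sBasic_le g) g ^ K)).symm.trans ((congrArg _ h1).trans (smul_zero _)))
      refine (sub_eq_zero.1 ?_).symm
      rw [smul_smul, ← sub_smul]
      exact (hkill a).smul_mem hN (sBasic_le g) hD (hc a)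
    obtain ⟨q, hq⟩ := tors_exists_pow_smul_eq_zero hN hT hW _ g h0
    obtain ⟨v, hv⟩ := (isUnit_sres_sBasic hN hW g).pow (q + K)
    refine ⟨sBasic g, hgV, hpg, ?_⟩
    let T := Submodule.span (Sec 𝔛 h (sBasic g)) ((fun b : α → Sec 𝔛 h W => wRes (hgV.trans hV) b) ''
      {b | ∑ a, b a • s a = 0})
    show wRes hgV y ∈ T
    have hI : ∀ (a₀ : α) (e : Sec 𝔛 h (sBasic g)), e ∈ secIdeal 𝔛 h (sBasic g) ^ (n + 1) → Pi.single a₀ e ∈ T := by
      intro a₀ e he
      rw [← map_secIdeal_pow hN hW hD (sBasic_le g), Ideal.map] at he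
      refine Submodule.span_induction ?_ ?_ ?_ ?_ he
      · rintro _ ⟨i, hi, rfl⟩
        refine Submodule.subset_span ⟨Pi.single a₀ i, ?_, ?_⟩
        · show ∑ a, (Pi.single a₀ i : α → Sec 𝔛 h W) a • s a = 0
          rw [Finset.sum_eq_single a₀ (fun a _ ha => by rw [Pi.single_eq_of_ne ha, zero_smul])
            (fun hh => absurd (Finset.mem_univ _) hh), Pi.single_eq_same]
          exact (hkill a₀).smul_mem_self hN hW hi
        · funext a
          by_cases ha : a = a₀
          · subst ha; simp [wRes]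
          · simp [wRes, Pi.single_eq_of_ne ha]
      · rw [Pi.single_zero]; exact zero_mem _
      · intro x x' _ _ hx hx'
        rw [Pi.single_add]; exact add_mem hx hx'
      · intro r x _ hx
        rw [Pi.single_smul]; exact Submodule.smul_mem _ _ hx
    have h1 : wRes (hgV.trans hV) (g ^ q • c) ∈ T := Submodule.subset_span ⟨g ^ q • c, by
      show ∑ a, (g ^ q • c) a • s a = 0
      simp only [Pi.smul_apply, smul_eq_mul, mul_smul, ← Finset.smul_sum, hq], rfl⟩
    have h2 : wRes hgV y = (↑v⁻¹ : Sec 𝔛 h (sBasic g)) • (wRes (hgV.trans hV) (g ^ q • c) +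
        rRes (sBasic_le g) g ^ q • ∑ a, Pi.single a (rRes (sBasic_le g) g ^ K * rRes hgV (y a) - rRes (sBasic_le g) (c a))) := by
      funext a
      simp only [Finset.univ_sum_single, Pi.smul_apply, Pi.add_apply, smul_eq_mul, wRes, map_mul, map_pow,
        show rRes (hgV.trans hV) = rRes (sBasic_le g) from rfl]
      rw [show ∀ t u w : Sec 𝔛 h (sBasic g), t * u + t * (w - u) = t * w from fun t u w => by ring, ← mul_assoc,
        ← mul_assoc, mul_assoc _ (rRes (sBasic_le g) g ^ q), ← pow_add, ← hv, Units.inv_mul, one_mul]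
    rw [h2]
    exact Submodule.smul_mem _ _ (add_mem h1 (Submodule.smul_mem _ _ (Submodule.sum_mem _ fun a _ => hI a _ (hc a))))

end GrothLib.FCat7
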