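import Groth.Agent.Lib.FCat7.QCTSmall
import Groth.Agent.Lib.FCat7.FinPres

/-!
# The coreflection onto quasi-coherent torsion modules commutes with filtered colimits
-/

set_option autoImplicit false
set_option linter.style.haveILetI false
set_option linter.unusedSectionVars false
universe u

open CategoryTheory CategoryTheory.Limits AlgebraicGeometry TopologicalSpace Opposite

noncomputable section

namespace GrothLib.FCat7

open GrothLib.FMod7

variable {𝔛 : FSch.Sys.{u}} {h : 𝔛.IsFormal} (hN : 𝔛.IsLocNoethFormal)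
include hN

set_option maxHeartbeats 1000000 in
theorem preservesColimit_qct_coreflection [CompactSpace (𝔛.X 0)]
    (Q : FSch.ModF 𝔛 h ⥤ (FTors.IsQCT 𝔛 h).FullSubcategory) (adj : (FTors.IsQCT 𝔛 h).ι ⊣ Q)
    {J : Type u} [SmallCategory J] [IsFiltered J] (K : J ⥤ FSch.ModF 𝔛 h) : PreservesColimit K Q := by
  let P : ObjectProperty (FSch.ModF 𝔛 h) := FTors.IsQCT 𝔛 h
  refine ⟨fun {c} hc => ⟨isColimitOfReflects P.ι ?_⟩⟩
  let c₀ : Cocone ((K ⋙ Q) ⋙ P.ι) := colimit.cocone _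
  let hc₀ : IsColimit c₀ := colimit.isColimit _
  let c₁ : Cocone ((K ⋙ Q) ⋙ P.ι) := P.ι.mapCocone (Q.mapCocone c)
  let θ : c₀.pt ⟶ c₁.pt := hc₀.desc c₁
  have hθ : ∀ j, c₀.ι.app j ≫ θ = c₁.ι.app j := fun j => hc₀.fac c₁ j
  have h0 : FTors.IsQCT 𝔛 h c₀.pt := isQCT_of_colimit hN hc₀ fun j => (Q.obj (K.obj j)).property
  have h1 : FTors.IsQCT 𝔛 h c₁.pt := (Q.obj c.pt).property
  have hnat : ∀ j, c₁.ι.app j ≫ adj.counit.app c.pt = adj.counit.app (K.obj j) ≫ c.ι.app j :=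
    fun j => adj.counit.naturality (c.ι.app j)
  have hnatK : ∀ {j k : J} (f : j ⟶ k), ((K ⋙ Q) ⋙ P.ι).map f ≫ adj.counit.app (K.obj k) =
      adj.counit.app (K.obj j) ≫ K.map f := fun f => adj.counit.naturality (K.map f)
  have hinj : ∀ (F : FSch.ModF 𝔛 h) (_ : FTors.IsQCT 𝔛 h F) (M : FSch.ModF 𝔛 h)
      (a b : F ⟶ (Q.obj M).obj), a ≫ adj.counit.app M = b ≫ adj.counit.app M → a = b := by
    intro F hF M a b e
    have e' : (adj.homEquiv ⟨F, hF⟩ M).symm (ObjectProperty.homMk a) =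
        (adj.homEquiv ⟨F, hF⟩ M).symm (ObjectProperty.homMk b) := by
      rw [Adjunction.homEquiv_counit, Adjunction.homEquiv_counit]
      exact e
    exact congrArg P.ι.map ((adj.homEquiv ⟨F, hF⟩ M).symm.injective e')
  have hsurj : ∀ (F : FSch.ModF 𝔛 h) (_ : FTors.IsQCT 𝔛 h F) (M : FSch.ModF 𝔛 h) (a : F ⟶ M),
      ∃ b : F ⟶ (Q.obj M).obj, b ≫ adj.counit.app M = a := fun F hF M a =>
    ⟨P.ι.map (adj.homEquiv ⟨F, hF⟩ M a), by
      have := (adj.homEquiv ⟨F, hF⟩ M).symm_apply_apply a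
      rwa [Adjunction.homEquiv_counit] at this⟩
  haveI := h0.2
  haveI := h1.2
  haveI : Mono θ := by
    haveI := isQuasicoherent_kernel' hN θ
    refine Preadditive.mono_of_kernel_zero (hom_ext_basis fun A hA z => ?_)
    obtain ⟨F, φ, z', hmono, hcoh, hz⟩ := exists_coh_sub_of_tors hN
      (isTorsF_of_mono (kernel.ι θ) h0.1) ⟨A, hA⟩ z
    haveI := hcoh
    have hF : FTors.IsQCT 𝔛 h F :=
      isQCT_of_coh hN hcoh (@isTorsF_of_mono _ _ _ _ φ hmono (isTorsF_of_mono (kernel.ι θ) h0.1))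
    obtain ⟨j, g, hg⟩ := coh_hom_stage hN hc₀ (φ ≫ kernel.ι θ)
    obtain ⟨k, f, hk⟩ := coh_hom_kill hN hc (g ≫ adj.counit.app (K.obj j)) (by
      rw [Category.assoc, ← hnat, ← hθ, Category.assoc, reassoc_of% hg, kernel.condition_assoc, zero_comp, comp_zero])
    have hk' : g ≫ ((K ⋙ Q) ⋙ P.ι).map f = 0 := hinj F hF _ _ _ (by
      rw [zero_comp, Category.assoc, hnatK, ← Category.assoc, hk])
    have e : φ ≫ kernel.ι θ = 0 := by
      rw [← hg, ← c₀.w f]
      exact (Category.assoc _ _ _).symm.trans ((congrArg (· ≫ c₀.ι.app k) hk').trans zero_comp)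
    refine Eq.trans (congrArg (sHom (kernel.ι θ) A) hz.symm) ?_
    exact sHom_eq_zero e A z'
  haveI : Epi θ := Preadditive.epi_of_cancel_zero _ fun {Z} r hr => hom_ext_basis fun A hA z => by
    obtain ⟨F, φ, z', hmono, hcoh, hz⟩ := exists_coh_sub_of_tors hN h1.1 ⟨A, hA⟩ z
    haveI := hcoh
    have hF : FTors.IsQCT 𝔛 h F := isQCT_of_coh hN hcoh (@isTorsF_of_mono _ _ _ _ φ hmono h1.1)
    obtain ⟨j, g, hg⟩ := coh_hom_stage hN hc (φ ≫ adj.counit.app c.pt)
    obtain ⟨b, hb⟩ := hsurj F hF _ g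
    have e : b ≫ c₁.ι.app j = φ := hinj F hF _ _ _ (by rw [Category.assoc, hnat, reassoc_of% hb, hg])
    have e' : φ ≫ r = 0 := by rw [← e, ← hθ, Category.assoc, Category.assoc, hr, comp_zero, comp_zero]
    rw [← hz]
    exact sHom_eq_zero e' A z'
  haveI : IsIso θ := isIso_of_mono_of_epi θ
  exact IsColimit.ofPointIso hc₀ (i := ‹IsIso θ›)

end GrothLib.FCat7
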