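import Groth.Agent.Lib.FCat7.QCT
import Groth.Agent.Lib.FCat7.ExtInd

/-!
# Quasi-coherent torsion modules are unions of their coherent submodules
-/

set_option autoImplicit false
set_option linter.style.haveILetI false
set_option linter.unusedSectionVars false
universe u

open CategoryTheory CategoryTheory.Limits AlgebraicGeometry TopologicalSpace Opposite

noncomputable section

namespace GrothLib.FCat7

open GrothLib.FMod7

section Space

variable {T : TopCat.{u}} {O : Sheaf (Opens.grothendieckTopology T) CommRingCat.{u}} (M : ModSite.Mod O) {ι κ : Type u}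
  (U : ι → Opens T) (s : ∀ i, ModSite.sect M (U i)) (U' : κ → Opens T) (s' : ∀ i, ModSite.sect M (U' i))

/-- Near a point, a combination of the given sections. -/
def LocIn (q : T) {V : Opens T} (z : ModSite.sect M V) : Prop :=
  ∃ (V' : Opens T) (hV : V' ≤ V), q ∈ V' ∧ sres M hV z ∈ spanAt M U s V'

theorem LocIn.of_self (i : ι) {q : T} (hq : q ∈ U i) : LocIn M U s q (s i) :=
  ⟨U i, le_rfl, hq, Submodule.subset_span ⟨⟨i, le_rfl⟩, rfl⟩⟩

theorem LocIn.res {q : T} {V V₁ : Opens T} {z : ModSite.sect M V} (hz : LocIn M U s q z) (hle : V₁ ≤ V) (hq : q ∈ V₁) :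
    LocIn M U s q (sres M hle z) := by
  obtain ⟨V', hV, hqV', hm⟩ := hz
  refine ⟨V' ⊓ V₁, inf_le_right, ⟨hqV', hq⟩, ?_⟩
  have h1 := sres_mem_spanAt M U s (inf_le_left : V' ⊓ V₁ ≤ V') hm
  rw [sres_sres] at h1
  rw [sres_sres]
  exact h1

theorem LocIn.of_res {q : T} {V V₁ : Opens T} {z : ModSite.sect M V} {hle : V₁ ≤ V}
    (hz : LocIn M U s q (sres M hle z)) : LocIn M U s q z := by
  obtain ⟨V', hV, hqV', hm⟩ := hz
  rw [sres_sres] at hm
  exact ⟨V', hV.trans hle, hqV', hm⟩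

theorem LocIn.add {q : T} {V : Opens T} {z z' : ModSite.sect M V} (hz : LocIn M U s q z) (hz' : LocIn M U s q z') :
    LocIn M U s q (z + z') := by
  obtain ⟨W, hW, hpW, hm⟩ := hz
  obtain ⟨W', hW', hpW', hm'⟩ := hz'
  refine ⟨W ⊓ W', inf_le_left.trans hW, ⟨hpW, hpW'⟩, ?_⟩
  have h1 := sres_mem_spanAt M U s (inf_le_left : W ⊓ W' ≤ W) hm
  have h2 := sres_mem_spanAt M U s (inf_le_right : W ⊓ W' ≤ W') hm'
  rw [sres_sres] at h1 h2
  rw [sresAdd]
  exact add_mem h1 h2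

theorem LocIn.smul {q : T} {V : Opens T} (c : O.obj.obj (op V)) {z : ModSite.sect M V} (hz : LocIn M U s q z) :
    LocIn M U s q (c • z) := by
  obtain ⟨W, hW, hpW, hm⟩ := hz
  exact ⟨W, hW, hpW, by rw [sresSmul]; exact Submodule.smul_mem _ _ hm⟩

theorem LocIn.zero {q : T} {V : Opens T} (hq : q ∈ V) : LocIn M U s q (0 : ModSite.sect M V) :=
  ⟨V, le_rfl, hq, by rw [sresZero]; exact zero_mem _⟩

theorem LocIn.span {q : T} {V : Opens T} (hq : q ∈ V) {S : Set (ModSite.sect M V)}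
    (H : ∀ z ∈ S, LocIn M U s q z) {z : ModSite.sect M V} (hz : z ∈ Submodule.span (O.obj.obj (op V)) S) :
    LocIn M U s q z := by
  refine Submodule.span_induction ?_ ?_ ?_ ?_ hz
  · exact H
  · exact LocIn.zero M U s hq
  · exact fun x y _ _ hx hy => hx.add M U s hy
  · exact fun c x _ hx => hx.smul M U s c

theorem LocIn.trans {q : T} {V : Opens T} {z : ModSite.sect M V} (hz : LocIn M U s q z)
    (H : ∀ i, q ∈ U i → LocIn M U' s' q (s i)) : LocIn M U' s' q z := by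
  obtain ⟨V', hV, hqV', hm⟩ := hz
  refine LocIn.of_res M U' s' (hle := hV) (LocIn.span M U' s' hqV' ?_ hm)
  rintro _ ⟨i, rfl⟩
  exact (H i.1 (i.2 hqV')).res M U' s' i.2 hqV'

/-- Combinations of a family over one open. -/
theorem LocIn.exists_span {W : Opens T} (g : ι → ModSite.sect M W) {q : T} {V : Opens T} {z : ModSite.sect M V}
    (hz : LocIn M (fun _ : ι => W) g q z) (hW : q ∈ W) : ∃ (V' : Opens T) (hV : V' ≤ V) (hVW : V' ≤ W), q ∈ V' ∧
      sres M hV z ∈ Submodule.span (O.obj.obj (op V')) (Set.range fun k => sres M hVW (g k)) := by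
  obtain ⟨V', hV, hqV', hm⟩ := hz
  refine ⟨V' ⊓ W, inf_le_left.trans hV, inf_le_right, ⟨hqV', hW⟩, ?_⟩
  have h1 := sres_mem_spanAt M (fun _ : ι => W) g (inf_le_left : V' ⊓ W ≤ V') hm
  rw [sres_sres] at h1
  refine Submodule.span_mono ?_ h1
  rintro _ ⟨i, rfl⟩
  exact ⟨i.1, rfl⟩

theorem LocIn.of_span {W : Opens T} (g : ι → ModSite.sect M W) {q : T} {V V' : Opens T} (hV : V' ≤ V) (hVW : V' ≤ W)
    (hq : q ∈ V') {z : ModSite.sect M V}
    (hm : sres M hV z ∈ Submodule.span (O.obj.obj (op V')) (Set.range fun k => sres M hVW (g k))) :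
    LocIn M (fun _ : ι => W) g q z :=
  ⟨V', hV, hq, Submodule.span_mono (by rintro _ ⟨k, rfl⟩; exact ⟨⟨k, hVW⟩, rfl⟩) hm⟩

end Space

variable {𝔛 : FSch.Sys.{u}} {h : 𝔛.IsFormal} (M : FSch.ModF 𝔛 h)

/-- Sections over affine opens. -/
abbrev AffSect := Σ W : (𝔛.X 0).affineOpens, ModSite.sect M W.1

/-- Near a point, a combination of the sections of a set. -/
abbrev LocS (S : Set (AffSect M)) (q : 𝔛.X 0) {V : (𝔛.X 0).Opens} (z : ModSite.sect M V) : Prop :=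
  LocIn M (fun i : S => i.1.1.1) (fun i : S => i.1.2) q z

/-- Sets of sections generating a submodule finitely generated on each of their opens. -/
def IsGood (S : Set (AffSect M)) : Prop :=
  ∀ x ∈ S, ∃ (κ : Type u) (_ : Finite κ) (g : κ → ModSite.sect M x.1.1),
    (∀ k, ∀ q ∈ x.1.1, LocS M S q (g k)) ∧
    ∀ y ∈ S, ∀ q ∈ x.1.1, q ∈ y.1.1 → LocIn M (fun _ : κ => x.1.1) g q y.2

/-- Extensions of sets not changing the submodule on the covered open. -/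
def GoodLE (S S' : Set (AffSect M)) : Prop :=
  S ⊆ S' ∧ ∀ y ∈ S', ∀ x ∈ S, ∀ q ∈ x.1.1, q ∈ y.1.1 → LocS M S q y.2

theorem GoodLE.trans {S₁ S₂ S₃ : Set (AffSect M)} (h₁ : GoodLE M S₁ S₂) (h₂ : GoodLE M S₂ S₃) : GoodLE M S₁ S₃ :=
  ⟨h₁.1.trans h₂.1, fun y hy x hx q hqx hqy => (h₂.2 y hy x (h₁.1 hx) q hqx hqy).trans M _ _ _ _
    fun i hi => h₁.2 i.1 i.2 x hx q hqx hi⟩

theorem LocS.mono {S S' : Set (AffSect M)} (hSS : S ⊆ S') {q : 𝔛.X 0} {V : (𝔛.X 0).Opens} {z : ModSite.sect M V}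
    (hz : LocS M S q z) : LocS M S' q z :=
  hz.trans M _ _ _ _ fun i hi =>
    LocIn.of_self M (fun i : S' => i.1.1.1) (fun i : S' => i.1.2) ⟨i.1, hSS i.2⟩ hi

theorem exists_goodLE_bound (c : Set {S : Set (AffSect M) // IsGood M S})
    (hc : IsChain (fun a b => GoodLE M a.1 b.1) c) (a₀ : {S : Set (AffSect M) // IsGood M S}) (ha₀ : a₀ ∈ c) :
    ∃ b : {S : Set (AffSect M) // IsGood M S}, ∀ a ∈ c, GoodLE M a.1 b.1 := by
  let S : Set (AffSect M) := ⋃ a ∈ c, a.1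
  have hsub : ∀ a ∈ c, a.1 ⊆ S := fun a ha => Set.subset_biUnion_of_mem (u := fun a => a.1) ha
  have hle : ∀ a ∈ c, GoodLE M a.1 S := fun a ha => ⟨hsub a ha, fun y hy x hx q hqx hqy => by
    obtain ⟨b, hb, hyb⟩ := Set.mem_iUnion₂.1 hy
    by_cases hab : a = b
    · subst hab
      exact LocIn.of_self M (fun i : a.1 => i.1.1.1) (fun i : a.1 => i.1.2) ⟨y, hyb⟩ hqy
    · rcases hc ha hb hab with h' | h'
      · exact h'.2 y hyb x hx q hqx hqy
      · exact LocIn.of_self M (fun i : a.1 => i.1.1.1) (fun i : a.1 => i.1.2) ⟨y, h'.1 hyb⟩ hqy⟩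
  refine ⟨⟨S, fun x hx => ?_⟩, hle⟩
  obtain ⟨a, ha, hxa⟩ := Set.mem_iUnion₂.1 hx
  obtain ⟨κ, hκ, g, hg, hcov⟩ := a.2 x hxa
  exact ⟨κ, hκ, g, fun k q hq => (hg k q hq).mono M (hsub a ha), fun y hy q hqx hqy =>
    ((hle a ha).2 y hy x hxa q hqx hqy).trans M _ _ _ _ fun i hi => hcov i.1 i.2 q hqx hi⟩

variable {M} (hN : 𝔛.IsLocNoethFormal) (hT : FTors.IsTorsF 𝔛 h M) [SheafOfModules.IsQuasicoherent.{u} M]
include hN hT

set_option maxHeartbeats 2000000 in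
/-- A good set extends over a further affine open. -/
theorem exists_good_extend {S : Set (AffSect M)} (hS : IsGood M S) (W : (𝔛.X 0).affineOpens) :
    ∃ (S' : Set (AffSect M)) (w : ModSite.sect M W.1), IsGood M S' ∧ GoodLE M S S' ∧ (⟨W, w⟩ : AffSect M) ∈ S' := by
  classical
  choose κ hκ g hg hcov using fun x : S => hS x.1 x.2
  let U' : (𝔛.X 0).Opens := W.1 ⊓ iSup fun x : S => x.1.1.1
  have hcp : IsCompact (U' : Set (𝔛.X 0)) := by
    haveI := hN.2.2 0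
    haveI : IsAffine W.1.toScheme := W.2
    haveI : IsLocallyNoetherian W.1.toScheme := isLocallyNoetherian_of_isOpenImmersion W.1.ι
    haveI : IsNoetherian W.1.toScheme := {}
    haveI : NoetherianSpace W.1 := inferInstanceAs (NoetherianSpace W.1.toScheme)
    have := (NoetherianSpace.isCompact (Subtype.val ⁻¹' (U' : Set (𝔛.X 0)) : Set W.1)).image continuous_subtype_val
    refine (congrArg IsCompact ?_).mp this
    ext y
    exact ⟨fun ⟨z, hz, e⟩ => e ▸ hz, fun hy => ⟨⟨y, hy.1⟩, hy, rfl⟩⟩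
  have hloc : ∀ q : U', ∃ (f : Sec 𝔛 h W.1) (x : S), q.1 ∈ sBasic f ∧ sBasic f ≤ x.1.1.1 := fun q => by
    obtain ⟨x, hx⟩ := Opens.mem_iSup.1 q.2.2
    obtain ⟨f, hqf, hf⟩ := exists_sBasic_le hN W.2 q.2.1 hx
    exact ⟨f, x, hqf, hf⟩
  choose f x hqf hfx using hloc
  obtain ⟨t, ht⟩ := hcp.elim_finite_subcover (fun q : U' => (sBasic (f q) : Set (𝔛.X 0))) (fun q => (sBasic (f q)).2)
    fun q hq => Set.mem_iUnion.2 ⟨⟨q, hq⟩, hqf _⟩
  haveI : ∀ i, Finite (κ i) := hκ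
  letI : ∀ i, Fintype (κ i) := fun i => Fintype.ofFinite _
  let D : t → (𝔛.X 0).Opens := fun i => sBasic (f i.1)
  let G : ∀ i : t, κ (x i.1) → ModSite.sect M (D i) := fun i k => sres M (hfx i.1) (g (x i.1) k)
  choose K y hy using fun (i : t) (k : κ (x i.1)) => tors_exists_pow_smul_eq_sres hN hT W.2 (f i.1) (G i k)
  -- on every member the extensions land in the given submodule after a further power
  have hL : ∀ (i : t) (k : κ (x i.1)) (j : t), ∃ L : ℕ, ∀ L', L ≤ L' →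
      sres M (sBasic_le (f j.1)) (f i.1 ^ L' • y i k) ∈ Submodule.span (Sec 𝔛 h (D j)) (Set.range (G j)) := by
    intro i k j
    have hDj := isAffineOpen_sBasic W.2 (f j.1)
    let φ := rRes (sBasic_le (f j.1)) (f i.1)
    let E := sBasic φ
    have hE : IsAffineOpen E := isAffineOpen_sBasic hDj φ
    have hEi : E ≤ D i := (sBasic_rRes _ _).le.trans inf_le_right
    have hEj : E ≤ D j := sBasic_le φ
    have hmem : sres M hEj (sres M (sBasic_le (f j.1)) (y i k)) ∈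
        Submodule.span (Sec 𝔛 h E) (Set.range fun l => sres M hEj (G j l)) := by
      refine ((isQC_of_tors hN hT hE).rel _ fun l => sres M hEj (G j l)).mem_span hN hE _ fun q hq => ?_
      have h1 : LocS M S q (g (x i.1) k) := hg (x i.1) k q (hfx i.1 (hEi hq))
      have h2 := h1.trans M _ _ (fun _ : κ (x j.1) => (x j.1).1.1.1) (g (x j.1)) fun z hz =>
        hcov (x j.1) z.1 z.2 q (hfx j.1 (hEj hq)) hz
      have h3 : LocIn M (fun _ : κ (x j.1) => (x j.1).1.1.1) (g (x j.1)) q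
          (sres M hEj (sres M (sBasic_le (f j.1)) (y i k))) := by
        rw [sres_sres, ← sres_sres (sBasic_le (f i.1)) hEi, hy, sresSmul]
        exact ((h2.res M _ _ (hfx i.1) (hEi hq)).res M _ _ hEi hq).smul M _ _ _
      obtain ⟨V', hV', hVx, hqV', hm⟩ := h3.exists_span M _ (hfx j.1 (hEj hq))
      refine ⟨V', hV', hqV', ?_⟩
      simpa only [G, sres_sres] using hm
    obtain ⟨c, hc⟩ := (Submodule.mem_span_range_iff_exists_fun _).1 hmem
    choose N hNs using fun l => exists_killed hN (hT _ (G j l)) hDj.isCompact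
    choose kc bc hbc using fun l => exists_pow_mul_sub_mem hN hDj (N l) φ (c l)
    let Kc := Finset.univ.sup kc
    let d := φ ^ Kc • sres M (sBasic_le (f j.1)) (y i k) - ∑ l, (φ ^ (Kc - kc l) * bc l) • G j l
    have hd : sres M (sBasic_le φ) d = 0 := by
      refine (map_sub (M.val.map (homOfLE (sBasic_le φ)).op).hom _ _).trans (sub_eq_zero.2 ?_)
      show sres M hEj (φ ^ Kc • _) = sres M hEj (∑ l, (φ ^ (Kc - kc l) * bc l) • G j l)
      rw [sresSmul, sres_fsum, ← hc, Finset.smul_sum]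
      refine Finset.sum_congr rfl fun l _ => sub_eq_zero.1 ?_
      have e : rRes hEj (φ ^ Kc) * c l - rRes hEj (φ ^ (Kc - kc l) * bc l) =
          rRes hEj φ ^ (Kc - kc l) * (rRes hEj φ ^ kc l * c l - rRes hEj (bc l)) := by
        rw [map_mul, map_pow, map_pow, mul_sub, ← mul_assoc, ← pow_add,
          Nat.sub_add_cancel (Finset.le_sup (Finset.mem_univ l))]
      rw [smul_smul, ← sub_smul]
      show (rRes hEj (φ ^ Kc) * c l - rRes hEj (φ ^ (Kc - kc l) * bc l)) • _ = 0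
      rw [e, mul_smul, (hNs l).smul_mem hN hEj hE (hbc l), smul_zero]
    obtain ⟨q₀, hq₀⟩ := tors_exists_pow_smul_eq_zero hN hT hDj d φ hd
    refine ⟨q₀ + Kc, fun L' hL' => ?_⟩
    obtain ⟨r, rfl⟩ := Nat.exists_eq_add_of_le hL'
    rw [sresSmul]
    show rRes (sBasic_le (f j.1)) (f i.1 ^ (q₀ + Kc + r)) • _ ∈ _
    rw [map_pow, show q₀ + Kc + r = r + (q₀ + Kc) by omega, pow_add, pow_add, mul_smul, mul_smul]
    refine Submodule.smul_mem _ _ ?_
    have e : φ ^ q₀ • φ ^ Kc • sres M (sBasic_le (f j.1)) (y i k) =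
        φ ^ q₀ • ∑ l, (φ ^ (Kc - kc l) * bc l) • G j l :=
      sub_eq_zero.1 ((smul_sub _ _ _).symm.trans hq₀)
    rw [e]
    exact Submodule.smul_mem _ _ (Submodule.sum_mem _ fun l _ => Submodule.smul_mem _ _ (Submodule.subset_span ⟨l, rfl⟩))
  choose L hL using hL
  let L₀ := Finset.univ.sup fun i => Finset.univ.sup fun k => Finset.univ.sup fun j => L i k j
  have hL₀ : ∀ i k j, L i k j ≤ L₀ := fun i k j =>
    le_trans (le_trans (Finset.le_sup (f := fun j => L i k j) (Finset.mem_univ j))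
      (Finset.le_sup (f := fun k => Finset.univ.sup fun j => L i k j) (Finset.mem_univ k)))
      (Finset.le_sup (f := fun i => Finset.univ.sup fun k => Finset.univ.sup fun j => L i k j) (Finset.mem_univ i))
  let ν := Option (Σ i : t, κ (x i.1))
  let w : ν → ModSite.sect M W.1 := fun o => o.elim 0 fun ik => f ik.1.1 ^ L₀ • y ik.1 ik.2
  let A : Set (AffSect M) := Set.range fun o : ν => (⟨W, w o⟩ : AffSect M)
  have hnew : ∀ (o : ν) (q : 𝔛.X 0) (hq : q ∈ W.1) (x₀ : S), q ∈ x₀.1.1.1 → LocS M S q (w o) := by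
    intro o q hq x₀ hqx
    rcases o with _ | ⟨i, k⟩
    · exact LocIn.zero M _ _ hq
    · obtain ⟨j', hj', hqj⟩ := Set.mem_iUnion₂.1 (ht (show q ∈ U' from ⟨hq, Opens.mem_iSup.2 ⟨x₀, hqx⟩⟩))
      refine LocIn.of_res M _ _ (hle := sBasic_le (f j')) (LocIn.span M _ _ hqj ?_
        (hL i k ⟨j', hj'⟩ L₀ (hL₀ i k ⟨j', hj'⟩)))
      rintro _ ⟨l, rfl⟩
      exact (hg (x j') l q (hfx j' hqj)).res M _ _ (hfx j') hqj
  refine ⟨S ∪ A, w none, ?_, ⟨Set.subset_union_left, ?_⟩, Or.inr ⟨none, rfl⟩⟩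
  · rintro x₀ (hx₀ | ⟨o₀, rfl⟩)
    · refine ⟨κ ⟨x₀, hx₀⟩, hκ _, g ⟨x₀, hx₀⟩, fun k q hq => (hg ⟨x₀, hx₀⟩ k q hq).mono M Set.subset_union_left, ?_⟩
      rintro y₀ (hy₀ | ⟨o, rfl⟩) q hqx hqy
      · exact hcov ⟨x₀, hx₀⟩ y₀ hy₀ q hqx hqy
      · exact (hnew o q hqy ⟨x₀, hx₀⟩ hqx).trans M _ _ _ _ fun z hz => hcov ⟨x₀, hx₀⟩ z.1 z.2 q hqx hz
    · refine ⟨ν, inferInstance, w, fun o q hq =>
        LocIn.of_self M (fun z : ↥(S ∪ A) => z.1.1.1) (fun z : ↥(S ∪ A) => z.1.2) ⟨⟨W, w o⟩, Or.inr ⟨o, rfl⟩⟩ hq, ?_⟩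
      rintro y₀ (hy₀ | ⟨o, rfl⟩) q hqx hqy
      · obtain ⟨j', hj', hqj⟩ := Set.mem_iUnion₂.1 (ht (show q ∈ U' from ⟨hqx, Opens.mem_iSup.2 ⟨⟨y₀, hy₀⟩, hqy⟩⟩))
        refine (hcov (x j') y₀ hy₀ q (hfx j' hqj) hqy).trans M _ _ _ _ fun l _ => ?_
        refine LocIn.of_res M _ _ (hle := hfx j') ?_
        obtain ⟨v, hv⟩ := (isUnit_sres_sBasic hN W.2 (f j')).pow (L₀ + K ⟨j', hj'⟩ l)
        have e : G ⟨j', hj'⟩ l = (↑v⁻¹ : Sec 𝔛 h (sBasic (f j'))) • sres M (sBasic_le (f j')) (w (some ⟨⟨j', hj'⟩, l⟩)) := by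
          show _ = _ • sres M (sBasic_le (f j')) (f j' ^ L₀ • y ⟨j', hj'⟩ l)
          rw [sresSmul, hy ⟨j', hj'⟩ l, smul_smul, smul_smul]
          show _ = (↑v⁻¹ * rRes (sBasic_le (f j')) (f j' ^ L₀) * rRes (sBasic_le (f j')) (f j') ^ K ⟨j', hj'⟩ l) • _
          rw [map_pow, mul_assoc, ← pow_add, ← hv, Units.inv_mul, one_smul]
        show LocIn M (fun _ : ν => W.1) w q (G ⟨j', hj'⟩ l)
        rw [e]
        exact (LocIn.res M _ _ (LocIn.of_self M (fun _ : ν => W.1) w (some ⟨⟨j', hj'⟩, l⟩) hqx) _ hqj).smul M _ _ _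
      · exact LocIn.of_self M (fun _ : ν => W.1) w o hqy
  · rintro y₀ (hy₀ | ⟨o, rfl⟩) x₀ hx₀ q hqx hqy
    · exact LocIn.of_self M (fun z : S => z.1.1.1) (fun z : S => z.1.2) ⟨y₀, hy₀⟩ hqy
    · exact hnew o q hqy ⟨x₀, hx₀⟩ hqx

/-- Every section of a quasi-coherent torsion module over an affine open lies in a coherent submodule. -/
theorem exists_coh_sub_of_tors (W₀ : (𝔛.X 0).affineOpens) (z : ModSite.sect M W₀.1) :
    ∃ (F : FSch.ModF 𝔛 h) (φ : F ⟶ M) (z' : ModSite.sect F W₀.1), Mono φ ∧ FSch.IsCohF 𝔛 h F ∧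
      sHom φ W₀.1 z' = z := by
  classical
  let x₀ : AffSect M := ⟨W₀, z⟩
  let P := {S : Set (AffSect M) // IsGood M S ∧ x₀ ∈ S}
  have hS₀ : IsGood M {x₀} := by
    rintro x rfl
    exact ⟨PUnit, inferInstance, fun _ => z,
      fun _ q hq => LocIn.of_self M (fun i : ({x₀} : Set (AffSect M)) => i.1.1.1) (fun i => i.1.2) ⟨x₀, rfl⟩ hq,
      by rintro y rfl q hqx -; exact LocIn.of_self M (fun _ : PUnit.{u + 1} => W₀.1) (fun _ => z) PUnit.unit hqx⟩
  obtain ⟨m, hm⟩ := exists_maximal_of_chains_bounded (α := P) (r := fun a b => GoodLE M a.1 b.1)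
    (fun c hc => by
      rcases c.eq_empty_or_nonempty with rfl | ⟨a₀, ha₀⟩
      · exact ⟨⟨{x₀}, hS₀, rfl⟩, fun a ha => ha.elim⟩
      · let c' : Set {S : Set (AffSect M) // IsGood M S} := (fun a : P => ⟨a.1, a.2.1⟩) '' c
        have hc' : IsChain (fun a b : {S : Set (AffSect M) // IsGood M S} => GoodLE M a.1 b.1) c' := by
          rintro _ ⟨a, ha, rfl⟩ _ ⟨b, hb, rfl⟩ hne
          exact hc ha hb fun e => hne (by rw [e])
        obtain ⟨b, hb⟩ := exists_goodLE_bound M c' hc' _ ⟨a₀, ha₀, rfl⟩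
        exact ⟨⟨b.1, b.2, (hb _ ⟨a₀, ha₀, rfl⟩).1 a₀.2.2⟩, fun a ha => hb _ ⟨a, ha, rfl⟩⟩)
    (fun h₁ h₂ => GoodLE.trans M h₁ h₂)
  have hcover : ∀ p : 𝔛.X 0, ∃ x ∈ m.1, p ∈ x.1.1 := by
    intro p
    obtain ⟨W, hW, hpW⟩ := exists_affine_nhd (𝔛 := 𝔛) p
    obtain ⟨S', w, hS', hle, hw⟩ := exists_good_extend hN hT m.2.1 ⟨W, hW⟩
    exact ⟨⟨⟨W, hW⟩, w⟩, (hm ⟨S', hS', hle.1 m.2.2⟩ hle).1 hw, hpW⟩
  let U : m.1 → (𝔛.X 0).Opens := fun i => i.1.1.1
  let s : ∀ i : m.1, ModSite.sect M (U i) := fun i => i.1.2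
  have hcoh : FSch.IsCohF 𝔛 h (genMod M U s) := by
    refine isCohF_genMod hN U s fun p => ?_
    obtain ⟨x, hx, hpx⟩ := hcover p
    obtain ⟨κ, hκ, g, hg, hcov⟩ := m.2.1 x hx
    haveI := Fintype.ofFinite κ
    let e := Fintype.equivFin κ
    refine ⟨x.1.1, Fintype.card κ, fun k => g (e.symm k), x.1.2, hpx, isQC_of_tors hN hT x.1.2,
      fun k q hq => hg (e.symm k) q hq, fun i q hq hqi => ?_⟩
    obtain ⟨V', hV, hVW, hqV', hmem⟩ := (hcov i.1 i.2 q hq hqi).exists_span M g hq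
    refine ⟨V', hVW, hV, hqV', Submodule.span_mono ?_ hmem⟩
    rintro _ ⟨k, rfl⟩
    exact ⟨e k, by simp⟩
  obtain ⟨z', hz'⟩ := exists_genMod_sect M U s (mem_genSet M U s ⟨x₀, m.2.2⟩)
  exact ⟨_, genIncl M U s, z', inferInstance, hcoh, hz'⟩

/-- Quasi-coherent torsion modules are ind-coherent. -/
theorem ind_of_tors : (ObjectProperty.ind.{u} fun G : FSch.ModF 𝔛 h => FSch.IsCohF 𝔛 h G) M :=
  ind_of_forall_coh hN fun W₀ z => by
    obtain ⟨F, φ, z', -, hF, hz⟩ := exists_coh_sub_of_tors hN hT W₀ z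
    exact ⟨F, φ, z', hF, hz⟩

end GrothLib.FCat7
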