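import Groth.Agent.Lib.FCat7.GammaQC
import Groth.Agent.Lib.FCat7.FiveLemma

/-!
# Closure properties of torsion modules on a formal scheme
-/

set_option autoImplicit false
set_option linter.style.haveILetI false
set_option linter.unusedSectionVars false
universe u

open CategoryTheory CategoryTheory.Limits AlgebraicGeometry TopologicalSpace Opposite

noncomputable section

namespace GrothLib.FCat7

open GrothLib.FMod7

variable {𝔛 : FSch.Sys.{u}} {h : 𝔛.IsFormal}

theorem Killed.of_mono {A B : FSch.ModF 𝔛 h} (i : A ⟶ B) [Mono i] {n : ℕ} {U : (𝔛.X 0).Opens}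
    {z : ModSite.sect A U} (hz : Killed n (sHom i U z)) : Killed n z := by
  intro W g a ha
  refine sHom_injective i W ((sHom i W).map_smul a _ |>.trans (Eq.trans ?_ (map_zero (sHom i W)).symm))
  exact (congrArg (a • ·) (sHom_res i g.le z)).trans (hz g a ha)

/-- Submodules of torsion modules are torsion. -/
theorem isTorsF_of_mono {A B : FSch.ModF 𝔛 h} (i : A ⟶ B) [Mono i] (hB : FTors.IsTorsF 𝔛 h B) :
    FTors.IsTorsF 𝔛 h A := by
  intro U z
  refine isTorsSect_iff_local.2 fun p hp => ?_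
  obtain ⟨V, hV, n, hpV, hn⟩ := isTorsSect_iff_local.1 (hB _ (sHom i U z)) p hp
  rw [← sHom_res] at hn
  exact ⟨V, hV, n, hpV, hn.of_mono i⟩

/-- Quotients of torsion modules are torsion. -/
theorem isTorsF_of_epi {A B : FSch.ModF 𝔛 h} (q : A ⟶ B) [Epi q] (hA : FTors.IsTorsF 𝔛 h A) :
    FTors.IsTorsF 𝔛 h B := by
  intro U z
  refine isTorsSect_iff_local.2 fun p hp => ?_
  obtain ⟨V, hV, hpV, x, hx⟩ := exists_local_preimage q z hp
  obtain ⟨V', hV', n, hpV', hn⟩ := isTorsSect_iff_local.1 (FTors.IsTorsSect.hom q (hA V x)) p hpV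
  refine ⟨V', hV'.trans hV, n, hpV', ?_⟩
  have hx' : q.val.app (op V) x = sres B hV z := hx
  rw [hx', sres_sres] at hn
  exact hn

theorem isIso_gammaι_of_isTorsF {M : FSch.ModF 𝔛 h} (hM : FTors.IsTorsF 𝔛 h M) :
    IsIso ((FTors.gammaTι 𝔛 h).app M) := by
  haveI : Epi ((FTors.gammaTι 𝔛 h).app M) := Preadditive.epi_of_cancel_zero _ fun {Z} r hr =>
    hom_ext_basis fun U _ z => by
      obtain ⟨t, ht⟩ := exists_gamma_sect (hM U z)
      exact (congrArg (sHom r U) ht.symm).trans (sHom_eq_zero hr U t)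
  exact isIso_of_mono_of_epi _

theorem isTorsF_of_isIso_gammaι {M : FSch.ModF 𝔛 h} [Epi ((FTors.gammaTι 𝔛 h).app M)] :
    FTors.IsTorsF 𝔛 h M :=
  isTorsF_of_epi ((FTors.gammaTι 𝔛 h).app M) (isTorsF_gammaT M)

/-- Colimits of torsion modules are torsion. -/
theorem isTorsF_of_colimit {J : Type*} [Category J] {D : J ⥤ FSch.ModF 𝔛 h} {c : Cocone D} (hc : IsColimit c)
    (hD : ∀ j, FTors.IsTorsF 𝔛 h (D.obj j)) : FTors.IsTorsF 𝔛 h c.pt := by
  haveI : Epi ((FTors.gammaTι 𝔛 h).app c.pt) := by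
    refine Preadditive.epi_of_cancel_zero _ fun {Z} r hr => hc.hom_ext fun j => ?_
    haveI := isIso_gammaι_of_isTorsF (hD j)
    refine (cancel_epi ((FTors.gammaTι 𝔛 h).app (D.obj j))).1 ?_
    rw [comp_zero, comp_zero]
    refine (Category.assoc _ _ _).symm.trans ?_
    refine (congrArg (· ≫ r) ((FTors.gammaTι 𝔛 h).naturality (c.ι.app j)).symm).trans ?_
    exact (Category.assoc _ _ _).trans ((congrArg _ hr).trans comp_zero)
  exact isTorsF_of_isIso_gammaι

variable (hN : 𝔛.IsLocNoethFormal)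
include hN

set_option maxHeartbeats 1000000 in
/-- Extensions of torsion modules are torsion. -/
theorem isTorsF_extension {S : ShortComplex (FSch.ModF 𝔛 h)} (hS : S.ShortExact)
    (hA : FTors.IsTorsF 𝔛 h S.X₁) (hC : FTors.IsTorsF 𝔛 h S.X₃) : FTors.IsTorsF 𝔛 h S.X₂ := by
  classical
  intro U z
  refine isTorsSect_iff_local.2 fun p hp => ?_
  obtain ⟨W, hW, hpW, hWU'⟩ := exists_isAffineOpen_mem_and_subset (x := p) (U := U) hp
  have hWU : W ≤ U := hWU'
  let x := sres S.X₂ hWU z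
  obtain ⟨n, hn⟩ := exists_killed hN (hC _ (sHom S.g W x)) hW.isCompact
  haveI := isNoetherianRing_Sec (h := h) hN hW
  obtain ⟨L, a, ha⟩ := Submodule.fg_iff_exists_fin_generating_family.1
    (IsNoetherian.noetherian (secIdeal 𝔛 h W ^ (n + 1)))
  have hl : ∀ l, ∃ m, Killed m (a l • x) := fun l => by
    refine exists_killed hN (isTorsSect_iff_local.2 fun q hq => ?_) hW.isCompact
    have h0 : sHom S.g W (a l • x) = 0 :=
      ((sHom S.g W).map_smul _ _).trans (hn.smul_mem_self hN hW (ha ▸ Submodule.subset_span ⟨l, rfl⟩))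
    obtain ⟨V, hV, hqV, v, hv⟩ := exists_local_preimage_of_exact S hS.exact _ h0 hq
    obtain ⟨V', hV', k, hqV', hk⟩ := isTorsSect_iff_local.1 (FTors.IsTorsSect.hom S.f (hA V v)) q hqV
    have hv' : S.f.val.app (op V) v = sres S.X₂ hV (a l • x) := hv
    rw [hv', sres_sres] at hk
    exact ⟨V', hV'.trans hV, k, hqV', hk⟩
  choose m hm using hl
  let m₀ := Finset.univ.sup m
  refine ⟨W, hWU, n + 1 + m₀, hpW, killed_of_forall_mem hN hW fun c hc => ?_⟩
  have hb : ∀ b ∈ secIdeal 𝔛 h W ^ (n + 1), ∀ d ∈ secIdeal 𝔛 h W ^ (m₀ + 1), d • b • x = 0 := by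
    intro b hb d hd
    rw [← ha] at hb
    refine Submodule.span_induction ?_ ?_ ?_ ?_ hb
    · rintro _ ⟨l, rfl⟩
      exact Killed.smul_mem_self hN (FTors.KilledBy.mono (Finset.le_sup (Finset.mem_univ l)) (hm l)) hW hd
    · rw [zero_smul, smul_zero]
    · intro b b' _ _ h₁ h₂; rw [add_smul, smul_add, h₁, h₂, add_zero]
    · intro e b _ h₁; rw [smul_eq_mul, mul_smul, smul_comm, h₁, smul_zero]
  rw [show n + 1 + m₀ + 1 = (m₀ + 1) + (n + 1) by omega, pow_add] at hc
  refine Submodule.mul_induction_on hc (fun d hd b hb' => ?_) fun c c' h₁ h₂ => ?_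
  · rw [mul_smul]; exact hb b hb' d hd
  · rw [add_smul, h₁, h₂, add_zero]

end GrothLib.FCat7
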