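import Groth.Agent.Lib.FCat7.QCTInd
import Groth.Agent.Lib.FCat7.TorsClosed
import Groth.Agent.Lib.FCat7.Small

/-!
# The inclusion of quasi-coherent torsion modules is a left adjoint
-/

set_option autoImplicit false
set_option linter.style.haveILetI false
set_option linter.unusedSectionVars false
universe u

open CategoryTheory CategoryTheory.Limits AlgebraicGeometry TopologicalSpace Opposite

noncomputable section

namespace GrothLib.FCat7

open GrothLib.FMod7

variable {𝔛 : FSch.Sys.{u}} {h : 𝔛.IsFormal} (hN : 𝔛.IsLocNoethFormal)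
include hN

theorem isQCT_of_colimit {J : Type u} [SmallCategory J] {D : J ⥤ FSch.ModF 𝔛 h} {c : Cocone D} (hc : IsColimit c)
    (hD : ∀ j, FTors.IsQCT 𝔛 h (D.obj j)) : FTors.IsQCT 𝔛 h c.pt :=
  ⟨isTorsF_of_colimit hc fun j => (hD j).1,
    isQuasicoherent_of_ind hN (ind_of_colimit hN
      { diag := D, ι := c.ι, isColimit := hc } fun j => by
        haveI := (hD j).2
        exact ind_of_tors hN (hD j).1)⟩

theorem isQCT_of_coh {F : FSch.ModF 𝔛 h} (hF : FSch.IsCohF 𝔛 h F) (hT : FTors.IsTorsF 𝔛 h F) : FTors.IsQCT 𝔛 h F :=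
  ⟨hT, isQuasicoherent_of_ind hN (ObjectProperty.le_ind _ _ hF)⟩

/-- The inclusion of quasi-coherent torsion modules is a left adjoint. -/
theorem isLeftAdjoint_qct_ι : (FTors.IsQCT 𝔛 h).ι.IsLeftAdjoint := by
  let P : ObjectProperty (FSch.ModF 𝔛 h) := FTors.IsQCT 𝔛 h
  haveI hcl : ∀ (J : Type u) [SmallCategory J], P.IsClosedUnderColimitsOfShape J := fun J _ =>
    ⟨fun M ⟨hM⟩ => isQCT_of_colimit hN hM.isColimit hM.prop_diag_obj⟩
  haveI : HasColimits P.FullSubcategory := ⟨fun J _ => hasColimitsOfShape_of_closedUnderColimits J P⟩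
  haveI : PreservesColimits P.ι := ⟨fun {J} _ => ⟨fun {K} => by
    haveI := createsColimitFullSubcategoryInclusionOfClosed J P K
    infer_instance⟩⟩
  obtain ⟨S, G, hG, hF⟩ := exists_small_coherent hN (h := h)
  let G' : {s : S // FTors.IsTorsF 𝔛 h (G s)} → P.FullSubcategory :=
    fun s => ⟨G s.1, isQCT_of_coh hN (hG s.1) s.2⟩
  haveI : LocallySmall.{u} (FSch.ModF 𝔛 h) := inferInstance
  haveI : WellPowered.{u} (FSch.ModF 𝔛 h) := inferInstance
  haveI : WellPowered.{u} (FSch.ModF 𝔛 h)ᵒᵖ := inferInstance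
  haveI : WellPowered.{u} P.FullSubcategoryᵒᵖ := by
    refine ⟨fun X => ?_⟩
    let f : Subobject X → Subobject (op X.unop.obj) := fun Y =>
      @Subobject.mk _ _ _ (op (Y : P.FullSubcategoryᵒᵖ).unop.obj) ((P.ι.map Y.arrow.unop).op)
        (by haveI : Epi (P.ι.map Y.arrow.unop) := P.ι.map_epi _; infer_instance)
    refine small_of_injective (f := f) fun Y₁ Y₂ he => ?_
    refine Subobject.eq_of_comm ?_ ?_
    · let i := Subobject.isoOfMkEqMk _ _ he
      exact ((P.ι.preimageIso i.unop).op)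
    · apply Quiver.Hom.unop_inj
      apply P.ι.map_injective
      rw [unop_comp, Functor.map_comp]
      simp only [Iso.op_hom, Functor.preimageIso_hom, Quiver.Hom.unop_op, Functor.map_preimage]
      exact congrArg Quiver.Hom.unop (Subobject.ofMkLEMk_comp (he.le))
  refine isLeftAdjoint_of_preservesColimits_of_isSeparating (P := ObjectProperty.ofObj G') ?_ P.ι
  intro X Y f g hfg
  apply P.ι.map_injective
  refine sub_eq_zero.1 (hom_ext_basis fun U hU z => ?_)
  haveI := X.property.2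
  obtain ⟨F, φ, z', hmono, hcoh, hz⟩ := exists_coh_sub_of_tors hN X.property.1 ⟨U, hU⟩ z
  obtain ⟨s, ⟨i⟩⟩ := hF F hcoh
  have hT : FTors.IsTorsF 𝔛 h (G s) := isTorsF_of_epi i.inv (@isTorsF_of_mono _ _ _ _ φ hmono X.property.1)
  have e := congrArg P.ι.map
    (hfg (G' ⟨s, hT⟩) (ObjectProperty.ofObj_apply G' _) (ObjectProperty.homMk (i.hom ≫ φ)))
  rw [Functor.map_comp, Functor.map_comp] at e
  have e' : φ ≫ (P.ι.map f - P.ι.map g) = 0 := by
    rw [Preadditive.comp_sub, sub_eq_zero]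
    exact (cancel_epi i.hom).1 (by simpa using e)
  rw [← hz]
  exact sHom_eq_zero e' U z'

end GrothLib.FCat7
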