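import Groth.Agent.Lib.FCat7.Kernels
import Groth.Agent.Lib.FCat7.InfPres
import Groth.Agent.Lib.FCat7.SpanLocal

/-!
# Quasi-coherent modules of finite type are coherent
-/

set_option autoImplicit false
set_option linter.style.haveILetI false
set_option linter.unusedSectionVars false
universe u

open CategoryTheory CategoryTheory.Limits AlgebraicGeometry TopologicalSpace Opposite

noncomputable section

namespace GrothLib.FCat7

open GrothLib.FMod7 GrothLib.LocFac25

section Site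

variable {T : TopCat.{u}} {O : Sheaf (Opens.grothendieckTopology T) CommRingCat.{u}} {M : ModSite.Mod O}
  {ι κ : Type u} {U : Opens T} {e : ι → ModSite.sect M U} {r : κ → ι →₀ O.obj.obj (op U)}

theorem fRes_fRes {V W W' : Opens T} (h : W ≤ V) (h' : W' ≤ W) (x : ι →₀ O.obj.obj (op V)) :
    fRes h' (fRes h x) = fRes (h'.trans h) x :=
  Finsupp.ext fun _ => by simpa only [fRes, Finsupp.mapRange_apply] using ores_ores h h' _

theorem IsInfPres.res (hP : IsInfPres M U e r) {U' : Opens T} (h : U' ≤ U) :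
    IsInfPres M U' (fun i => sres M h (e i)) fun k => fRes h (r k) where
  rel k := by
    refine Eq.trans ?_ ((congrArg (sres M h) (hP.rel k)).trans (map_zero (M.val.map (homOfLE h).op).hom))
    induction r k using Finsupp.induction_linear with
    | zero => rw [map_zero, fRes, Finsupp.mapRange_zero, map_zero]; exact (map_zero (M.val.map (homOfLE h).op).hom).symm
    | add x y hx hy =>
      rw [fRes, Finsupp.mapRange_add (map_add _), map_add, map_add]
      exact (congr_arg₂ (· + ·) hx hy).trans (map_add (M.val.map (homOfLE h).op).hom _ _).symm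
    | single j a =>
      rw [fRes, Finsupp.mapRange_single, Finsupp.linearCombination_single, Finsupp.linearCombination_single]
      exact (PresheafOfModules.map_smul M.val _ a (e j)).symm
  gen V hV m p hp := by
    obtain ⟨W, hW, hpW, hm⟩ := hP.gen V (hV.trans h) m p hp
    exact ⟨W, hW, hpW, by simpa only [sres_sres] using hm⟩
  relGen V hV y hy p hp := by
    obtain ⟨W, hW, hpW, hm⟩ := hP.relGen V (hV.trans h) y (by simpa only [sres_sres] using hy) p hp
    exact ⟨W, hW, hpW, by simpa only [fRes_fRes] using hm⟩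

theorem gen_of_epi (g : freeO O U ι ⟶ (ModSite.restr O U).obj M) [Epi g] {U' : Opens T} (hU' : U' ≤ U) :
    ∀ (V : Opens T) (hV : V ≤ U') (m : ModSite.sect M V), ∀ p ∈ V, ∃ (W : Opens T) (hW : W ≤ V), p ∈ W ∧
      sres M hW m ∈ Submodule.span (O.obj.obj (op W)) (Set.range fun i : ι =>
        sres M (hW.trans hV) (valAt (SheafOfModules.ιFree i ≫ g) (Over.mk (homOfLE hU')) : ModSite.sect M U')) := by
  intro V hV m p hp
  obtain ⟨W, k, hpW, hm⟩ := exists_local_span_of_epi g (Over.mk (homOfLE (hV.trans hU'))) m hp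
  obtain ⟨x, hx⟩ := (Finsupp.mem_span_range_iff_exists_finsupp).1 hm
  refine ⟨W, k, hpW, (Finsupp.mem_span_range_iff_exists_finsupp).2 ⟨x, ?_⟩⟩
  refine Eq.trans ?_ hx
  refine Finsupp.sum_congr fun i _ => ?_
  exact congrArg (fun v : ModSite.sect M W => (show O.obj.obj (op W) from x i) • v)
    (sres_valAt (SheafOfModules.ιFree i ≫ g) hU' _)

theorem sres_mem_span {α : Type*} {V W : Opens T} (hWV : W ≤ V) (s : α → ModSite.sect M V) {m : ModSite.sect M V}
    (hm : m ∈ Submodule.span (O.obj.obj (op V)) (Set.range s)) :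
    sres M hWV m ∈ Submodule.span (O.obj.obj (op W)) (Set.range fun i => sres M hWV (s i)) := by
  refine Submodule.span_induction ?_ ?_ ?_ ?_ hm
  · rintro _ ⟨i, rfl⟩
    exact Submodule.subset_span ⟨i, rfl⟩
  · exact Eq.subst (motive := fun v => v ∈ _) (map_zero (M.val.map (homOfLE hWV).op).hom).symm (zero_mem _)
  · intro a b _ _ ha hb
    exact Eq.subst (motive := fun v => v ∈ _) (map_add (M.val.map (homOfLE hWV).op).hom a b).symm (add_mem ha hb)
  · intro c a _ ha
    exact Eq.subst (motive := fun v => v ∈ _) (PresheafOfModules.map_smul M.val (homOfLE hWV).op c a).symm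
      (Submodule.smul_mem _ _ ha)

theorem exists_common_nhd {p : T} {J : Type u} [Finite J] (P : J → Opens T → Prop)
    {U₀ : Opens T} (hmono : ∀ j V V', V ≤ U₀ → V' ≤ V → P j V → P j V') (hp : p ∈ U₀)
    (h : ∀ j, ∃ V, V ≤ U₀ ∧ p ∈ V ∧ P j V) : ∃ V, V ≤ U₀ ∧ p ∈ V ∧ ∀ j, P j V := by
  choose V hV hpV hP using h
  refine ⟨⟨(U₀ : Set T) ∩ ⋂ j, (V j : Set T), U₀.2.inter (isOpen_iInter_of_finite fun j => (V j).2)⟩,
    fun x hx => hx.1, ⟨hp, Set.mem_iInter.2 hpV⟩, fun j => hmono j _ _ (hV j) (fun x hx => Set.mem_iInter.1 hx.2 j) (hP j)⟩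

end Site

variable {𝔛 : FSch.Sys.{u}} {h : 𝔛.IsFormal}

/-- A finitely supported family of functions locally in the span of finitely many is in their span. -/
theorem mem_span_fRes_of_locally (hN : 𝔛.IsLocNoethFormal) {W : (𝔛.X 0).Opens} (hW : IsAffineOpen W)
    {ι κ : Type u} [Fintype κ] (r : κ → ι →₀ Sec 𝔛 h W) (a : ι →₀ Sec 𝔛 h W)
    (H : ∀ p ∈ W, ∃ (V : (𝔛.X 0).Opens) (hV : V ≤ W), p ∈ V ∧
      fRes hV a ∈ Submodule.span (Sec 𝔛 h V) (Set.range fun k => fRes hV (r k))) :
    a ∈ Submodule.span (Sec 𝔛 h W) (Set.range r) := by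
  classical
  let S : Finset ι := a.support ∪ Finset.univ.biUnion fun k => (r k).support
  have key := mem_span_vec_of_locally hN hW (fun k (i : S) => r k i) (fun i : S => a i) fun p hp => by
    obtain ⟨V, hV, hpV, hm⟩ := H p hp
    obtain ⟨c, hc⟩ := (Submodule.mem_span_range_iff_exists_fun _).1 hm
    refine ⟨V, hV, hpV, (Submodule.mem_span_range_iff_exists_fun _).2 ⟨c, funext fun i => ?_⟩⟩
    refine Eq.trans ?_ ((DFunLike.congr_fun hc (i : ι)).trans (Finsupp.mapRange_apply ..))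
    rw [Finset.sum_apply, Finsupp.finsetSum_apply]
    exact Finset.sum_congr rfl fun k _ => congrArg (c k * ·) (Finsupp.mapRange_apply ..).symm
  obtain ⟨c, hc⟩ := (Submodule.mem_span_range_iff_exists_fun _).1 key
  refine (Submodule.mem_span_range_iff_exists_fun _).2 ⟨c, Finsupp.ext fun i => ?_⟩
  rw [Finsupp.finsetSum_apply]
  by_cases hi : i ∈ S
  · refine Eq.trans ?_ (congrFun hc ⟨i, hi⟩)
    rw [Finset.sum_apply]
    rfl
  · have ha : a i = 0 := Finsupp.notMem_support_iff.1 fun h => hi (Finset.mem_union_left _ h)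
    rw [ha]
    refine Finset.sum_eq_zero fun k _ => ?_
    have hk : r k i = 0 := Finsupp.notMem_support_iff.1 fun h =>
      hi (Finset.mem_union_right _ (Finset.mem_biUnion.2 ⟨k, Finset.mem_univ k, h⟩))
    rw [Finsupp.smul_apply, hk, smul_zero]

variable {M : FSch.ModF 𝔛 h}

/-- Generators that generate a given one locally do so globally over an affine open. -/
theorem IsInfPres.mem_span_of_locally (hN : 𝔛.IsLocNoethFormal) {W : (𝔛.X 0).Opens} (hW : IsAffineOpen W)
    {ι κ : Type u} {e : ι → ModSite.sect M W} {r : κ → ι →₀ Sec 𝔛 h W} (hP : IsInfPres M W e r)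
    {J : Type u} [Fintype J] (σ : J → ι) (i : ι)
    (hloc : ∀ p ∈ W, ∃ (V : (𝔛.X 0).Opens) (hV : V ≤ W), p ∈ V ∧
      sres M hV (e i) ∈ Submodule.span (Sec 𝔛 h V) (Set.range fun j => sres M hV (e (σ j)))) :
    e i ∈ Submodule.span (Sec 𝔛 h W) (Set.range fun j => e (σ j)) := by
  classical
  have H : ∀ p : W, ∃ (V : (𝔛.X 0).Opens) (hV : V ≤ W), p.1 ∈ V ∧ ∃ K : Finset κ,
      fRes hV (Finsupp.single i 1) ∈ Submodule.span (Sec 𝔛 h V)
        ((Set.range fun j => fRes hV (Finsupp.single (σ j) (1 : Sec 𝔛 h W))) ∪ (fun k => fRes hV (r k)) '' K) := by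
    rintro ⟨p, hp⟩
    obtain ⟨V, hV, hpV, hm⟩ := hloc p hp
    obtain ⟨c, hc⟩ := (Submodule.mem_span_range_iff_exists_fun _).1 hm
    let y : ι →₀ Sec 𝔛 h V := Finsupp.single i 1 - ∑ j, Finsupp.single (σ j) (c j)
    have hy : Finsupp.linearCombination (Sec 𝔛 h V) (fun i => sres M hV (e i)) y = 0 := by
      rw [map_sub, map_sum, Finsupp.linearCombination_single, sub_eq_zero]
      rw [one_smul]
      simp only [Finsupp.linearCombination_single]
      exact hc.symm
    obtain ⟨V', hV', hpV', hm'⟩ := hP.relGen V hV y hy p hpV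
    obtain ⟨b, hb⟩ := (Finsupp.mem_span_range_iff_exists_finsupp).1 hm'
    refine ⟨V', hV'.trans hV, hpV', b.support, ?_⟩
    have e1 : fRes (hV'.trans hV) (Finsupp.single i (1 : Sec 𝔛 h W)) =
        fRes hV' y + ∑ j, rRes hV' (c j) • fRes (hV'.trans hV) (Finsupp.single (σ j) (1 : Sec 𝔛 h W)) := by
      refine Finsupp.ext fun l => ?_
      simp only [fRes, y, Finsupp.mapRange_apply, Finsupp.add_apply, Finsupp.coe_sub, Pi.sub_apply,
        Finsupp.finsetSum_apply, Finsupp.smul_apply, Finsupp.single_apply, smul_eq_mul, map_sub, map_sum]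
      rw [sub_add_eq_add_sub, eq_sub_iff_add_eq]
      congr 1
      · split <;> simp [map_one]
      · refine Finset.sum_congr rfl fun j _ => ?_
        split <;> simp [rRes]
    rw [e1, ← hb]
    refine add_mem (Submodule.sum_mem _ fun k hk => Submodule.smul_mem _ _ (Submodule.subset_span (Or.inr ⟨k, hk, rfl⟩)))
      (Submodule.sum_mem _ fun j _ => Submodule.smul_mem _ _ (Submodule.subset_span (Or.inl ⟨j, rfl⟩)))
  choose V hV hpV K hK using H
  obtain ⟨t, ht⟩ := hW.isCompact.elim_finite_subcover (fun p : W => (V p : Set (𝔛.X 0))) (fun p => (V p).2)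
    fun p hp => Set.mem_iUnion.2 ⟨⟨p, hp⟩, hpV _⟩
  let K' : Finset κ := t.biUnion K
  have key := mem_span_fRes_of_locally hN hW
    (Sum.elim (fun j => Finsupp.single (σ j) (1 : Sec 𝔛 h W)) fun k : K' => r k) (Finsupp.single i 1) fun p hp => by
    obtain ⟨q, hq, hpq⟩ := Set.mem_iUnion₂.1 (ht hp)
    refine ⟨V q, hV q, hpq, Submodule.span_mono ?_ (hK q)⟩
    rintro _ (⟨j, rfl⟩ | ⟨k, hk, rfl⟩)
    · exact ⟨Sum.inl j, rfl⟩
    · exact ⟨Sum.inr ⟨k, Finset.mem_biUnion.2 ⟨q, hq, hk⟩⟩, rfl⟩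
  have := Submodule.mem_map_of_mem (f := Finsupp.linearCombination (Sec 𝔛 h W) e) key
  rw [Finsupp.linearCombination_single, one_smul, Submodule.map_span] at this
  refine Submodule.span_le.2 ?_ this
  rintro _ ⟨_, ⟨j | k, rfl⟩, rfl⟩
  · rw [Sum.elim_inl, Finsupp.linearCombination_single, one_smul]
    exact Submodule.subset_span ⟨j, rfl⟩
  · rw [Sum.elim_inr, hP.rel]
    exact zero_mem _

/-- A module with a presentation and finitely many of the generators generating locally has a finite presentation. -/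
theorem IsInfPres.exists_finite_presentation (hN : 𝔛.IsLocNoethFormal) {W : (𝔛.X 0).Opens} (hW : IsAffineOpen W)
    {ι κ : Type u} {e : ι → ModSite.sect M W} {r : κ → ι →₀ Sec 𝔛 h W} (hP : IsInfPres M W e r)
    {n : ℕ} (τ : Fin n → ι)
    (hgen : ∀ (V : (𝔛.X 0).Opens) (hV : V ≤ W) (m : ModSite.sect M V), ∀ q ∈ V,
      ∃ (V' : (𝔛.X 0).Opens) (hV' : V' ≤ V), q ∈ V' ∧
        sres M hV' m ∈ Submodule.span (Sec 𝔛 h V') (Set.range fun l => sres M (hV'.trans hV) (e (τ l)))) :
    ∃ P : ((ModSite.restr (𝔛.Osh h) W).obj M).Presentation, P.IsFinite := by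
  classical
  have hall : ∀ i, e i ∈ Submodule.span (Sec 𝔛 h W) (Set.range fun l => e (τ l)) := by
    intro i
    refine Submodule.span_mono ?_ (hP.mem_span_of_locally hN hW (fun l : ULift.{u} (Fin n) => τ l.down) i fun q hq => ?_)
    · rintro _ ⟨l, rfl⟩
      exact ⟨l.down, rfl⟩
    · obtain ⟨V', hV', hqV', hm⟩ := hgen W le_rfl (e i) q hq
      refine ⟨V', hV', hqV', Submodule.span_mono ?_ hm⟩
      rintro _ ⟨l, rfl⟩
      exact ⟨⟨l⟩, rfl⟩
  choose c hc using fun i => (Submodule.mem_span_range_iff_exists_fun _).1 (hall i)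
  refine exists_presentation_of_local hN hW (fun l => e (τ l)) hgen fun V hV y hy q hq => ?_
  have hy' : Finsupp.linearCombination (Sec 𝔛 h V) (fun i => sres M hV (e i))
      (∑ l, Finsupp.single (τ l) (y l)) = 0 := by
    rw [map_sum]
    exact Eq.trans (Finset.sum_congr rfl fun l _ => Finsupp.linearCombination_single _ _ _) hy
  obtain ⟨V', hV', hqV', hm⟩ := hP.relGen V hV _ hy' q hq
  refine ⟨V', hV', hqV', ?_⟩
  set T := Submodule.span (Sec 𝔛 h V') ((fun b : Fin n → Sec 𝔛 h W => fun i => rRes (hV'.trans hV) (b i)) ''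
          {b | ∑ i, b i • e (τ i) = 0}) with hT
  let π := Finsupp.linearCombination (Sec 𝔛 h W) c
  let π' := Finsupp.linearCombination (Sec 𝔛 h V') fun i => fun l : Fin n => rRes (hV'.trans hV) (c i l)
  have hπ : ∀ z, ∑ l, π z l • e (τ l) = Finsupp.linearCombination (Sec 𝔛 h W) e z := fun z => by
    refine Eq.trans (Fintype.linearCombination_apply (R := Sec 𝔛 h W) _ _).symm ?_
    refine (Finsupp.apply_linearCombination _ (Fintype.linearCombination (Sec 𝔛 h W) fun l => e (τ l)) c z).trans ?_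
    exact congrArg (fun v => Finsupp.linearCombination (Sec 𝔛 h W) v z)
      (funext fun i => (Fintype.linearCombination_apply (R := Sec 𝔛 h W) _ _).trans (hc i))
  have hres : ∀ z, π' (fRes (hV'.trans hV) z) = fun l => rRes (hV'.trans hV) (π z l) := fun z => by
    induction z using Finsupp.induction_linear with
    | zero => funext l; simp [fRes]
    | add a b ha hb =>
      rw [fRes, Finsupp.mapRange_add (map_add _), map_add, ha, hb, map_add]
      funext l
      simp
    | single j a =>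
      rw [fRes, Finsupp.mapRange_single, Finsupp.linearCombination_single, Finsupp.linearCombination_single]
      funext l
      simp [rRes]
  obtain ⟨b, hb⟩ := (Finsupp.mem_span_range_iff_exists_finsupp).1 hm
  have h1 : π' (fRes hV' (∑ l, Finsupp.single (τ l) (y l))) ∈ T := by
    rw [← hb, map_finsuppSum]
    refine Submodule.sum_mem _ fun k _ => ?_
    show π' (_ • _) ∈ T
    rw [map_smul, hres]
    exact Submodule.smul_mem _ _ (Submodule.subset_span ⟨π (r k), (hπ (r k)).trans (hP.rel k), rfl⟩)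
  have h2 : ∀ l, ((fun l' => rRes (hV'.trans hV) (c (τ l) l')) - Pi.single l 1) ∈ T := fun l => by
    refine Submodule.subset_span ⟨c (τ l) - Pi.single l 1, ?_, funext fun l' => ?_⟩
    · show ∑ i, (c (τ l) - Pi.single l 1 : Fin n → Sec 𝔛 h W) i • e (τ i) = 0
      simp only [Pi.sub_apply, sub_smul, Finset.sum_sub_distrib, hc, Pi.single_apply, ite_smul, one_smul, zero_smul,
        Finset.sum_ite_eq', Finset.mem_univ, if_true, sub_self]
    · simp only [Pi.sub_apply, map_sub, Pi.single_apply]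
      split <;> simp
  have h3 : (fun i => rRes hV' (y i)) = π' (fRes hV' (∑ l, Finsupp.single (τ l) (y l))) -
      ∑ l, rRes hV' (y l) • ((fun l' => rRes (hV'.trans hV) (c (τ l) l')) - Pi.single l 1) := by
    have e2 : fRes hV' (∑ l, Finsupp.single (τ l) (y l)) = ∑ l, Finsupp.single (τ l) (rRes hV' (y l)) := by
      refine (map_sum (Finsupp.mapRange.addMonoidHom ((𝔛.Osh h).obj.map (homOfLE hV').op).hom.toAddMonoidHom) _ _).trans ?_
      exact Finset.sum_congr rfl fun l _ => Finsupp.mapRange_single (hf := map_zero _)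
    rw [e2, map_sum, ← Finset.sum_sub_distrib]
    simp only [π', Finsupp.linearCombination_single, smul_sub, sub_sub_cancel]
    exact pi_eq_sum_univ' _
  rw [h3]
  exact sub_mem h1 (Submodule.sum_mem _ fun l _ => Submodule.smul_mem _ _ (h2 l))


theorem gen_transfer {W₀ W : (𝔛.X 0).Opens} (hW0 : W ≤ W₀) {J ι : Type u} (t : J → ModSite.sect M W₀)
    (e₀ : ι → ModSite.sect M W₀)
    (htgen : ∀ (V : (𝔛.X 0).Opens) (hV : V ≤ W₀) (m : ModSite.sect M V), ∀ q ∈ V,
      ∃ (V' : (𝔛.X 0).Opens) (hV' : V' ≤ V), q ∈ V' ∧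
        sres M hV' m ∈ Submodule.span (Sec 𝔛 h V') (Set.range fun j => sres M (hV'.trans hV) (t j)))
    (x : J → ι →₀ Sec 𝔛 h W) (hx : ∀ j, ((x j).sum fun i a => a • sres M hW0 (e₀ i)) = sres M hW0 (t j))
    (S : Finset ι) (hS : ∀ j, ∀ i ∈ (x j).support, i ∈ S) :
    ∀ (V : (𝔛.X 0).Opens) (hV : V ≤ W) (m : ModSite.sect M V), ∀ q ∈ V,
      ∃ (V' : (𝔛.X 0).Opens) (hV' : V' ≤ V), q ∈ V' ∧
        sres M hV' m ∈ Submodule.span (Sec 𝔛 h V') (Set.range fun l =>
          sres M (hV'.trans hV) (sres M hW0 (e₀ (S.equivFin.symm l)))) := by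
  intro V hV m q hq
  obtain ⟨V', hV', hqV', hm⟩ := htgen V (hV.trans hW0) m q hq
  refine ⟨V', hV', hqV', Submodule.span_le.2 ?_ hm⟩
  rintro _ ⟨j, rfl⟩
  show sres M (hV'.trans (hV.trans hW0)) (t j) ∈ _
  rw [← sres_sres hW0 (hV'.trans hV), ← hx j, Finsupp.sum]
  refine Eq.subst (motive := fun v => v ∈ _) (map_sum (M.val.map (homOfLE (hV'.trans hV)).op).hom _ _).symm ?_
  refine Submodule.sum_mem _ fun i hi => ?_
  refine Eq.subst (motive := fun v => v ∈ _) (PresheafOfModules.map_smul M.val (homOfLE (hV'.trans hV)).op (x j i)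
    (sres M hW0 (e₀ i))).symm ?_
  refine Submodule.smul_mem _ _ (Submodule.subset_span ⟨S.equivFin ⟨i, hS j i hi⟩, ?_⟩)
  simp only [Equiv.symm_apply_apply]

set_option maxHeartbeats 4000000 in
/-- A quasi-coherent module with locally finitely many generators is coherent. -/
theorem isCohF_of_qcoh_of_local_gens (hN : 𝔛.IsLocNoethFormal) [SheafOfModules.IsQuasicoherent.{u} M]
    (H : ∀ p : 𝔛.X 0, ∃ (U : (𝔛.X 0).Opens) (_ : p ∈ U) (J : Type u) (_ : Finite J) (t : J → ModSite.sect M U),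
      ∀ (V : (𝔛.X 0).Opens) (hV : V ≤ U) (m : ModSite.sect M V), ∀ q ∈ V,
        ∃ (V' : (𝔛.X 0).Opens) (hV' : V' ≤ V), q ∈ V' ∧
          sres M hV' m ∈ Submodule.span (Sec 𝔛 h V') (Set.range fun j => sres M (hV'.trans hV) (t j))) :
    FSch.IsCohF 𝔛 h M := by
  classical
  refine isCohF_of_presentations fun p => ?_
  obtain ⟨q⟩ := SheafOfModules.IsQuasicoherent.nonempty_quasicoherentData (M := M)
  obtain ⟨U₂, hi₂, J, hJ, t', ht'⟩ := H p
  obtain ⟨i₁, hi₁⟩ := Opens.mem_iSup.1 (((Opens.coversTop_iff _ q.X).1 q.coversTop).symm ▸ Opens.mem_top p)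
  obtain ⟨W₀, hW₀, hpW₀, hW₀U⟩ := exists_isAffineOpen_mem_and_subset (x := p) (U := q.X i₁ ⊓ U₂) ⟨hi₁, hi₂⟩
  have h₁ : W₀ ≤ q.X i₁ := fun x hx => (hW₀U hx).1
  have h₂ : W₀ ≤ U₂ := fun x hx => (hW₀U hx).2
  obtain ⟨e₀, r₀, hP₀⟩ := @exists_isInfPres _ (𝔛.Osh h) _ _ (q.X i₁) M _ _ _ (q.presentation i₁).isColimit W₀ h₁
    hW₀.isCompact
  let t : J → ModSite.sect M W₀ := fun j => sres M h₂ (t' j)
  have htgen : ∀ (V : (𝔛.X 0).Opens) (hV : V ≤ W₀) (m : ModSite.sect M V), ∀ q ∈ V,
      ∃ (V' : (𝔛.X 0).Opens) (hV' : V' ≤ V), q ∈ V' ∧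
        sres M hV' m ∈ Submodule.span (Sec 𝔛 h V') (Set.range fun j => sres M (hV'.trans hV) (t j)) :=
    fun V hV m x hx => by
      obtain ⟨V', hV', hxV', hm⟩ := ht' V (hV.trans h₂) m x hx
      exact ⟨V', hV', hxV', by simpa only [t, sres_sres] using hm⟩
  obtain ⟨W', hW'0, hpW', hW'⟩ := exists_common_nhd (p := p) (U₀ := W₀)
    (fun j V => ∀ hV : V ≤ W₀, sres M hV (t j) ∈ Submodule.span (Sec 𝔛 h V) (Set.range fun i => sres M hV (e₀ i)))
    (fun j V V' hV hle H hV' => by
      simpa only [sres_sres] using sres_mem_span hle _ (H hV)) hpW₀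
    (fun j => by
      obtain ⟨V, hV, hpV, hm⟩ := hP₀.gen W₀ le_rfl (t j) p hpW₀
      exact ⟨V, hV, hpV, fun _ => by simpa only [sres_sres] using hm⟩)
  obtain ⟨W, hW, hpW, hWW'⟩ := exists_isAffineOpen_mem_and_subset (x := p) (U := W') hpW'
  have hWW'' : W ≤ W' := hWW'
  have hW0 : W ≤ W₀ := hWW''.trans hW'0
  refine ⟨W, hpW, ?_⟩
  have ht : ∀ j, sres M hW0 (t j) ∈ Submodule.span (Sec 𝔛 h W) (Set.range fun i => sres M hW0 (e₀ i)) := fun j => by
    simpa only [sres_sres] using sres_mem_span hWW'' _ (hW' j hW'0)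
  choose x hx using fun j => (Finsupp.mem_span_range_iff_exists_finsupp).1 (ht j)
  letI := Fintype.ofFinite J
  let S : Finset (q.presentation i₁).generators.I := Finset.univ.biUnion fun j => (x j).support
  let n := S.card
  let τ : Fin n → (q.presentation i₁).generators.I := fun l => (S.equivFin.symm l).1
  have hP := hP₀.res hW0
  exact (hP.exists_finite_presentation hN hW τ (gen_transfer hW0 t e₀ htgen x hx S
    (fun j i hi => Finset.mem_biUnion.2 ⟨j, Finset.mem_univ j, hi⟩)))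

/-- A quasi-coherent module of finite type is coherent. -/
theorem isCohF_of_qcoh_finiteType (hN : 𝔛.IsLocNoethFormal) [SheafOfModules.IsQuasicoherent.{u} M]
    [SheafOfModules.IsFiniteType.{u} M] : FSch.IsCohF 𝔛 h M := by
  obtain ⟨σ, hσ⟩ := SheafOfModules.IsFiniteType.exists_localGeneratorsData M
  refine isCohF_of_qcoh_of_local_gens hN fun p => ?_
  obtain ⟨i, hi⟩ := Opens.mem_iSup.1 (((Opens.coversTop_iff _ σ.X).1 σ.coversTop).symm ▸ Opens.mem_top p)
  haveI := hσ.isFiniteType i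
  have hfin : Finite (σ.generators i).I := SheafOfModules.GeneratingSections.IsFiniteType.finite (σ := σ.generators i)
  have hepi : Epi (σ.generators i).π := inferInstance
  exact ⟨σ.X i, hi, _, hfin, _, @gen_of_epi _ (𝔛.Osh h) M _ (σ.X i) (σ.generators i).π hepi (σ.X i) le_rfl⟩

/-- A presented submodule of a coherent module has a finite presentation. -/
theorem IsInfPres.exists_finite_presentation_of_mono (hN : 𝔛.IsLocNoethFormal) {F : FSch.ModF 𝔛 h}
    [FSch.IsCohF 𝔛 h F] (i : M ⟶ F) [Mono i] {W : (𝔛.X 0).Opens} (hW : IsAffineOpen W) {ι κ : Type u}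
    {e : ι → ModSite.sect M W} {r : κ → ι →₀ Sec 𝔛 h W} (hP : IsInfPres M W e r) :
    ∃ P : ((ModSite.restr (𝔛.Osh h) W).obj M).Presentation, P.IsFinite := by
  classical
  haveI := isNoetherianRing_Sec (h := h) hN hW
  haveI := moduleFinite_sect (F := F) hN hW
  haveI : IsNoetherian (Sec 𝔛 h W) (ModSite.sect F W) := inferInstance
  obtain ⟨S, hS, hsp⟩ := (Submodule.fg_span_iff_fg_span_finset_subset (R := Sec 𝔛 h W)
    (Set.range fun j => sHom i W (e j))).1 (IsNoetherian.noetherian _)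
  choose j hj using fun x : S => hS x.2
  refine hP.exists_finite_presentation hN hW (fun l => j (S.equivFin.symm l)) fun V hV m x hx => ?_
  obtain ⟨V', hV', hxV', hm⟩ := hP.gen V hV m x hx
  refine ⟨V', hV', hxV', Submodule.span_le.2 ?_ hm⟩
  rintro _ ⟨l, rfl⟩
  have hl : sHom i W (e l) ∈ Submodule.map (sHom i W)
      (Submodule.span (Sec 𝔛 h W) (Set.range fun k => e (j (S.equivFin.symm k)))) := by
    have h1 : sHom i W (e l) ∈ Submodule.span (Sec 𝔛 h W) (Set.range fun j => sHom i W (e j)) :=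
      Submodule.subset_span ⟨l, rfl⟩
    rw [hsp] at h1
    refine Submodule.span_le.2 (fun z hz => ?_) h1
    refine ⟨e (j ⟨z, hz⟩), Submodule.subset_span ⟨S.equivFin ⟨z, hz⟩, ?_⟩, hj ⟨z, hz⟩⟩
    simp only [Equiv.symm_apply_apply]
  obtain ⟨z, hz, hze⟩ := hl
  have hel : e l ∈ Submodule.span (Sec 𝔛 h W) (Set.range fun k => e (j (S.equivFin.symm k))) :=
    Eq.subst (motive := fun v => v ∈ _) (sHom_injective i W hze) hz
  have h3 := sres_mem_span (hV'.trans hV) _ hel
  exact h3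

/-- A quasi-coherent submodule of a coherent module is coherent. -/
theorem isCohF_of_mono (hN : 𝔛.IsLocNoethFormal) {F : FSch.ModF 𝔛 h} [FSch.IsCohF 𝔛 h F]
    [SheafOfModules.IsQuasicoherent.{u} M] (i : M ⟶ F) [Mono i] : FSch.IsCohF 𝔛 h M := by
  refine isCohF_of_presentations fun p => ?_
  obtain ⟨q⟩ := SheafOfModules.IsQuasicoherent.nonempty_quasicoherentData (M := M)
  obtain ⟨i₁, hi₁⟩ := Opens.mem_iSup.1 (((Opens.coversTop_iff _ q.X).1 q.coversTop).symm ▸ Opens.mem_top p)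
  obtain ⟨W, hW, hpW, hWU⟩ := exists_isAffineOpen_mem_and_subset (x := p) (U := q.X i₁) hi₁
  obtain ⟨e, r, hP⟩ := @exists_isInfPres _ (𝔛.Osh h) _ _ (q.X i₁) M _ _ _ (q.presentation i₁).isColimit W hWU
    hW.isCompact
  refine ⟨W, hpW, ?_⟩
  exact hP.exists_finite_presentation_of_mono hN i hW

/-- A quasi-coherent quotient of a coherent module is coherent. -/
theorem isCohF_of_epi (hN : 𝔛.IsLocNoethFormal) {F : FSch.ModF 𝔛 h} [FSch.IsCohF 𝔛 h F]
    [SheafOfModules.IsQuasicoherent.{u} M] (π : F ⟶ M) [Epi π] : FSch.IsCohF 𝔛 h M := by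
  refine isCohF_of_qcoh_of_local_gens hN fun p => ?_
  obtain ⟨U, hU, hpU⟩ := exists_affine_nhd (𝔛 := 𝔛) p
  haveI := moduleFinite_sect (F := F) hN hU
  obtain ⟨n, g, hg⟩ := Submodule.fg_iff_exists_fin_generating_family.1
    (Module.Finite.fg_top (R := Sec 𝔛 h U) (M := ModSite.sect F U))
  refine ⟨U, hpU, ULift.{u} (Fin n), inferInstance, fun l => sHom π U (g l.down), fun V hV m x hx => ?_⟩
  obtain ⟨V', hV', hxV', m', hm'⟩ := exists_local_preimage π m hx
  obtain ⟨W, hW, hxW, hWV''⟩ := exists_isAffineOpen_mem_and_subset (x := x) (U := V') hxV'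
  have hWV' : W ≤ V' := hWV''
  have hWU : W ≤ U := (hWV'.trans hV').trans hV
  refine ⟨W, hWV'.trans hV', hxW, ?_⟩
  obtain ⟨a, ha⟩ := (Submodule.mem_span_range_iff_exists_fun _).1
    ((span_sres_eq_top hN hU hW hWU hg).symm ▸ Submodule.mem_top : sres F hWV' m' ∈ _)
  rw [← sres_sres hV' hWV', ← hm', ← sHom_res, ← ha, map_sum]
  refine Submodule.sum_mem _ fun l _ => ?_
  rw [map_smul, sHom_res]
  exact Submodule.smul_mem _ _ (Submodule.subset_span ⟨⟨l⟩, rfl⟩)

end GrothLib.FCat7
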