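import Groth.Agent.Lib.FCat7.IndQC
import Groth.Agent.Lib.FCat7.Acyclic
import Groth.Agent.Lib.HomColim25.Local
import Groth.Agent.Lib.SiteDer.ModGen

/-!
# Sheaves of homomorphisms from coherent to quasi-coherent modules
-/

set_option autoImplicit false
set_option linter.style.haveILetI false
set_option linter.unusedSectionVars false
universe u

open CategoryTheory CategoryTheory.Limits AlgebraicGeometry TopologicalSpace Opposite

noncomputable section

namespace GrothLib.FCat7

open GrothLib.FMod7 GrothLib.HomColim25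

section Cat

variable {C : Type u} [SmallCategory C] {J : GrothendieckTopology C} {O : Sheaf J CommRingCat.{u}}

set_option backward.isDefEq.respectTransparency false in
set_option backward.isDefEq.respectTransparency.types false in
/-- The internal hom out of a finitely presented module is a kernel of finite powers of the target. -/
theorem exists_hom_kernel (G : ModSite.Mod O) {F : ModSite.Mod O}
    (p : SheafOfModules.Presentation (R := ModSite.ringSh O) F) [p.IsFinite] :
    ∃ (n m : ℕ), ∀ (D : ModSite.Mod O) (π : Fin n → (D ⟶ G)) (_ : IsLimit (Fan.mk D π))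
      (D' : ModSite.Mod O) (π' : Fin m → (D' ⟶ G)) (_ : IsLimit (Fan.mk D' π')),
      ∃ (e : (ModSite.sheafHom F).obj G ⟶ D) (φ : D ⟶ D') (w : e ≫ φ = 0),
        Mono e ∧ (ShortComplex.mk e φ w).Exact := by
  haveI := p.generators.epi
  haveI := p.relations.epi
  haveI hI : Finite p.generators.I :=
    (SheafOfModules.Presentation.IsFinite.isFiniteType_generators (p := p)).finite
  haveI hI' : Finite p.relations.I :=
    (SheafOfModules.Presentation.IsFinite.isFiniteType_relations (p := p)).finite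
  let T := ShortComplex.mk (p.relations.π ≫ kernel.ι p.generators.π) p.generators.π
    (by rw [Category.assoc, kernel.condition, comp_zero])
  have hT : T.Exact := by
    rw [T.exact_iff_epi_kernel_lift]
    have : kernel.lift T.g T.f T.zero = p.relations.π := by
      rw [← cancel_mono (kernel.ι T.g), kernel.lift_ι]
    rw [this]
    infer_instance
  let E : (ModSite.Mod O)ᵒᵖ ⥤ ModSite.Mod O := Hop (O := O) ⋙ (evaluation _ _).obj G
  haveI : ∀ (K : Type) [SmallCategory K], PreservesLimitsOfShape K E := fun K _ => by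
    haveI := preservesLimitsOfShape_Hop (O := O) K
    infer_instance
  haveI : PreservesFiniteLimits E := ⟨fun K _ _ => inferInstance⟩
  haveI : E.PreservesZeroMorphisms := Functor.preservesZeroMorphisms_of_preserves_terminal_object (F := E)
  haveI : E.Additive := Functor.additive_of_preserves_binary_products E
  let uI : E.obj (op (ModSite.unit O)) ≅ G := (unitIso (O := O)).app G
  -- powers
  have hpow : ∀ (I : Type u) [Finite I], ∃ n : ℕ, ∀ (D : ModSite.Mod O) (π : Fin n → (D ⟶ G))
      (_ : IsLimit (Fan.mk D π)), Nonempty (E.obj (op (SheafOfModules.free (R := ModSite.ringSh O) I)) ≅ D) := by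
    intro I _
    obtain ⟨n, ⟨e⟩⟩ := Finite.exists_equiv_fin I
    refine ⟨n, fun D π hπ => ?_⟩
    let c : Cofan (fun _ : Fin n => ModSite.unit O) :=
      Cofan.mk (SheafOfModules.free (R := ModSite.ringSh O) I)
        fun k => (SheafOfModules.freeCofan (R := ModSite.ringSh O) I).inj (e.symm k)
    let hf := SheafOfModules.isColimitFreeCofan (R := ModSite.ringSh O) I
    let dsc := fun s : Cofan (fun _ : Fin n => ModSite.unit O) => Cofan.IsColimit.desc hf fun i : I => s.inj (e i)
    have hc : IsColimit c := Cofan.IsColimit.mk c dsc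
      (fun s k => (Cofan.IsColimit.fac hf (fun i : I => s.inj (e i)) (e.symm k)).trans
        (congrArg s.inj (e.apply_symm_apply k)))
      (fun s f hf' => Cofan.IsColimit.hom_ext hf _ _ fun i => by
        refine Eq.trans ?_ (Cofan.IsColimit.fac hf (fun i : I => s.inj (e i)) i).symm
        refine Eq.trans ?_ (hf' (e i))
        show _ = (SheafOfModules.freeCofan (R := ModSite.ringSh O) I).inj (e.symm (e i)) ≫ f
        rw [e.symm_apply_apply])
    let fan : Fan (fun _ : Fin n => op (ModSite.unit O)) :=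
      Fan.mk (op (SheafOfModules.free (R := ModSite.ringSh O) I)) fun k => (c.inj k).op
    have hfan : IsLimit fan := Cofan.IsColimit.op hc
    have hE : IsLimit (Fan.mk (E.obj fan.pt) fun k => E.map (fan.proj k)) :=
      isLimitFanMkObjOfIsLimit E (fun _ : Fin n => op (ModSite.unit O)) (fun k => fan.proj k)
        (hfan.ofIsoLimit (Cone.ext (Iso.refl _) fun k => by simp [fan]))
    exact ⟨IsLimit.conePointsIsoOfNatIso hE hπ (Discrete.natIso fun _ => uI)⟩
  obtain ⟨n, hn⟩ := hpow p.generators.I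
  obtain ⟨m, hm⟩ := hpow p.relations.I
  refine ⟨n, m, fun D π hπ D' π' hπ' => ?_⟩
  obtain ⟨a⟩ := hn D π hπ
  obtain ⟨b⟩ := hm D' π' hπ'
  haveI : Epi T.g := inferInstanceAs (Epi p.generators.π)
  haveI : Mono T.op.f := inferInstanceAs (Mono T.g.op)
  have hex := hT.op.map_of_mono_of_preservesKernel E inferInstance inferInstance
  haveI : Mono (E.map T.g.op) := inferInstance
  let S := ShortComplex.mk (E.map T.g.op ≫ a.hom) (a.inv ≫ E.map T.f.op ≫ b.hom) (by
    rw [Category.assoc, Iso.hom_inv_id_assoc, ← E.map_comp_assoc, ← op_comp, T.zero, op_zero, E.map_zero, zero_comp])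
  let i : T.op.map E ≅ S := ShortComplex.isoMk (Iso.refl _) a b (by simp [S]) (by simp [S])
  exact ⟨S.f, S.g, S.zero, mono_comp _ _, ShortComplex.exact_of_iso i hex⟩

end Cat

section Space

variable {T : TopCat.{u}} {O : Sheaf (Opens.grothendieckTopology T) CommRingCat.{u}} {W : Opens T}

/-- A morphism of restrictions on sections. -/
def wHom {M N : ModSite.Mod O} (φ : (ModSite.restr O W).obj M ⟶ (ModSite.restr O W).obj N) (V : Opens T)
    (hV : V ≤ W) : ModSite.sect M V →ₗ[O.obj.obj (op V)] ModSite.sect N V where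
  toFun := (φ.val.app (op (Over.mk (homOfLE hV)))).hom
  map_add' := map_add _
  map_smul' := (φ.val.app (op (Over.mk (homOfLE hV)))).hom.map_smul

theorem wHom_res {M N : ModSite.Mod O} (φ : (ModSite.restr O W).obj M ⟶ (ModSite.restr O W).obj N) {V V' : Opens T}
    (hV : V ≤ W) (hV' : V' ≤ V) (x : ModSite.sect M V) :
    wHom φ V' (hV'.trans hV) (sres M hV' x) = sres N hV' (wHom φ V hV x) :=
  PresheafOfModules.naturality_apply φ.val
    (Over.homMk (homOfLE hV') : Over.mk (homOfLE (hV'.trans hV)) ⟶ Over.mk (homOfLE hV)).op x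

theorem wHom_exact {A B D : ModSite.Mod O} (e : (ModSite.restr O W).obj A ⟶ (ModSite.restr O W).obj B)
    (φ : (ModSite.restr O W).obj B ⟶ (ModSite.restr O W).obj D) (w : e ≫ φ = 0) [Mono e]
    (hex : (ShortComplex.mk e φ w).Exact) (V : Opens T) (hV : V ≤ W) :
    Function.Injective (wHom e V hV) ∧ (∀ a, wHom φ V hV (wHom e V hV a) = 0) ∧
      ∀ x, wHom φ V hV x = 0 → ∃ a, wHom e V hV a = x := by
  haveI : (SheafOfModules.evaluation (ModSite.ringSh (O.over W)) (op (Over.mk (homOfLE hV)))).PreservesZeroMorphisms :=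
    ⟨fun _ _ => rfl⟩
  have h := (hex.map_of_mono_of_preservesKernel
    (SheafOfModules.evaluation (ModSite.ringSh (O.over W)) (op (Over.mk (homOfLE hV)))) inferInstance inferInstance)
  refine ⟨?_, fun a => ?_, fun x hx => ?_⟩
  · haveI : Mono ((SheafOfModules.evaluation (ModSite.ringSh (O.over W)) (op (Over.mk (homOfLE hV)))).map e) :=
      inferInstance
    exact (ModuleCat.mono_iff_injective _).1 this
  · exact congrArg (fun f : (ModSite.restr O W).obj A ⟶ (ModSite.restr O W).obj D =>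
      (f.val.app (op (Over.mk (homOfLE hV)))).hom a) w
  · exact (ShortComplex.moduleCat_exact_iff _).1 h x hx

theorem fan_sect_ext {G D : ModSite.Mod O} {n : ℕ} {π : Fin n → (D ⟶ G)} (hπ : IsLimit (Fan.mk D π)) {V : Opens T}
    {x y : ModSite.sect D V} (H : ∀ k, sHom (π k) V x = sHom (π k) V y) : x = y := by
  apply (SiteDer.secMod D V).symm.injective
  refine Fan.IsLimit.hom_ext hπ _ _ fun k => (SiteDer.secMod G V).injective ?_
  refine ((SiteDer.secMod_comp V _ (π k)).trans ?_).trans (SiteDer.secMod_comp V _ (π k)).symm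
  exact (congrArg (sHom (π k) V) ((SiteDer.secMod D V).apply_symm_apply x)).trans
    ((H k).trans (congrArg (sHom (π k) V) ((SiteDer.secMod D V).apply_symm_apply y)).symm)

end Space

variable {𝔛 : FSch.Sys.{u}} {h : 𝔛.IsFormal}

theorem IsQC.of_subsingleton {M : FSch.ModF 𝔛 h} (hM : ∀ V, Subsingleton (ModSite.sect M V))
    (W : (𝔛.X 0).Opens) : IsQC M W where
  gen V hV m p hp := ⟨V, le_rfl, hp, by
    haveI := hM V
    rw [Subsingleton.elim (sres M (le_refl V) m) 0]
    exact zero_mem _⟩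
  rel α _ s V hV y _ p hp := by
    classical
    refine ⟨V, le_rfl, hp, ?_⟩
    rw [show wRes (le_refl V) y = ∑ a, rRes (le_refl V) (y a) •
      wRes (hV) (Pi.single a (1 : Sec 𝔛 h W) : α → Sec 𝔛 h W) from ?_]
    · refine Submodule.sum_mem _ fun a _ => Submodule.smul_mem _ _ (Submodule.subset_span ⟨Pi.single a 1, ?_, rfl⟩)
      exact @Subsingleton.elim _ (hM W) _ _
    · funext b
      simp [Finset.sum_apply, wRes, Pi.single_apply, apply_ite]

variable (hN : 𝔛.IsLocNoethFormal)
include hN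

/-- Finite powers. -/
theorem exists_power (G : FSch.ModF 𝔛 h) : ∀ n : ℕ, ∃ (D : FSch.ModF 𝔛 h) (π : Fin n → (D ⟶ G))
    (_ : IsLimit (Fan.mk D π)), ∀ W : (𝔛.X 0).Opens, IsAffineOpen W → IsQC G W → IsQC D W
  | 0 => by
    obtain ⟨Z, hZ⟩ := HasZeroObject.zero (C := FSch.ModF 𝔛 h)
    have hlim : IsLimit (Fan.mk Z fun k : Fin 0 => (k.elim0 : Z ⟶ G)) :=
      Fan.IsLimit.mk _ (fun s => hZ.from_ s.pt) (fun _ k => k.elim0) (fun _ _ _ => hZ.eq_of_tgt _ _)
    refine ⟨Z, _, hlim, fun W _ _ => IsQC.of_subsingleton (fun V => ⟨fun x y => fan_sect_ext hlim fun k => k.elim0⟩) W⟩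
  | n + 1 => by
    obtain ⟨D, π, hπ, hD⟩ := exists_power G n
    refine ⟨G ⊞ D, Fin.cases biprod.fst fun k => biprod.snd ≫ π k, ?_, fun W hW hG => ?_⟩
    · refine Fan.IsLimit.mk _ (fun s => biprod.lift (s.proj 0) (Fan.IsLimit.lift hπ fun k => s.proj k.succ))
        (fun s k => ?_) fun s f hf => ?_
      · induction k using Fin.cases with
        | zero => simp
        | succ k => simpa using Fan.IsLimit.fac hπ (fun k => s.proj k.succ) k
      · refine biprod.hom_ext _ _ ?_ (Fan.IsLimit.hom_ext hπ _ _ fun k => ?_)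
        · simpa using hf 0
        · have h1 : f ≫ biprod.snd ≫ π k = s.proj k.succ := by simpa using hf k.succ
          simpa using h1.trans (Fan.IsLimit.fac hπ (fun k => s.proj k.succ) k).symm
    · exact IsQC.extension hN (S := ShortComplex.mk (biprod.inl : G ⟶ G ⊞ D) (biprod.snd : G ⊞ D ⟶ D) biprod.inl_snd)
        (ShortComplex.Splitting.ofHasBinaryBiproduct G D).shortExact hW hG (hD W hW hG)

omit hN in
/-- A kernel over an open of modules presented by sections. -/
theorem IsQC.of_over_kernel {H F G : FSch.ModF 𝔛 h} {W : (𝔛.X 0).Opens}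
    (e : (ModSite.restr (𝔛.Osh h) W).obj H ⟶ (ModSite.restr (𝔛.Osh h) W).obj F)
    (φ : (ModSite.restr (𝔛.Osh h) W).obj F ⟶ (ModSite.restr (𝔛.Osh h) W).obj G) (w : e ≫ φ = 0) [Mono e]
    (hex : (ShortComplex.mk e φ w).Exact) (hF : IsQC F W) (hG : IsQC G W) : IsQC H W where
  gen V hV z p hp := by
    classical
    obtain ⟨W₁, hW₁, hpW₁, hm⟩ := hF.gen V hV (wHom e V hV z) p hp
    obtain ⟨x, hx⟩ := Finsupp.mem_span_range_iff_exists_finsupp.1 hm
    let S := x.support
    have hW₁W : W₁ ≤ W := hW₁.trans hV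
    have hz : wHom e W₁ hW₁W (sres H hW₁ z) = ∑ i : S, x i.1 • sres F hW₁W i.1 :=
      (wHom_res e hV hW₁ z).trans (hx.symm.trans (Finset.sum_coe_sort S fun i => x i • sres F hW₁W i).symm)
    have h0 : ∑ i : S, x i.1 • sres G hW₁W (wHom φ W le_rfl i.1) = 0 := by
      have h1 := congrArg (wHom φ W₁ hW₁W) hz
      rw [(wHom_exact e φ w hex W₁ hW₁W).2.1, map_sum] at h1
      refine Eq.trans (Finset.sum_congr rfl fun i _ => ?_) h1.symm
      exact Eq.trans (congrArg (x i.1 • ·) (wHom_res φ le_rfl hW₁W i.1).symm) ((wHom φ W₁ hW₁W).map_smul _ _).symm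
    obtain ⟨W', hW', hpW', hm'⟩ := hG.rel S (fun i : S => wHom φ W le_rfl i.1) W₁ hW₁W (fun i : S => x i.1) h0 p hpW₁
    refine ⟨W', hW'.trans hW₁, hpW', ?_⟩
    have hW'W : W' ≤ W := hW'.trans hW₁W
    let Λ : (S → Sec 𝔛 h W') →ₗ[Sec 𝔛 h W'] ModSite.sect F W' :=
      Fintype.linearCombination (Sec 𝔛 h W') fun i : S => sres F hW'W i.1
    have e' : wHom e W' hW'W (sres H (hW'.trans hW₁) z) = Λ (wRes hW' fun i : S => x i.1) := by
      rw [← sres_sres hW₁ hW', wHom_res e hW₁W hW', hz, sres_comb]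
      simp only [sres_sres]
      exact (Fintype.linearCombination_apply (R := Sec 𝔛 h W') _ _).symm
    have hmem : wHom e W' hW'W (sres H (hW'.trans hW₁) z) ∈ Submodule.map (wHom e W' hW'W)
        (Submodule.span (Sec 𝔛 h W') (Set.range fun s : ModSite.sect H W => sres H hW'W s)) := by
      rw [e']
      refine Submodule.span_le.2 ?_ (Submodule.map_span Λ _ ▸ Submodule.mem_map_of_mem (f := Λ) hm')
      rintro _ ⟨_, ⟨b, hb, rfl⟩, rfl⟩
      have hb0 : wHom φ W le_rfl (∑ i : S, b i • i.1) = 0 :=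
        (map_sum (wHom φ W le_rfl) _ _).trans ((Finset.sum_congr rfl fun i _ => (wHom φ W le_rfl).map_smul _ _).trans hb)
      obtain ⟨k, hk⟩ := (wHom_exact e φ w hex W le_rfl).2.2 _ hb0
      refine ⟨sres _ hW'W k, Submodule.subset_span ⟨k, rfl⟩, ?_⟩
      rw [wHom_res e le_rfl hW'W, hk, sres_comb]
      exact (Fintype.linearCombination_apply (R := Sec 𝔛 h W') _ _).symm
    obtain ⟨v, hv, hvz⟩ := hmem
    exact Eq.subst (motive := fun v => v ∈ _) ((wHom_exact e φ w hex W' hW'W).1 hvz) hv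
  rel α _ s V hV y hy p hp := by
    have hy' : ∑ a, y a • sres F hV (wHom e W le_rfl (s a)) = 0 := by
      have h2 := congrArg (wHom e V hV) hy
      rw [map_zero, map_sum] at h2
      refine Eq.trans (Finset.sum_congr rfl fun a _ => ?_) h2
      exact Eq.trans (congrArg (y a • ·) (wHom_res e le_rfl hV (s a)).symm) ((wHom e V hV).map_smul _ _).symm
    obtain ⟨W', hW', hpW', hm⟩ := hF.rel α (fun a => wHom e W le_rfl (s a)) V hV y hy' p hp
    refine ⟨W', hW', hpW', Submodule.span_mono (Set.image_mono fun b hb => ?_) hm⟩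
    refine (wHom_exact e φ w hex W le_rfl).1 ?_
    refine (map_sum (wHom e W le_rfl) _ _).trans (Eq.trans ?_ (hb.trans (map_zero (wHom e W le_rfl)).symm))
    exact Finset.sum_congr rfl fun a _ => (wHom e W le_rfl).map_smul _ _

set_option maxHeartbeats 1000000 in
/-- Locally, the internal hom embeds into a finite power and is presented by sections. -/
theorem exists_sheafHom_local (F G : FSch.ModF 𝔛 h) [FSch.IsCohF 𝔛 h F] {W : (𝔛.X 0).Opens} (hW : IsAffineOpen W)
    (hG : IsQC G W) :
    IsQC ((ModSite.sheafHom F).obj G) W ∧ ∃ (n : ℕ) (L : ModSite.sect ((ModSite.sheafHom F).obj G) W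
      →ₗ[Sec 𝔛 h W] (Fin n → ModSite.sect G W)), Function.Injective L := by
  classical
  haveI := moduleFinite_sect (F := F) hN hW
  obtain ⟨k, g, hg⟩ := Submodule.fg_iff_exists_fin_generating_family.1
    (Module.Finite.fg_top (R := Sec 𝔛 h W) (M := ModSite.sect F W))
  obtain ⟨p, hp⟩ := exists_presentation_of_local (M := F) hN hW g
    (fun V hV x q hq => by
      obtain ⟨W', hW', hqW', hW'V'⟩ := exists_isAffineOpen_mem_and_subset (x := q) (U := V) hq
      have hW'V : W' ≤ V := hW'V'
      exact ⟨W', hW'V, hqW', (span_sres_eq_top hN hW hW' (hW'V.trans hV) hg).symm ▸ Submodule.mem_top⟩)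
    (fun V hV y hy q hq => by
      obtain ⟨W', hW', hqW', hW'V'⟩ := exists_isAffineOpen_mem_and_subset (x := q) (U := V) hq
      have hW'V : W' ≤ V := hW'V'
      refine ⟨W', hW'V, hqW', relations_sres' hN hW hW' (hW'V.trans hV) g _ ?_⟩
      refine Eq.trans ?_ ((congrArg (sres F hW'V) hy).trans (map_zero (F.val.map (homOfLE hW'V).op).hom))
      rw [sres_comb]
      simp only [sres_sres])
  haveI := hp
  obtain ⟨n, m, H⟩ := exists_hom_kernel ((ModSite.restr (𝔛.Osh h) W).obj G) p
  obtain ⟨D, π, hπ, hD⟩ := exists_power hN G n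
  obtain ⟨D', π', hπ', hD'⟩ := exists_power hN G m
  haveI : (ModSite.restr (𝔛.Osh h) W).IsRightAdjoint := (ModSite.extZeroAdj (𝔛.Osh h) W).isRightAdjoint
  obtain ⟨e, φ, w, he, hex⟩ := H _ _ (isLimitFanMkObjOfIsLimit (ModSite.restr (𝔛.Osh h) W) (fun _ => G) π hπ)
    _ _ (isLimitFanMkObjOfIsLimit (ModSite.restr (𝔛.Osh h) W) (fun _ => G) π' hπ')
  let i : (ModSite.restr (𝔛.Osh h) W).obj ((ModSite.sheafHom F).obj G) ≅
      (ModSite.sheafHom ((ModSite.restr (𝔛.Osh h) W).obj F)).obj ((ModSite.restr (𝔛.Osh h) W).obj G) :=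
    (restrHomIso (𝔛.Osh h) W F).app G
  haveI : Mono (i.hom ≫ e) := mono_comp _ _
  have hex' : (ShortComplex.mk (i.hom ≫ e) φ (by rw [Category.assoc, w, comp_zero])).Exact :=
    ShortComplex.exact_of_iso (ShortComplex.isoMk (S₁ := ShortComplex.mk e φ w) i.symm (Iso.refl _) (Iso.refl _) (by simp) (by simp)) hex
  refine ⟨IsQC.of_over_kernel (i.hom ≫ e) φ _ hex' (hD W hW hG) (hD' W hW hG), n,
    LinearMap.pi fun k => (sHom (π k) W).comp (wHom (i.hom ≫ e) W le_rfl), fun x y hxy => ?_⟩
  refine (wHom_exact (i.hom ≫ e) φ _ hex' W le_rfl).1 (fan_sect_ext hπ fun k => ?_)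
  exact congrFun hxy k

/-- Sheaves of homomorphisms from coherent to quasi-coherent modules. -/
theorem isQuasicoherent_sheafHom (F G : FSch.ModF 𝔛 h) [FSch.IsCohF 𝔛 h F] [SheafOfModules.IsQuasicoherent.{u} G] :
    SheafOfModules.IsQuasicoherent.{u} ((ModSite.sheafHom F).obj G) :=
  isQuasicoherent_of_isQC fun p => by
    obtain ⟨W, hW, hpW, -, hG⟩ := exists_isQC hN G (U := ⊤) (p := p) trivial
    exact ⟨W, hpW, (exists_sheafHom_local hN F G hW hG).1⟩

/-- Sheaves of homomorphisms between coherent modules. -/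
theorem isCohF_sheafHom (F G : FSch.ModF 𝔛 h) [FSch.IsCohF 𝔛 h F] [FSch.IsCohF 𝔛 h G]
    [SheafOfModules.IsQuasicoherent.{u} G] : FSch.IsCohF 𝔛 h ((ModSite.sheafHom F).obj G) := by
  haveI := isQuasicoherent_sheafHom hN F G
  refine isCohF_of_qcoh_of_local_gens hN fun p => ?_
  obtain ⟨W, hW, hpW, -, hG⟩ := exists_isQC hN G (U := ⊤) (p := p) trivial
  obtain ⟨hH, n, L, hL⟩ := exists_sheafHom_local hN F G hW hG
  haveI := isNoetherianRing_Sec (h := h) hN hW
  haveI := moduleFinite_sect (F := G) hN hW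
  haveI : Module.Finite (Sec 𝔛 h W) (ModSite.sect ((ModSite.sheafHom F).obj G) W) :=
    Module.Finite.of_injective L hL
  obtain ⟨k, t, ht⟩ := Submodule.fg_iff_exists_fin_generating_family.1
    (Module.Finite.fg_top (R := Sec 𝔛 h W) (M := ModSite.sect ((ModSite.sheafHom F).obj G) W))
  refine ⟨W, hpW, ULift.{u} (Fin k), inferInstance, fun j => t j.down, fun V hV z q hq => ?_⟩
  obtain ⟨V', hV', hqV', hm⟩ := hH.gen V hV z q hq
  refine ⟨V', hV', hqV', Submodule.span_le.2 ?_ hm⟩
  rintro _ ⟨s, rfl⟩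
  obtain ⟨c, hc⟩ := (Submodule.mem_span_range_iff_exists_fun _).1 (ht.symm ▸ Submodule.mem_top : s ∈ _)
  rw [SetLike.mem_coe, ← hc]
  show sres _ _ (∑ j, c j • t j) ∈ _
  rw [sres_comb]
  exact Submodule.sum_mem _ fun j _ => Submodule.smul_mem _ _ (Submodule.subset_span ⟨⟨j⟩, rfl⟩)

end GrothLib.FCat7
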