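import Groth.Agent.Lib.FCat7.IndQC
import Groth.Agent.Lib.FCoh7.RpushLim
import Mathlib.AlgebraicGeometry.Properties

/-!
# Acyclicity of affine opens for coherent and ind-coherent modules
-/

set_option autoImplicit false
set_option linter.style.haveILetI false
set_option linter.unusedSectionVars false
set_option backward.isDefEq.respectTransparency false
universe u

open CategoryTheory CategoryTheory.Limits AlgebraicGeometry TopologicalSpace Opposite Abelian

noncomputable section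

namespace GrothLib.FCat7

open GrothLib.SheafCoh GrothLib.FCoh7

variable {𝔛 : FSch.Sys.{u}} {h : 𝔛.IsFormal} (hN : 𝔛.IsLocNoethFormal)
include hN

/-- Classes of a level on an affine open. -/
theorem subsingleton_ext_level {F : FSch.ModF 𝔛 h} [FSch.IsCohF 𝔛 h F] {W : (𝔛.X 0).Opens} (hW : IsAffineOpen W)
    (k i : ℕ) :
    Subsingleton (Ext.{u} (freeY (Opens.grothendieckTopology (𝔛.X 0).toTopCat) W) ((lvTower h F).obj (op k)) (i + 1)) := by
  haveI := (FMod7.isCoh_pullSys (F := F) k).1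
  exact (acycOn_push (Z := 𝔛.X k) (T := (𝔛.X 0).toTopCat) (𝔛.gInv h k)
    (TopCat.homeoOfIso (asIso (𝔛.gInv h k))).isClosedEmbedding (𝔛.X 0).affineOpens
    (fun V hV => FFormal7.isAffineOpen_lvU 𝔛 h hV k) ((FMod7.pullSys h F).F k)) W hW i

/-- Coherent modules have no higher cohomology on affine opens. -/
theorem subsingleton_ext_of_isCohF {F : FSch.ModF 𝔛 h} [FSch.IsCohF 𝔛 h F] {W : (𝔛.X 0).Opens} (hW : IsAffineOpen W)
    (i : ℕ) :
    Subsingleton (Ext.{u} (freeY (Opens.grothendieckTopology (𝔛.X 0).toTopCat) W) (ModSite.toAb F) (i + 1)) := by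
  let P := freeY (Opens.grothendieckTopology (𝔛.X 0).toTopCat) W
  refine subsingleton_of_forall_eq 0 fun x => (ext_lim_bijective h F hN P (fun j => ⟨0, fun {k m} hkm _ y => ?_⟩) (i + 1)).1 x
    fun k => @Subsingleton.elim _ (subsingleton_ext_level hN hW k i) _ _
  cases j with
  | succ j =>
    haveI := subsingleton_ext_level hN (F := F) hW m j
    refine ⟨0, ?_⟩
    rw [Subsingleton.elim y 0, Ext.zero_comp, Ext.zero_comp]
  | zero =>
    obtain ⟨φ, rfl⟩ := (Ext.mk₀_bijective _ _).2 y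
    obtain ⟨s, hs⟩ := lvTower_surjective h F hW m (homFreeY ((lvTower h F).obj (op m)) W φ)
    obtain ⟨ψ, hψ⟩ := (homFreeY ((lvTower h F).obj (op (m + 1))) W).surjective s
    refine ⟨Ext.mk₀ ψ, ?_⟩
    have e : ψ ≫ (lvTower h F).map (homOfLE (Nat.le_succ m)).op = φ := by
      refine (homFreeY ((lvTower h F).obj (op m)) W).injective ?_
      rw [homFreeY_comp, hψ]
      exact hs
    rw [Ext.mk₀_comp_mk₀, Ext.mk₀_comp_mk₀, ← e, Category.assoc, ← Functor.map_comp]
    rfl

/-- Coherent modules have no higher cohomology on affine opens. -/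
theorem subsingleton_H'_of_isCohF {F : FSch.ModF 𝔛 h} [FSch.IsCohF 𝔛 h F] {W : (𝔛.X 0).Opens} (hW : IsAffineOpen W)
    (i : ℕ) : Subsingleton (Sheaf.H' (ModSite.toAb F) (i + 1) W) :=
  subsingleton_ext_of_isCohF hN hW i

/-- Ind-coherent modules have no higher cohomology on affine opens. -/
theorem subsingleton_H'_of_ind {M : FSch.ModF 𝔛 h}
    (hM : (ObjectProperty.ind.{u} fun G : FSch.ModF 𝔛 h => FSch.IsCohF 𝔛 h G) M) {W : (𝔛.X 0).Opens}
    (hW : IsAffineOpen W) (i : ℕ) : Subsingleton (Sheaf.H' (ModSite.toAb M) (i + 1) W) := by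
  obtain ⟨J, _, _, pres, hp⟩ := hM
  haveI := hN.2.2 0
  haveI : PrespectralSpace ↑(𝔛.X 0).toTopCat := inferInstanceAs (PrespectralSpace ↥(𝔛.X 0))
  haveI := SheafCoh.preservesColimitsOfSize_toSheaf (ModSite.ringSh (𝔛.Osh h))
  let S := SheafOfModules.toSheaf.{u} (ModSite.ringSh (𝔛.Osh h))
  let H := (Sheaf.cohomologyPresheafFunctor (Opens.grothendieckTopology (𝔛.X 0).toTopCat) (i + 1)).flip.obj (op W)
  haveI := ColimCoh.preservesColimit_cohomology_of_isQuasiSeparated (X := (𝔛.X 0).toTopCat) hW.isQuasiSeparated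
    hW.isCompact (pres.diag ⋙ S) (i + 1)
  let c : Cocone pres.diag := Cocone.mk M pres.ι
  have hc : IsColimit (H.mapCocone (S.mapCocone c)) :=
    isColimitOfPreserves H (isColimitOfPreserves S pres.isColimit)
  refine subsingleton_of_forall_eq 0 fun x => ?_
  obtain ⟨j, y, rfl⟩ := Concrete.isColimit_exists_rep _ hc x
  haveI := hp j
  haveI : Subsingleton (((pres.diag ⋙ S) ⋙ H).obj j) := subsingleton_H'_of_isCohF hN (F := pres.diag.obj j) hW i
  rw [Subsingleton.elim y 0]
  exact map_zero _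

/-- Ind-coherent modules have no higher cohomology when the space is affine. -/
theorem subsingleton_H_of_ind {M : FSch.ModF 𝔛 h}
    (hM : (ObjectProperty.ind.{u} fun G : FSch.ModF 𝔛 h => FSch.IsCohF 𝔛 h G) M) [IsAffine (𝔛.X 0)]
    (i : ℕ) : Subsingleton (Sheaf.H (ModSite.toAb M) (i + 1)) := by
  haveI : Subsingleton (Sheaf.H' (ModSite.toAb M) (i + 1) (⊤ : (𝔛.X 0).Opens)) :=
    subsingleton_H'_of_ind hN hM (isAffineOpen_top _) i
  haveI : Subsingleton (Ext.{u} ((Cohom.freeFun (T := (𝔛.X 0).toTopCat)).obj ⊤) (ModSite.toAb M) (i + 1)) := this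
  exact (Cohom.HEquivTop (T := (𝔛.X 0).toTopCat) (ModSite.toAb M) (i + 1)).toEquiv.subsingleton

end GrothLib.FCat7
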